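import Mathlib
import Cfsg.Prelude.Def_Characters

/-!
# Core character theory (helper5): transport, closure properties
-/

set_option autoImplicit false

namespace Cfsg.Agent.Lib.Helper05

open Representation

section Transport

variable {k G V W : Type*} [Field k] [Monoid G] [AddCommGroup V] [Module k V]
  [AddCommGroup W] [Module k W]

/-- Transport a representation along a linear equivalence. -/
noncomputable def conjRep (ρ : Representation k G V) (e : V ≃ₗ[k] W) : Representation k G W where
  toFun g := e.conj (ρ g)
  map_one' := by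
    ext w
    simp [LinearEquiv.conj_apply]
  map_mul' g h := by
    ext w
    simp [LinearEquiv.conj_apply]

theorem conjRep_apply (ρ : Representation k G V) (e : V ≃ₗ[k] W) (g : G) (w : W) :
    conjRep ρ e g w = e (ρ g (e.symm w)) := by
  simp [conjRep, LinearEquiv.conj_apply]

/-- The transported representation is equivalent to the original one. -/
noncomputable def conjRepEquiv (ρ : Representation k G V) (e : V ≃ₗ[k] W) :
    ρ.Equiv (conjRep ρ e) :=
  Representation.Equiv.mk e (fun g => by
    ext v
    simp [conjRep_apply])

/-- Irreducibility in terms of invariant submodules. -/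
theorem isIrreducible_iff (ρ : Representation k G V) :
    ρ.IsIrreducible ↔ Nontrivial V ∧
      ∀ U : Submodule k V, (∀ g : G, ∀ v ∈ U, ρ g v ∈ U) → U = ⊥ ∨ U = ⊤ := by
  constructor
  · intro h
    refine ⟨?_, ?_⟩
    · by_contra hV
      rw [not_nontrivial_iff_subsingleton] at hV
      obtain ⟨a, b, hab⟩ := h.toNontrivial
      apply hab
      apply Subrepresentation.toSubmodule_injective
      exact Subsingleton.elim _ _
    · intro U hU
      rcases h.eq_bot_or_eq_top ⟨U, fun g v hv => hU g v hv⟩ with h1 | h1
      · left
        exact congrArg Subrepresentation.toSubmodule h1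
      · right
        exact congrArg Subrepresentation.toSubmodule h1
  · rintro ⟨hV, h⟩
    refine { exists_pair_ne := ⟨⊥, ⊤, ?_⟩, eq_bot_or_eq_top := ?_ }
    · intro hbt
      have : (⊥ : Submodule k V) = ⊤ := congrArg Subrepresentation.toSubmodule hbt
      exact bot_ne_top this
    · intro U
      rcases h U.toSubmodule (fun g v hv => U.apply_mem_toSubmodule g hv) with h1 | h1
      · left
        exact Subrepresentation.toSubmodule_injective h1
      · right
        exact Subrepresentation.toSubmodule_injective h1

/-- Irreducibility is invariant under an equivariant linear equivalence. -/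
theorem isIrreducible_of_linearEquiv {ρ : Representation k G V} {σ : Representation k G W}
    (e : V ≃ₗ[k] W) (he : ∀ g v, e (ρ g v) = σ g (e v)) (h : ρ.IsIrreducible) :
    σ.IsIrreducible := by
  rw [isIrreducible_iff] at h ⊢
  obtain ⟨hV, h⟩ := h
  refine ⟨e.toEquiv.symm.nontrivial, ?_⟩
  intro U hU
  rcases h (U.comap e.toLinearMap) (fun g v hv => by
    simp only [Submodule.mem_comap, LinearEquiv.coe_coe] at hv ⊢
    rw [he]
    exact hU g _ hv) with h1 | h1
  · left
    rw [Submodule.eq_bot_iff]
    intro w hw
    have : e.symm w ∈ U.comap e.toLinearMap := by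
      simpa using hw
    rw [h1, Submodule.mem_bot] at this
    simpa using this
  · right
    rw [Submodule.eq_top_iff']
    intro w
    have : e.symm w ∈ U.comap e.toLinearMap := by
      rw [h1]; trivial
    simpa using this

/-- Irreducibility is invariant under equivalence. -/
theorem isIrreducible_of_equiv {ρ : Representation k G V} {σ : Representation k G W}
    (φ : ρ.Equiv σ) (h : ρ.IsIrreducible) : σ.IsIrreducible :=
  isIrreducible_of_linearEquiv φ.toLinearEquiv
    (fun g v => IntertwiningMap.isIntertwining ρ σ φ.toIntertwiningMap g v) h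

end Transport


section IsCharacter

variable {G : Type*} [Group G]

/-- The character of any finite-dimensional complex representation is a character in the sense
of the Prelude. -/
theorem isCharacter_of_rep {V : Type*} [AddCommGroup V] [Module ℂ V] [FiniteDimensional ℂ V]
    (ρ : Representation ℂ G V) : Cfsg.IsCharacter G ρ.character := by
  let e : V ≃ₗ[ℂ] (Fin (Module.finrank ℂ V) → ℂ) := (Module.finBasis ℂ V).equivFun
  exact ⟨Module.finrank ℂ V, conjRep ρ e, (Representation.char_iso (conjRepEquiv ρ e)).symm⟩

/-- The character of any finite-dimensional irreducible complex representation is an irreducible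
character in the sense of the Prelude. -/
theorem isIrrCharacter_of_rep {V : Type*} [AddCommGroup V] [Module ℂ V] [FiniteDimensional ℂ V]
    (ρ : Representation ℂ G V) (h : ρ.IsIrreducible) : Cfsg.IsIrrCharacter G ρ.character := by
  let e : V ≃ₗ[ℂ] (Fin (Module.finrank ℂ V) → ℂ) := (Module.finBasis ℂ V).equivFun
  exact ⟨Module.finrank ℂ V, conjRep ρ e, isIrreducible_of_equiv (conjRepEquiv ρ e) h,
    (Representation.char_iso (conjRepEquiv ρ e)).symm⟩

theorem IsIrrCharacter.isCharacter {χ : G → ℂ} (h : Cfsg.IsIrrCharacter G χ) :
    Cfsg.IsCharacter G χ := by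
  obtain ⟨n, ρ, _, hρ⟩ := h
  exact ⟨n, ρ, hρ⟩

theorem isCharacter_zero : Cfsg.IsCharacter G (0 : G → ℂ) := by
  refine ⟨0, Representation.trivial ℂ G (Fin 0 → ℂ), ?_⟩
  ext g
  simp [Representation.character]

theorem isCharacter_add {χ ψ : G → ℂ} (hχ : Cfsg.IsCharacter G χ) (hψ : Cfsg.IsCharacter G ψ) :
    Cfsg.IsCharacter G (χ + ψ) := by
  obtain ⟨n, ρ, rfl⟩ := hχ
  obtain ⟨m, σ, rfl⟩ := hψ
  have : (ρ.prod σ).character = ρ.character + σ.character := by
    ext g
    simp only [Representation.character, Pi.add_apply]
    have : (ρ.prod σ) g = (ρ g).prodMap (σ g) := rfl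
    rw [this, LinearMap.trace_prodMap']
  rw [← this]
  exact isCharacter_of_rep _

theorem isCharacter_mul {χ ψ : G → ℂ} (hχ : Cfsg.IsCharacter G χ) (hψ : Cfsg.IsCharacter G ψ) :
    Cfsg.IsCharacter G (χ * ψ) := by
  obtain ⟨n, ρ, rfl⟩ := hχ
  obtain ⟨m, σ, rfl⟩ := hψ
  rw [← Representation.char_tensor]
  exact isCharacter_of_rep _

theorem isCharacter_sum {ι : Type*} (s : Finset ι) (f : ι → G → ℂ)
    (h : ∀ i ∈ s, Cfsg.IsCharacter G (f i)) : Cfsg.IsCharacter G (∑ i ∈ s, f i) := by
  classical
  induction s using Finset.induction_on with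
  | empty => simpa using isCharacter_zero
  | insert a s ha ih =>
    rw [Finset.sum_insert ha]
    exact isCharacter_add (h a (Finset.mem_insert_self a s))
      (ih (fun i hi => h i (Finset.mem_insert_of_mem hi)))

theorem isCharacter_nsmul (n : ℕ) {χ : G → ℂ} (hχ : Cfsg.IsCharacter G χ) :
    Cfsg.IsCharacter G (n • χ) := by
  induction n with
  | zero => simpa using isCharacter_zero
  | succ n ih => rw [succ_nsmul]; exact isCharacter_add ih hχ

/-- Pulling a character back along a group homomorphism gives a character. -/
theorem isCharacter_comp {H : Type*} [Group H] (f : H →* G) {χ : G → ℂ}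
    (hχ : Cfsg.IsCharacter G χ) : Cfsg.IsCharacter H (fun h => χ (f h)) := by
  obtain ⟨n, ρ, rfl⟩ := hχ
  exact ⟨n, ρ.comp f, rfl⟩

/-- The restriction of a character to a subgroup is a character. -/
theorem isCharacter_restrict (H : Subgroup G) {χ : G → ℂ}
    (hχ : Cfsg.IsCharacter G χ) : Cfsg.IsCharacter H (fun h : H => χ h) :=
  isCharacter_comp H.subtype hχ

/-- A one-dimensional representation is irreducible. -/
theorem isIrreducible_of_finrank_eq_one {k V : Type*} [Field k] [AddCommGroup V] [Module k V]
    (ρ : Representation k G V) (h : Module.finrank k V = 1) : ρ.IsIrreducible := by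
  rw [isIrreducible_iff]
  have hfd : FiniteDimensional k V := Module.finite_of_finrank_eq_succ h
  refine ⟨Module.nontrivial_of_finrank_eq_succ h, ?_⟩
  intro U _
  by_cases hU : U = ⊥
  · left; exact hU
  · right
    apply Submodule.eq_top_of_finrank_eq
    have h1 : Module.finrank k U ≤ 1 := h ▸ Submodule.finrank_le U
    have h2 : 0 < Module.finrank k U := by
      rw [Module.finrank_pos_iff]
      exact Submodule.nontrivial_iff_ne_bot.mpr hU
    omega

/-- The representation on `Fin 1 → ℂ` attached to a linear character. -/
noncomputable def linRep (lam : G →* ℂˣ) : Representation ℂ G (Fin 1 → ℂ) where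
  toFun g := ((lam g : ℂˣ) : ℂ) • LinearMap.id
  map_one' := by
    ext v i
    simp
  map_mul' g h := by
    ext v i
    simp [mul_assoc]
    ring

theorem linRep_character (lam : G →* ℂˣ) : (linRep lam).character = fun g => ((lam g : ℂˣ) : ℂ) := by
  ext g
  simp [Representation.character, linRep]

/-- A linear character (homomorphism to `ℂˣ`) is an irreducible character. -/
theorem isIrrCharacter_of_hom (lam : G →* ℂˣ) :
    Cfsg.IsIrrCharacter G (fun g => ((lam g : ℂˣ) : ℂ)) :=
  ⟨1, linRep lam, isIrreducible_of_finrank_eq_one _ (by simp), linRep_character lam⟩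

/-- The trivial character is irreducible. -/
theorem isIrrCharacter_one : Cfsg.IsIrrCharacter G (fun _ => (1 : ℂ)) := by
  simpa using isIrrCharacter_of_hom (1 : G →* ℂˣ)

theorem isCharacter_one : Cfsg.IsCharacter G (fun _ => (1 : ℂ)) :=
  IsIrrCharacter.isCharacter isIrrCharacter_one

end IsCharacter

end Cfsg.Agent.Lib.Helper05
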