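import Mathlib
import Cfsg.Prelude.Def_Characters
import Cfsg.Agent.Lib.Helper05.CharBasic

/-!
# Core character theory (helper5): eigenvalues of group elements, character values
-/

set_option autoImplicit false

namespace Cfsg.Agent.Lib.Helper05

open Representation Module

section Eigen

variable {V : Type*} [AddCommGroup V] [Module ℂ V] [FiniteDimensional ℂ V]

/-- An endomorphism of finite order of a finite-dimensional complex vector space has a basis
of eigenvectors, with eigenvalues roots of unity. -/
theorem exists_eigenbasis_of_pow_eq_one (f : Module.End ℂ V) (n : ℕ) (hn : 0 < n)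
    (hf : f ^ n = 1) :
    ∃ (b : Basis (Fin (finrank ℂ V)) ℂ V) (μ : Fin (finrank ℂ V) → ℂ),
      (∀ i, μ i ^ n = 1) ∧ ∀ i, f (b i) = μ i • b i := by
  classical
  have hsq : Squarefree (Polynomial.X ^ n - Polynomial.C (1 : ℂ)) := by
    apply Polynomial.Separable.squarefree
    apply Polynomial.separable_X_pow_sub_C
    · exact_mod_cast hn.ne'
    · exact one_ne_zero
  have hss : f.IsSemisimple := by
    apply Module.End.isSemisimple_of_squarefree_aeval_eq_zero hsq
    simp [hf]
  let eigenDecomp := DirectSum.isInternal_submodule_of_iSupIndep_of_iSup_eq_top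
    f.eigenspaces_iSupIndep hss.iSup_eigenspace_eq_top
  let I := (ν : ℂ) × Fin (finrank ℂ (f.eigenspace ν))
  let v : Basis I ℂ V := eigenDecomp.collectedBasis fun μ ↦ finBasis ℂ (f.eigenspace μ)
  have : Fintype I := FiniteDimensional.fintypeBasisIndex v
  let μ : I → ℂ := Sigma.fst
  have hsv (i : I) : f (v i) = μ i • v i :=
    Module.End.mem_eigenspace_iff.mp (eigenDecomp.collectedBasis_mem _ i)
  have hcard : Fintype.card I = finrank ℂ V := (Module.finrank_eq_card_basis v).symm
  let e : I ≃ Fin (finrank ℂ V) := Fintype.equivFinOfCardEq hcard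
  refine ⟨v.reindex e, fun j => μ (e.symm j), ?_, ?_⟩
  · intro j
    have hv : v (e.symm j) ≠ 0 := v.ne_zero _
    have h1 : (f ^ n) (v (e.symm j)) = μ (e.symm j) ^ n • v (e.symm j) := by
      have : ∀ m : ℕ, (f ^ m) (v (e.symm j)) = μ (e.symm j) ^ m • v (e.symm j) := by
        intro m
        induction m with
        | zero => simp
        | succ m ih =>
          rw [pow_succ', Module.End.mul_apply, ih, map_smul, hsv, smul_smul, pow_succ]
      exact this n
    rw [hf, Module.End.one_apply] at h1
    have h2 : (μ (e.symm j) ^ n - 1) • v (e.symm j) = 0 := by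
      rw [sub_smul, one_smul, ← h1, sub_self]
    rcases smul_eq_zero.mp h2 with h3 | h3
    · exact sub_eq_zero.mp h3
    · exact absurd h3 hv
  · intro j
    simp only [Basis.reindex_apply]
    exact hsv _

/-- The trace of an endomorphism that is diagonal in a basis. -/
theorem trace_eq_sum_of_eigenbasis {ι : Type*} [Fintype ι] (f : Module.End ℂ V) (b : Basis ι ℂ V)
    (μ : ι → ℂ) (h : ∀ i, f (b i) = μ i • b i) : LinearMap.trace ℂ V f = ∑ i, μ i := by
  classical
  rw [LinearMap.trace_eq_matrix_trace ℂ b f, Matrix.trace]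
  apply Finset.sum_congr rfl
  intro i _
  simp [LinearMap.toMatrix_apply, h]

end Eigen

section CharValues

variable {G : Type*} [Group G] {V : Type*} [AddCommGroup V] [Module ℂ V] [FiniteDimensional ℂ V]

/-- For an element `g` of finite order, the operator `ρ g` is diagonalisable with eigenvalues
that are `orderOf g`-th roots of unity, and the character values on the powers of `g` are the
power sums of these eigenvalues. -/
theorem exists_eigenvalues (ρ : Representation ℂ G V) (g : G) (hg : IsOfFinOrder g) :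
    ∃ (b : Basis (Fin (finrank ℂ V)) ℂ V) (μ : Fin (finrank ℂ V) → ℂ),
      (∀ i, μ i ^ orderOf g = 1) ∧ (∀ i, ρ g (b i) = μ i • b i) ∧
      (∀ k : ℕ, ρ.character (g ^ k) = ∑ i, μ i ^ k) ∧
      (∀ k : ℤ, ρ.character (g ^ k) = ∑ i, μ i ^ k) := by
  have hpow : (ρ g) ^ orderOf g = 1 := by
    rw [← map_pow, pow_orderOf_eq_one, map_one]
  obtain ⟨b, μ, hμ, hb⟩ := exists_eigenbasis_of_pow_eq_one (ρ g) (orderOf g) hg.orderOf_pos hpow
  have hμ0 : ∀ i, μ i ≠ 0 := by
    intro i h0
    have := hμ i
    rw [h0, zero_pow hg.orderOf_pos.ne'] at this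
    exact zero_ne_one this
  have hnat : ∀ (k : ℕ) i, ρ (g ^ k) (b i) = μ i ^ k • b i := by
    intro k i
    induction k with
    | zero => simp
    | succ k ih =>
      rw [pow_succ', map_mul, Module.End.mul_apply, ih, map_smul, hb, smul_smul, pow_succ]
  have hint : ∀ (k : ℤ) i, ρ (g ^ k) (b i) = μ i ^ k • b i := by
    intro k i
    cases k with
    | ofNat k => simpa using hnat k i
    | negSucc k =>
      rw [zpow_negSucc, zpow_negSucc]
      have h1 := hnat (k + 1) i
      have h2 : ρ (g ^ (k + 1))⁻¹ (ρ (g ^ (k + 1)) (b i)) = b i := by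
        rw [← Module.End.mul_apply, ← map_mul, inv_mul_cancel, map_one, Module.End.one_apply]
      rw [h1, map_smul] at h2
      have h3 : (μ i ^ (k + 1)) ≠ 0 := pow_ne_zero _ (hμ0 i)
      calc ρ (g ^ (k + 1))⁻¹ (b i)
          = (μ i ^ (k + 1))⁻¹ • (μ i ^ (k + 1) • ρ (g ^ (k + 1))⁻¹ (b i)) := by
            rw [smul_smul, inv_mul_cancel₀ h3, one_smul]
        _ = (μ i ^ (k + 1))⁻¹ • b i := by rw [h2]
  refine ⟨b, μ, hμ, hb, ?_, ?_⟩
  · intro k
    exact trace_eq_sum_of_eigenbasis _ b _ (hnat k)
  · intro k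
    exact trace_eq_sum_of_eigenbasis _ b _ (hint k)

/-- In a finite group, the character value at the inverse is the complex conjugate. -/
theorem char_inv_eq_conj [Finite G] (ρ : Representation ℂ G V) (g : G) :
    ρ.character g⁻¹ = (starRingEnd ℂ) (ρ.character g) := by
  obtain ⟨b, μ, hμ, _, _, hk⟩ := exists_eigenvalues ρ g (isOfFinOrder_of_finite g)
  have h1 := hk (-1)
  have h2 := hk 1
  simp only [zpow_neg, zpow_one] at h1 h2
  rw [h1, h2, map_sum]
  apply Finset.sum_congr rfl
  intro i _
  have hn : 0 < orderOf g := (isOfFinOrder_of_finite g).orderOf_pos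
  have hnorm : ‖μ i‖ = 1 := Complex.norm_eq_one_of_pow_eq_one (hμ i) hn.ne'
  rw [Complex.inv_def, Complex.normSq_eq_norm_sq, hnorm]
  simp

end CharValues

end Cfsg.Agent.Lib.Helper05
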