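import Mathlib
import Cfsg.Prelude.Def_Characters
import Cfsg.Agent.Lib.Helper05.CharBasic
import Cfsg.Agent.Lib.Helper05.CharValues

/-!
# Core character theory (helper5): the inner product `Cfsg.classInner` and first orthogonality
-/

set_option autoImplicit false

namespace Cfsg.Agent.Lib.Helper05

open Representation Module
open scoped ComplexConjugate

section ClassInner

variable {G : Type*} [Group G] [Fintype G]

theorem classInner_add_left (φ₁ φ₂ ψ : G → ℂ) :
    Cfsg.classInner (φ₁ + φ₂) ψ = Cfsg.classInner φ₁ ψ + Cfsg.classInner φ₂ ψ := by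
  simp [Cfsg.classInner, add_mul, Finset.sum_add_distrib, mul_add]

theorem classInner_add_right (φ ψ₁ ψ₂ : G → ℂ) :
    Cfsg.classInner φ (ψ₁ + ψ₂) = Cfsg.classInner φ ψ₁ + Cfsg.classInner φ ψ₂ := by
  simp [Cfsg.classInner, mul_add, Finset.sum_add_distrib]

theorem classInner_sub_left (φ₁ φ₂ ψ : G → ℂ) :
    Cfsg.classInner (φ₁ - φ₂) ψ = Cfsg.classInner φ₁ ψ - Cfsg.classInner φ₂ ψ := by
  simp [Cfsg.classInner, sub_mul, Finset.sum_sub_distrib, mul_sub]

theorem classInner_sub_right (φ ψ₁ ψ₂ : G → ℂ) :
    Cfsg.classInner φ (ψ₁ - ψ₂) = Cfsg.classInner φ ψ₁ - Cfsg.classInner φ ψ₂ := by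
  simp [Cfsg.classInner, mul_sub, Finset.sum_sub_distrib]

theorem classInner_smul_left (c : ℂ) (φ ψ : G → ℂ) :
    Cfsg.classInner (c • φ) ψ = c * Cfsg.classInner φ ψ := by
  simp only [Cfsg.classInner, Pi.smul_apply, smul_eq_mul, Finset.mul_sum]
  apply Finset.sum_congr rfl
  intro g _
  ring

theorem classInner_smul_right (c : ℂ) (φ ψ : G → ℂ) :
    Cfsg.classInner φ (c • ψ) = conj c * Cfsg.classInner φ ψ := by
  simp only [Cfsg.classInner, Pi.smul_apply, smul_eq_mul, Finset.mul_sum, map_mul]
  apply Finset.sum_congr rfl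
  intro g _
  ring

theorem classInner_zero_left (ψ : G → ℂ) : Cfsg.classInner (0 : G → ℂ) ψ = 0 := by
  simp [Cfsg.classInner]

theorem classInner_zero_right (φ : G → ℂ) : Cfsg.classInner φ (0 : G → ℂ) = 0 := by
  simp [Cfsg.classInner]

theorem classInner_sum_left {ι : Type*} (s : Finset ι) (φ : ι → G → ℂ) (ψ : G → ℂ) :
    Cfsg.classInner (∑ i ∈ s, φ i) ψ = ∑ i ∈ s, Cfsg.classInner (φ i) ψ := by
  classical
  induction s using Finset.induction_on with
  | empty => simp [classInner_zero_left]
  | insert a s ha ih => rw [Finset.sum_insert ha, Finset.sum_insert ha, classInner_add_left, ih]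

theorem classInner_sum_right {ι : Type*} (s : Finset ι) (φ : G → ℂ) (ψ : ι → G → ℂ) :
    Cfsg.classInner φ (∑ i ∈ s, ψ i) = ∑ i ∈ s, Cfsg.classInner φ (ψ i) := by
  classical
  induction s using Finset.induction_on with
  | empty => simp [classInner_zero_right]
  | insert a s ha ih => rw [Finset.sum_insert ha, Finset.sum_insert ha, classInner_add_right, ih]

theorem classInner_conj_symm (φ ψ : G → ℂ) :
    conj (Cfsg.classInner φ ψ) = Cfsg.classInner ψ φ := by
  simp only [Cfsg.classInner, map_mul, map_inv₀, Complex.conj_natCast, map_sum, Complex.conj_conj]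
  congr 1
  apply Finset.sum_congr rfl
  intro g _
  ring

end ClassInner

section Ortho

variable {G : Type*} [Group G] [Fintype G]
  {V W : Type*} [AddCommGroup V] [Module ℂ V] [FiniteDimensional ℂ V]
  [AddCommGroup W] [Module ℂ W] [FiniteDimensional ℂ W]

theorem card_ne_zero_complex : (Nat.card G : ℂ) ≠ 0 := by
  exact_mod_cast Nat.card_pos.ne'

/-- The inner product of two characters is the dimension of the space of intertwining maps. -/
theorem classInner_char_eq_finrank (ρ : Representation ℂ G V) (σ : Representation ℂ G W) :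
    Cfsg.classInner ρ.character σ.character = (finrank ℂ (IntertwiningMap σ ρ) : ℂ) := by
  haveI : Invertible (Nat.card G : ℂ) := invertibleOfNonzero card_ne_zero_complex
  rw [← Representation.card_inv_mul_sum_char_mul_char_eq_finrank σ ρ]
  simp only [Cfsg.classInner]
  congr 1
  apply Finset.sum_congr rfl
  intro g _
  rw [char_inv_eq_conj]

open scoped Classical in
/-- First orthogonality relation for irreducible representations. -/
theorem classInner_char_irreducible (ρ : Representation ℂ G V) (σ : Representation ℂ G W)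
    (hρ : ρ.IsIrreducible) (hσ : σ.IsIrreducible) :
    Cfsg.classInner ρ.character σ.character = if Nonempty (σ.Equiv ρ) then 1 else 0 := by
  haveI : Invertible (Nat.card G : ℂ) := invertibleOfNonzero card_ne_zero_complex
  haveI := hρ
  haveI := hσ
  have := Representation.char_orthonormal ρ σ
  rw [← this]
  simp only [Cfsg.classInner]
  congr 1
  apply Finset.sum_congr rfl
  intro g _
  rw [char_inv_eq_conj]

theorem classInner_self_irreducible (ρ : Representation ℂ G V) (hρ : ρ.IsIrreducible) :
    Cfsg.classInner ρ.character ρ.character = 1 := by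
  classical
  rw [classInner_char_irreducible ρ ρ hρ hρ, if_pos ⟨Representation.Equiv.refl ρ⟩]

/-- Irreducible representations with the same character are equivalent. -/
theorem nonempty_equiv_of_char_eq_of_irreducible (ρ : Representation ℂ G V)
    (σ : Representation ℂ G W) (hρ : ρ.IsIrreducible) (hσ : σ.IsIrreducible)
    (h : ρ.character = σ.character) : Nonempty (σ.Equiv ρ) := by
  classical
  by_contra hne
  have h1 := classInner_char_irreducible ρ σ hρ hσ
  rw [if_neg hne, ← h, classInner_self_irreducible ρ hρ] at h1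
  exact one_ne_zero h1

open scoped Classical in
/-- First orthogonality relation for irreducible characters in the sense of the Prelude. -/
theorem classInner_irr {χ ψ : G → ℂ} (hχ : Cfsg.IsIrrCharacter G χ)
    (hψ : Cfsg.IsIrrCharacter G ψ) :
    Cfsg.classInner χ ψ = if χ = ψ then 1 else 0 := by
  obtain ⟨n, ρ, hρ, rfl⟩ := hχ
  obtain ⟨m, σ, hσ, rfl⟩ := hψ
  rw [classInner_char_irreducible ρ σ hρ hσ]
  by_cases h : Nonempty (σ.Equiv ρ)
  · rw [if_pos h, if_pos (Representation.char_iso h.some).symm]
  · rw [if_neg h, if_neg]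
    intro heq
    exact h (nonempty_equiv_of_char_eq_of_irreducible ρ σ hρ hσ heq)

theorem classInner_irr_self {χ : G → ℂ} (hχ : Cfsg.IsIrrCharacter G χ) :
    Cfsg.classInner χ χ = 1 := by
  classical
  rw [classInner_irr hχ hχ, if_pos rfl]

theorem classInner_irr_ne {χ ψ : G → ℂ} (hχ : Cfsg.IsIrrCharacter G χ)
    (hψ : Cfsg.IsIrrCharacter G ψ) (h : χ ≠ ψ) : Cfsg.classInner χ ψ = 0 := by
  classical
  rw [classInner_irr hχ hψ, if_neg h]

/-- An irreducible character is non-zero. -/
theorem IsIrrCharacter.ne_zero {χ : G → ℂ} (hχ : Cfsg.IsIrrCharacter G χ) : χ ≠ 0 := by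
  intro h
  have := classInner_irr_self hχ
  rw [h, classInner_zero_left] at this
  exact zero_ne_one this

end Ortho

end Cfsg.Agent.Lib.Helper05
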