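import Mathlib
import Cfsg.Prelude.Def_Characters
import Cfsg.Agent.Lib.Helper05.CharBasic
import Cfsg.Agent.Lib.Helper05.CharValues
import Cfsg.Agent.Lib.Helper05.CharOrtho

/-!
# Core character theory (helper5): complete reducibility
-/

set_option autoImplicit false

namespace Cfsg.Agent.Lib.Helper05

open Representation Module

universe u

section Decomp

variable {G : Type*} [Group G] {V : Type*} [AddCommGroup V] [Module ℂ V]

theorem char_prod {W : Type*} [AddCommGroup W] [Module ℂ W] [FiniteDimensional ℂ V]
    [FiniteDimensional ℂ W] (ρ : Representation ℂ G V) (σ : Representation ℂ G W) :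
    (ρ.prod σ).character = ρ.character + σ.character := by
  ext g
  simp only [Representation.character, Pi.add_apply]
  have : (ρ.prod σ) g = (ρ g).prodMap (σ g) := rfl
  rw [this, LinearMap.trace_prodMap']

/-- A representation is equivalent to the product of two complementary subrepresentations. -/
noncomputable def equivProdOfIsCompl (ρ : Representation ℂ G V) (U U' : Submodule ℂ V)
    (hU : ∀ g, U ≤ U.comap (ρ g)) (hU' : ∀ g, U' ≤ U'.comap (ρ g)) (h : IsCompl U U') :
    ((ρ.subrepresentation U hU).prod (ρ.subrepresentation U' hU')).Equiv ρ :=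
  Representation.Equiv.mk (Submodule.prodEquivOfIsCompl U U' h) (fun g => by
    ext ⟨u, u'⟩
    all_goals simp [Representation.prod, Representation.subrepresentation])

theorem char_eq_add_of_isCompl [FiniteDimensional ℂ V] (ρ : Representation ℂ G V)
    (U U' : Submodule ℂ V)
    (hU : ∀ g, U ≤ U.comap (ρ g)) (hU' : ∀ g, U' ≤ U'.comap (ρ g)) (h : IsCompl U U') :
    ρ.character = (ρ.subrepresentation U hU).character + (ρ.subrepresentation U' hU').character := by
  rw [← char_prod, Representation.char_iso (equivProdOfIsCompl ρ U U' hU hU' h)]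

/-- A non-zero finite-dimensional representation contains an irreducible subrepresentation. -/
theorem exists_irreducible_invariant [FiniteDimensional ℂ V] [Nontrivial V]
    (ρ : Representation ℂ G V) :
    ∃ (U : Submodule ℂ V) (hU : ∀ g, U ≤ U.comap (ρ g)),
      (ρ.subrepresentation U hU).IsIrreducible := by
  let S : Set (Submodule ℂ V) := {U | U ≠ ⊥ ∧ ∀ g, U ≤ U.comap (ρ g)}
  have hS : S.Nonempty := ⟨⊤, top_ne_bot, fun g => le_top⟩
  obtain ⟨U, hUS, hmin⟩ :=
    (measure (fun U : Submodule ℂ V => finrank ℂ U)).wf.has_min S hS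
  refine ⟨U, hUS.2, ?_⟩
  rw [isIrreducible_iff]
  refine ⟨Submodule.nontrivial_iff_ne_bot.mpr hUS.1, ?_⟩
  intro X hX
  by_cases hX0 : X = ⊥
  · left; exact hX0
  · right
    have hmem : X.map U.subtype ∈ S := by
      refine ⟨?_, ?_⟩
      · intro h0
        apply hX0
        rw [Submodule.eq_bot_iff]
        intro x hx
        have : U.subtype x ∈ X.map U.subtype := ⟨x, hx, rfl⟩
        rw [h0, Submodule.mem_bot] at this
        exact Subtype.ext this
      · intro g v hv
        obtain ⟨x, hx, rfl⟩ := hv
        exact ⟨_, hX g x hx, rfl⟩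
    have h1 := hmin _ hmem
    simp only [InvImage, WellFoundedRelation.rel, not_lt] at h1
    have h2 : finrank ℂ (X.map U.subtype) = finrank ℂ X :=
      (Submodule.equivSubtypeMap U X).symm.finrank_eq
    apply Submodule.eq_top_of_finrank_eq
    have h3 := Submodule.finrank_le X
    omega

/-- Maschke: a non-zero finite-dimensional representation of a finite group splits as an
irreducible subrepresentation plus a complementary subrepresentation. -/
theorem exists_irreducible_isCompl [Finite G] [FiniteDimensional ℂ V] [Nontrivial V]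
    (ρ : Representation ℂ G V) :
    ∃ (U U' : Submodule ℂ V) (hU : ∀ g, U ≤ U.comap (ρ g)) (hU' : ∀ g, U' ≤ U'.comap (ρ g)),
      IsCompl U U' ∧ (ρ.subrepresentation U hU).IsIrreducible := by
  obtain ⟨U, hU, hirr⟩ := exists_irreducible_invariant ρ
  haveI : NeZero (Nat.card G : ℂ) := ⟨by exact_mod_cast Nat.card_pos.ne'⟩
  obtain ⟨U', hU'⟩ := exists_isCompl (⟨U, fun g v hv => hU g hv⟩ : Subrepresentation ρ)
  refine ⟨U, U'.toSubmodule, hU, fun g v hv => U'.apply_mem_toSubmodule g hv, ?_, hirr⟩
  constructor
  · rw [disjoint_iff]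
    have := hU'.inf_eq_bot
    exact congrArg Subrepresentation.toSubmodule this
  · rw [codisjoint_iff]
    have := hU'.sup_eq_top
    exact congrArg Subrepresentation.toSubmodule this

/-- Induction principle for finite-dimensional complex representations of a finite group:
peel off an irreducible direct summand. -/
theorem rep_induction [Finite G]
    {P : ∀ (V : Type u) [AddCommGroup V] [Module ℂ V] [FiniteDimensional ℂ V],
      Representation ℂ G V → Prop}
    (h0 : ∀ (V : Type u) [AddCommGroup V] [Module ℂ V] [FiniteDimensional ℂ V]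
      (ρ : Representation ℂ G V), Subsingleton V → P V ρ)
    (hstep : ∀ (V : Type u) [AddCommGroup V] [Module ℂ V] [FiniteDimensional ℂ V]
      (ρ : Representation ℂ G V) (U U' : Submodule ℂ V)
      (hU : ∀ g, U ≤ U.comap (ρ g)) (hU' : ∀ g, U' ≤ U'.comap (ρ g)),
      IsCompl U U' → (ρ.subrepresentation U hU).IsIrreducible →
      P U' (ρ.subrepresentation U' hU') → P V ρ)
    (V : Type u) [AddCommGroup V] [Module ℂ V] [FiniteDimensional ℂ V]
    (ρ : Representation ℂ G V) : P V ρ := by
  induction hn : finrank ℂ V using Nat.strong_induction_on generalizing V with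
  | _ n ih =>
    by_cases hV : Subsingleton V
    · exact h0 V ρ hV
    · rw [not_subsingleton_iff_nontrivial] at hV
      obtain ⟨U, U', hU, hU', hc, hirr⟩ := exists_irreducible_isCompl ρ
      apply hstep V ρ U U' hU hU' hc hirr
      have hUpos : 0 < finrank ℂ U := by
        rw [Module.finrank_pos_iff]
        rw [isIrreducible_iff] at hirr
        exact hirr.1
      have hsum := Submodule.finrank_add_eq_of_isCompl hc
      exact ih (finrank ℂ U') (by omega) U' (ρ.subrepresentation U' hU') rfl

end Decomp


section Multiset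

variable {G : Type*} [Group G] [Finite G]

/-- The character of a representation on a trivial space is zero. -/
theorem char_eq_zero_of_subsingleton {V : Type*} [AddCommGroup V] [Module ℂ V]
    [Subsingleton V] (ρ : Representation ℂ G V) : ρ.character = 0 := by
  ext g
  have : ρ g = 0 := Subsingleton.elim _ _
  simp [Representation.character, this]

/-- Complete reducibility at the level of characters: the character of a finite-dimensional
complex representation of a finite group is a finite sum of irreducible characters. -/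
theorem exists_multiset_irr_of_rep (V : Type u) [AddCommGroup V] [Module ℂ V]
    [FiniteDimensional ℂ V] (ρ : Representation ℂ G V) :
    ∃ l : Multiset (G → ℂ), (∀ ψ ∈ l, Cfsg.IsIrrCharacter G ψ) ∧ ρ.character = l.sum := by
  revert ρ
  revert V
  apply rep_induction
  · intro V _ _ _ ρ hV
    exact ⟨0, by simp, by simpa using char_eq_zero_of_subsingleton ρ⟩
  · intro V _ _ _ ρ U U' hU hU' hc hirr ih
    obtain ⟨l, hl, hsum⟩ := ih
    refine ⟨(ρ.subrepresentation U hU).character ::ₘ l, ?_, ?_⟩
    · intro ψ hψ
      rcases Multiset.mem_cons.mp hψ with h | h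
      · rw [h]
        exact isIrrCharacter_of_rep _ hirr
      · exact hl ψ h
    · rw [Multiset.sum_cons, ← hsum]
      exact char_eq_add_of_isCompl ρ U U' hU hU' hc

/-- Every character is a finite sum of irreducible characters. -/
theorem exists_multiset_irr {χ : G → ℂ} (hχ : Cfsg.IsCharacter G χ) :
    ∃ l : Multiset (G → ℂ), (∀ ψ ∈ l, Cfsg.IsIrrCharacter G ψ) ∧ χ = l.sum := by
  obtain ⟨n, ρ, rfl⟩ := hχ
  exact exists_multiset_irr_of_rep _ ρ

/-- The irreducible characters are linearly independent. -/
theorem linearIndependent_irrCharacter :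
    LinearIndependent ℂ (fun χ : Cfsg.IrrCharacter G => (χ : G → ℂ)) := by
  classical
  haveI : Fintype G := Fintype.ofFinite G
  rw [linearIndependent_iff']
  intro s c hc j hj
  have h1 : Cfsg.classInner (∑ i ∈ s, c i • (i : G → ℂ)) (j : G → ℂ) = 0 := by
    rw [hc, classInner_zero_left]
  rw [classInner_sum_left, Finset.sum_eq_single j] at h1
  · rw [classInner_smul_left, classInner_irr_self j.2, mul_one] at h1
    exact h1
  · intro i _ hij
    rw [classInner_smul_left, classInner_irr_ne i.2 j.2 (fun h => hij (Subtype.ext h)), mul_zero]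
  · intro h
    exact absurd hj h

/-- A finite group has finitely many irreducible characters. -/
theorem finite_irrCharacter : Finite (Cfsg.IrrCharacter G) :=
  (linearIndependent_irrCharacter (G := G)).finite_of_isNoetherian

end Multiset

section Coeff

theorem isCharacter_sum_multiset {G : Type*} [Group G] (l : Multiset (G → ℂ))
    (h : ∀ ψ ∈ l, Cfsg.IsIrrCharacter G ψ) : Cfsg.IsCharacter G l.sum := by
  induction l using Multiset.induction_on with
  | empty => simpa using isCharacter_zero
  | cons a l ih =>
    rw [Multiset.sum_cons]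
    exact isCharacter_add (IsIrrCharacter.isCharacter (h a (Multiset.mem_cons_self a l)))
      (ih (fun ψ hψ => h ψ (Multiset.mem_cons_of_mem hψ)))

variable {G : Type*} [Group G] [Fintype G] [Fintype (Cfsg.IrrCharacter G)]

/-- The inner product of a combination of irreducible characters with an irreducible
character picks out the coefficient. -/
theorem classInner_sum_irr_left (c : Cfsg.IrrCharacter G → ℂ) (φ : Cfsg.IrrCharacter G) :
    Cfsg.classInner (∑ ψ : Cfsg.IrrCharacter G, c ψ • (ψ : G → ℂ)) (φ : G → ℂ) = c φ := by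
  classical
  rw [classInner_sum_left, Finset.sum_eq_single φ]
  · rw [classInner_smul_left, classInner_irr_self φ.2, mul_one]
  · intro i _ hij
    rw [classInner_smul_left, classInner_irr_ne i.2 φ.2 (fun h => hij (Subtype.ext h)), mul_zero]
  · intro h
    exact absurd (Finset.mem_univ φ) h

/-- Every character is a combination of the irreducible characters with natural number
coefficients. -/
theorem exists_nat_coeff {χ : G → ℂ} (hχ : Cfsg.IsCharacter G χ) :
    ∃ m : Cfsg.IrrCharacter G → ℕ, χ = ∑ ψ : Cfsg.IrrCharacter G, (m ψ : ℂ) • (ψ : G → ℂ) := by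
  classical
  obtain ⟨l, hl, rfl⟩ := exists_multiset_irr hχ
  induction l using Multiset.induction_on with
  | empty => exact ⟨fun _ => 0, by simp⟩
  | cons a l ih =>
    obtain ⟨m, hm⟩ := ih (fun ψ hψ => hl ψ (Multiset.mem_cons_of_mem hψ))
      (isCharacter_sum_multiset l (fun ψ hψ => hl ψ (Multiset.mem_cons_of_mem hψ)))
    refine ⟨fun ψ => if ψ = ⟨a, hl a (Multiset.mem_cons_self a l)⟩ then m ψ + 1 else m ψ, ?_⟩
    rw [Multiset.sum_cons, hm]
    have : ∀ ψ : Cfsg.IrrCharacter G,
        (((if ψ = ⟨a, hl a (Multiset.mem_cons_self a l)⟩ then m ψ + 1 else m ψ : ℕ) : ℂ)) •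
          (ψ : G → ℂ) = (m ψ : ℂ) • (ψ : G → ℂ) +
          (if ψ = ⟨a, hl a (Multiset.mem_cons_self a l)⟩ then (ψ : G → ℂ) else 0) := by
      intro ψ
      split_ifs with h
      · push_cast
        rw [add_smul, one_smul]
      · simp
    simp_rw [this]
    rw [Finset.sum_add_distrib, Finset.sum_ite_eq' Finset.univ, if_pos (Finset.mem_univ _)]
    rw [add_comm]

end Coeff


section Criteria

variable {G : Type*} [Group G] [Fintype G]

open scoped ComplexConjugate

/-- The multiplicity of an irreducible character in a character is a natural number. -/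
theorem exists_nat_classInner {χ ψ : G → ℂ} (hχ : Cfsg.IsCharacter G χ)
    (hψ : Cfsg.IsIrrCharacter G ψ) : ∃ n : ℕ, Cfsg.classInner χ ψ = n := by
  haveI := finite_irrCharacter (G := G)
  haveI : Fintype (Cfsg.IrrCharacter G) := Fintype.ofFinite _
  obtain ⟨m, rfl⟩ := exists_nat_coeff hχ
  exact ⟨m ⟨ψ, hψ⟩, classInner_sum_irr_left (fun φ => (m φ : ℂ)) ⟨ψ, hψ⟩⟩

/-- A character is the sum of the irreducible characters weighted by the inner products. -/
theorem eq_sum_classInner_smul [Fintype (Cfsg.IrrCharacter G)] {χ : G → ℂ}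
    (hχ : Cfsg.IsCharacter G χ) :
    χ = ∑ ψ : Cfsg.IrrCharacter G, Cfsg.classInner χ (ψ : G → ℂ) • (ψ : G → ℂ) := by
  obtain ⟨m, hm⟩ := exists_nat_coeff hχ
  have : ∀ ψ : Cfsg.IrrCharacter G, Cfsg.classInner χ (ψ : G → ℂ) = m ψ := by
    intro ψ
    rw [hm]
    exact classInner_sum_irr_left (fun φ => (m φ : ℂ)) ψ
  simp_rw [this]
  exact hm

/-- A character of norm one is irreducible. -/
theorem isIrrCharacter_of_classInner_self_eq_one {χ : G → ℂ} (hχ : Cfsg.IsCharacter G χ)
    (h1 : Cfsg.classInner χ χ = 1) : Cfsg.IsIrrCharacter G χ := by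
  classical
  haveI := finite_irrCharacter (G := G)
  haveI : Fintype (Cfsg.IrrCharacter G) := Fintype.ofFinite _
  obtain ⟨m, hm⟩ := exists_nat_coeff hχ
  have hnorm : Cfsg.classInner χ χ = ∑ ψ : Cfsg.IrrCharacter G, ((m ψ : ℂ)) ^ 2 := by
    conv_lhs => rw [hm]
    rw [classInner_sum_right]
    apply Finset.sum_congr rfl
    intro ψ _
    rw [classInner_smul_right, classInner_sum_irr_left (fun φ => (m φ : ℂ)) ψ]
    simp [sq]
  rw [h1] at hnorm
  have hnat : ∑ ψ : Cfsg.IrrCharacter G, (m ψ) ^ 2 = 1 := by
    have : ((∑ ψ : Cfsg.IrrCharacter G, (m ψ) ^ 2 : ℕ) : ℂ) = ((1 : ℕ) : ℂ) := by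
      push_cast
      exact hnorm.symm
    exact_mod_cast this
  have hex : ∃ ψ0, m ψ0 ≠ 0 := by
    by_contra hno
    push Not at hno
    simp [hno] at hnat
  obtain ⟨ψ0, hψ0⟩ := hex
  have hsplit := Finset.add_sum_erase Finset.univ (fun ψ => (m ψ) ^ 2) (Finset.mem_univ ψ0)
  rw [hnat] at hsplit
  have hm0 : m ψ0 = 1 := by
    have : (m ψ0) ^ 2 ≤ 1 := by omega
    have h2 : m ψ0 ≤ 1 := by nlinarith
    omega
  have hrest : ∀ ψ, ψ ≠ ψ0 → m ψ = 0 := by
    intro ψ hψ
    have h0 : ∑ x ∈ Finset.univ.erase ψ0, (m x) ^ 2 = 0 := by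
      rw [hm0] at hsplit
      omega
    have := (Finset.sum_eq_zero_iff.mp h0) ψ (Finset.mem_erase.mpr ⟨hψ, Finset.mem_univ ψ⟩)
    exact pow_eq_zero_iff (two_ne_zero) |>.mp this
  have : χ = (ψ0 : G → ℂ) := by
    rw [hm, Finset.sum_eq_single ψ0]
    · rw [hm0]; simp
    · intro ψ _ hψ
      rw [hrest ψ hψ]; simp
    · intro h
      exact absurd (Finset.mem_univ ψ0) h
  rw [this]
  exact ψ0.2

omit [Fintype G] in
/-- The complex conjugate of a character is a character (dual representation). -/
theorem isCharacter_conj [Finite G] {χ : G → ℂ} (hχ : Cfsg.IsCharacter G χ) :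
    Cfsg.IsCharacter G (fun g => conj (χ g)) := by
  obtain ⟨n, ρ, rfl⟩ := hχ
  have : (fun g => conj (ρ.character g)) = ρ.dual.character := by
    ext g
    rw [Representation.char_dual, char_inv_eq_conj]
  rw [this]
  exact isCharacter_of_rep _

theorem classInner_conj_conj (φ ψ : G → ℂ) :
    Cfsg.classInner (fun g => conj (φ g)) (fun g => conj (ψ g)) = conj (Cfsg.classInner φ ψ) := by
  simp only [Cfsg.classInner, map_mul, map_inv₀, Complex.conj_natCast, map_sum, Complex.conj_conj]

/-- The complex conjugate of an irreducible character is an irreducible character. -/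
theorem isIrrCharacter_conj {χ : G → ℂ} (hχ : Cfsg.IsIrrCharacter G χ) :
    Cfsg.IsIrrCharacter G (fun g => conj (χ g)) := by
  apply isIrrCharacter_of_classInner_self_eq_one (isCharacter_conj (IsIrrCharacter.isCharacter hχ))
  rw [classInner_conj_conj, classInner_irr_self hχ, map_one]

omit [Fintype G] in
/-- The degree of a character is a natural number. -/
theorem exists_nat_degree {χ : G → ℂ} (hχ : Cfsg.IsCharacter G χ) : ∃ n : ℕ, χ 1 = n := by
  obtain ⟨n, ρ, rfl⟩ := hχ
  exact ⟨Module.finrank ℂ (Fin n → ℂ), by simp⟩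

omit [Fintype G] in
/-- The degree of an irreducible character is a positive natural number. -/
theorem exists_pos_degree {χ : G → ℂ} (hχ : Cfsg.IsIrrCharacter G χ) :
    ∃ n : ℕ, 0 < n ∧ χ 1 = n := by
  obtain ⟨n, ρ, hirr, rfl⟩ := hχ
  refine ⟨Module.finrank ℂ (Fin n → ℂ), ?_, by simp⟩
  rw [Module.finrank_pos_iff]
  rw [isIrreducible_iff] at hirr
  exact hirr.1

end Criteria

end Cfsg.Agent.Lib.Helper05
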