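import Mathlib
import Cfsg.Prelude.Def_Transfer
import Cfsg.Agent.Lib.Helper29.HyperplaneInt
import Cfsg.Agent.Lib.Helper55.Coprime

/-!
# Keystone K-S1444-C2 (Bender–Glauberman Thm 3.6, final configuration, hyperplane/norm-map case)
-/

set_option autoImplicit false
set_option linter.unusedSectionVars false
set_option linter.unusedVariables false
set_option linter.style.haveILetI false

namespace Cfsg.Agent.Lib.Helper05.BG36C2

open Cfsg
open scoped Pointwise IsMulCommutative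

variable {Γ : Type*} [Group Γ]

/-! ## Conjugation on an abelian subgroup -/

/-- conjugation by an element of the normalizer, as an endomorphism of `V` -/
def cj (V : Subgroup Γ) (g : Γ) (hg : g ∈ Subgroup.normalizer (V : Set Γ)) : V →* V where
  toFun v := ⟨g * v * g⁻¹, (Subgroup.mem_normalizer_iff.mp hg v).mp v.2⟩
  map_one' := by ext; simp
  map_mul' a b := by ext; simp [mul_assoc]

@[simp] theorem cj_coe (V : Subgroup Γ) (g : Γ) (hg : g ∈ Subgroup.normalizer (V : Set Γ)) (v : V) :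
    ((cj V g hg v : V) : Γ) = g * v * g⁻¹ := rfl

theorem cj_congr (V : Subgroup Γ) {g h : Γ} (hg : g ∈ Subgroup.normalizer (V : Set Γ))
    (hh : h ∈ Subgroup.normalizer (V : Set Γ)) (hgh : g = h) (v : V) : cj V g hg v = cj V h hh v := by
  subst hgh; rfl

theorem cj_mul (V : Subgroup Γ) {g h : Γ} (hg : g ∈ Subgroup.normalizer (V : Set Γ))
    (hh : h ∈ Subgroup.normalizer (V : Set Γ)) (v : V) :
    cj V g hg (cj V h hh v) = cj V (g * h) ((Subgroup.normalizer (V : Set Γ)).mul_mem hg hh) v := by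
  ext; simp [mul_assoc]

theorem cj_one (V : Subgroup Γ) (v : V) :
    cj V 1 ((Subgroup.normalizer (V : Set Γ)).one_mem) v = v := by
  ext; simp

variable (V : Subgroup Γ) [IsMulCommutative V]

/-- the norm map of a finite subgroup `B` normalizing `V` -/
noncomputable def nrm (B : Subgroup Γ) [Fintype B] (hB : B ≤ Subgroup.normalizer (V : Set Γ)) :
    V →* V := ∏ b : B, cj V (b : Γ) (hB b.2)

theorem nrm_apply (B : Subgroup Γ) [Fintype B] (hB : B ≤ Subgroup.normalizer (V : Set Γ)) (v : V) :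
    nrm V B hB v = ∏ b : B, cj V (b : Γ) (hB b.2) v := by
  unfold nrm
  rw [MonoidHom.finsetProd_apply]

/-- on the fixed points of `B` the norm is the `|B|`-th power -/
theorem nrm_fixed (B : Subgroup Γ) [Fintype B] (hB : B ≤ Subgroup.normalizer (V : Set Γ)) (v : V)
    (hv : ∀ b ∈ B, b * (v : Γ) * b⁻¹ = v) : nrm V B hB v = v ^ Fintype.card B := by
  rw [nrm_apply, Finset.prod_eq_pow_card (b := v)]
  · rfl
  · intro b _
    ext
    exact hv b b.2

/-- the norm is fixed by `B` -/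
theorem nrm_conj_self (B : Subgroup Γ) [Fintype B] (hB : B ≤ Subgroup.normalizer (V : Set Γ)) (v : V)
    (b₀ : Γ) (hb₀ : b₀ ∈ B) : b₀ * (nrm V B hB v : Γ) * b₀⁻¹ = nrm V B hB v := by
  have h1 : cj V b₀ (hB hb₀) (nrm V B hB v) = nrm V B hB v := by
    rw [nrm_apply, map_prod]
    refine Fintype.prod_equiv (Equiv.mulLeft (⟨b₀, hb₀⟩ : B)) _ _ ?_
    intro b
    rw [cj_mul]
    exact cj_congr V _ _ rfl v
  exact congrArg Subtype.val h1

/-- an element commuting with `B` and fixing `v` fixes the norm of `v` -/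
theorem nrm_conj_of_commute (B : Subgroup Γ) [Fintype B] (hB : B ≤ Subgroup.normalizer (V : Set Γ))
    (v : V) (c : Γ) (hc : c ∈ Subgroup.normalizer (V : Set Γ)) (hcB : ∀ b ∈ B, c * b = b * c)
    (hcv : c * (v : Γ) * c⁻¹ = v) : c * (nrm V B hB v : Γ) * c⁻¹ = nrm V B hB v := by
  have h1 : cj V c hc (nrm V B hB v) = nrm V B hB v := by
    rw [nrm_apply, map_prod]
    refine Finset.prod_congr rfl fun b _ => ?_
    ext
    simp only [cj_coe]
    have h2 : c * (b : Γ) = b * c := hcB b b.2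
    have h3 : (b : Γ)⁻¹ * c⁻¹ = c⁻¹ * (b : Γ)⁻¹ := by
      rw [← mul_inv_rev, ← mul_inv_rev, h2]
    calc c * ((b : Γ) * v * (b : Γ)⁻¹) * c⁻¹
        = (c * b) * v * ((b : Γ)⁻¹ * c⁻¹) := by simp only [mul_assoc]
      _ = (b * c) * v * (c⁻¹ * (b : Γ)⁻¹) := by rw [h2, h3]
      _ = b * (c * v * c⁻¹) * (b : Γ)⁻¹ := by simp only [mul_assoc]
      _ = b * v * (b : Γ)⁻¹ := by rw [hcv]
  exact congrArg Subtype.val h1


/-- the norm over `B` kills the fixed points of `B'` when `B ⊔ B'` has no fixed points -/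
theorem nrm_kill (Q B B' : Subgroup Γ) [Fintype B] (hQc : ∀ a ∈ Q, ∀ b ∈ Q, a * b = b * a)
    (hQV : Q ≤ Subgroup.normalizer (V : Set Γ)) (hBQ : B ≤ Q) (hB'Q : B' ≤ Q) (hsup : Q ≤ B ⊔ B')
    (hfVQ : V ⊓ Subgroup.centralizer (Q : Set Γ) = ⊥) (v : V)
    (hv : ∀ b ∈ B', b * (v : Γ) * b⁻¹ = v) : nrm V B (hBQ.trans hQV) v = 1 := by
  set n : V := nrm V B (hBQ.trans hQV) v with hn
  have h1 : ∀ b ∈ B, b * (n : Γ) * b⁻¹ = n := fun b hb => nrm_conj_self V B _ v b hb
  have h2 : ∀ b ∈ B', b * (n : Γ) * b⁻¹ = n := fun b hb =>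
    nrm_conj_of_commute V B _ v b (hQV (hB'Q hb)) (fun b' hb' => hQc b (hB'Q hb) b' (hBQ hb')) (hv b hb)
  have h3 : B ⊔ B' ≤ Subgroup.centralizer ({(n : Γ)} : Set Γ) := by
    refine sup_le ?_ ?_
    · intro b hb
      rw [Subgroup.mem_centralizer_iff]
      intro y hy
      rw [Set.mem_singleton_iff] at hy
      subst hy
      have := h1 b hb
      calc (n : Γ) * b = (b * (n : Γ) * b⁻¹) * b := by rw [this]
        _ = b * n := by simp [mul_assoc]
    · intro b hb
      rw [Subgroup.mem_centralizer_iff]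
      intro y hy
      rw [Set.mem_singleton_iff] at hy
      subst hy
      have := h2 b hb
      calc (n : Γ) * b = (b * (n : Γ) * b⁻¹) * b := by rw [this]
        _ = b * n := by simp [mul_assoc]
  have h4 : (n : Γ) ∈ V ⊓ Subgroup.centralizer (Q : Set Γ) := by
    refine Subgroup.mem_inf.mpr ⟨n.2, ?_⟩
    rw [Subgroup.mem_centralizer_iff]
    intro u hu
    have h5 := h3 (hsup hu)
    rw [Subgroup.mem_centralizer_iff] at h5
    exact (h5 _ rfl).symm
  rw [hfVQ, Subgroup.mem_bot] at h4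
  exact Subtype.ext h4

/-! ## The trace map of `x` -/

theorem pow_mem_normalizer {x : Γ} (hx : x ∈ Subgroup.normalizer (V : Set Γ)) (i : ℕ) :
    x ^ i ∈ Subgroup.normalizer (V : Set Γ) := (Subgroup.normalizer (V : Set Γ)).pow_mem hx i

/-- `w v = ∏_{i<r} x^i v x^{-i}` -/
noncomputable def wmap (x : Γ) (hx : x ∈ Subgroup.normalizer (V : Set Γ)) (r : ℕ) : V →* V :=
  ∏ i ∈ Finset.range r, cj V (x ^ i) (pow_mem_normalizer V hx i)

theorem wmap_apply (x : Γ) (hx : x ∈ Subgroup.normalizer (V : Set Γ)) (r : ℕ) (v : V) :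
    wmap V x hx r v = ∏ i ∈ Finset.range r, cj V (x ^ i) (pow_mem_normalizer V hx i) v := by
  unfold wmap
  rw [MonoidHom.finsetProd_apply]

/-- `w v` is centralized by `x` when `x ^ r = 1` -/
theorem wmap_fixed (x : Γ) (hx : x ∈ Subgroup.normalizer (V : Set Γ)) (r : ℕ) (hxr : x ^ r = 1)
    (v : V) : x * (wmap V x hx r v : Γ) * x⁻¹ = wmap V x hx r v := by
  have h1 : cj V x hx (wmap V x hx r v) = wmap V x hx r v := by
    rw [wmap_apply, map_prod]
    have h2 : ∀ i ∈ Finset.range r, cj V x hx (cj V (x ^ i) (pow_mem_normalizer V hx i) v) =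
        cj V (x ^ (i + 1)) (pow_mem_normalizer V hx (i + 1)) v := by
      intro i _
      rw [cj_mul]
      exact cj_congr V _ _ (pow_succ' x i).symm v
    rw [Finset.prod_congr rfl h2]
    have h3 := Finset.prod_range_succ' (fun i => cj V (x ^ i) (pow_mem_normalizer V hx i) v) r
    have h4 := Finset.prod_range_succ (fun i => cj V (x ^ i) (pow_mem_normalizer V hx i) v) r
    have h5 : cj V (x ^ r) (pow_mem_normalizer V hx r) v = cj V (x ^ 0) (pow_mem_normalizer V hx 0) v :=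
      cj_congr V _ _ (by rw [hxr, pow_zero]) v
    rw [h4, h5] at h3
    exact (mul_right_cancel h3).symm
  exact congrArg Subtype.val h1


/-! ## Conjugation of subgroups -/

omit [IsMulCommutative V] in
theorem smul_eq_of_mem_normalizer {H : Subgroup Γ} {g : Γ}
    (hg : g ∈ Subgroup.normalizer (H : Set Γ)) : MulAut.conj g • H = H := by
  ext y
  rw [Subgroup.mem_pointwise_smul_iff_inv_smul_mem]
  have h1 : (MulAut.conj g)⁻¹ • y = g⁻¹ * y * g := by
    rw [← map_inv, MulAut.smul_def, MulAut.conj_apply, inv_inv]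
  rw [h1]
  exact ((Subgroup.mem_normalizer_iff''.mp hg) y).symm

omit [IsMulCommutative V] in
theorem mem_normalizer_of_smul_eq {H : Subgroup Γ} {g : Γ}
    (hg : MulAut.conj g • H = H) : g ∈ Subgroup.normalizer (H : Set Γ) := by
  rw [Subgroup.mem_normalizer_iff]
  intro h
  constructor
  · intro hh
    have : MulAut.conj g • h ∈ MulAut.conj g • H := Subgroup.smul_mem_pointwise_smul_iff.mpr hh
    rw [hg, MulAut.smul_def, MulAut.conj_apply] at this
    exact this
  · intro hh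
    have h2 : MulAut.conj g • h ∈ MulAut.conj g • H := by
      rw [hg, MulAut.smul_def, MulAut.conj_apply]; exact hh
    exact Subgroup.smul_mem_pointwise_smul_iff.mp h2

omit [IsMulCommutative V] in
theorem conj_mem_smul {H : Subgroup Γ} (g : Γ) {h : Γ} (hh : h ∈ H) :
    g * h * g⁻¹ ∈ MulAut.conj g • H := by
  have : MulAut.conj g • h ∈ MulAut.conj g • H := Subgroup.smul_mem_pointwise_smul_iff.mpr hh
  rwa [MulAut.smul_def, MulAut.conj_apply] at this

omit [IsMulCommutative V] in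
theorem exists_of_mem_smul {H : Subgroup Γ} (g : Γ) {y : Γ} (hy : y ∈ MulAut.conj g • H) :
    ∃ h ∈ H, y = g * h * g⁻¹ := by
  rw [Subgroup.mem_pointwise_smul_iff_inv_smul_mem] at hy
  have h1 : (MulAut.conj g)⁻¹ • y = g⁻¹ * y * g := by
    rw [← map_inv, MulAut.smul_def, MulAut.conj_apply, inv_inv]
  rw [h1] at hy
  exact ⟨_, hy, by simp [mul_assoc]⟩

omit [IsMulCommutative V] in
theorem smul_smul_conj (g h : Γ) (H : Subgroup Γ) :
    MulAut.conj g • MulAut.conj h • H = MulAut.conj (g * h) • H := by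
  rw [map_mul, mul_smul]

omit [IsMulCommutative V] in
theorem pow_smul_eq_self {H : Subgroup Γ} {g : Γ} (hg : MulAut.conj g • H = H) (m : ℕ) :
    MulAut.conj (g ^ m) • H = H := by
  induction m with
  | zero => simp
  | succ m ih => rw [pow_succ, ← smul_smul_conj, hg, ih]

/-! ## Hyperplanes -/

/-- `B` is a hyperplane of `Q` (index `q`) -/
def IsHyp (Q : Subgroup Γ) (q : ℕ) (B : Subgroup Γ) : Prop := B ≤ Q ∧ B.relIndex Q = q

omit [IsMulCommutative V] in
theorem IsHyp.smul {Q : Subgroup Γ} {q : ℕ} {B : Subgroup Γ} (hB : IsHyp Q q B) {g : Γ}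
    (hg : g ∈ Subgroup.normalizer (Q : Set Γ)) : IsHyp Q q (MulAut.conj g • B) := by
  constructor
  · have := Subgroup.pointwise_smul_le_pointwise_smul_iff (a := MulAut.conj g) |>.mpr hB.1
    rwa [smul_eq_of_mem_normalizer hg] at this
  · have := Subgroup.relIndex_pointwise_smul (MulAut.conj g) B Q
    rw [smul_eq_of_mem_normalizer hg] at this
    rw [this, hB.2]

omit [IsMulCommutative V] in
theorem IsHyp.sup {Q : Subgroup Γ} {q : ℕ} (hq : q.Prime) {B B' : Subgroup Γ} (hB : IsHyp Q q B)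
    (hB' : IsHyp Q q B') (hne : B ≠ B') : Q ≤ B ⊔ B' := by
  set K := B ⊔ B' with hK
  have hKQ : K ≤ Q := sup_le hB.1 hB'.1
  have h1 := Subgroup.relIndex_mul_relIndex B K Q le_sup_left hKQ
  have h2 := Subgroup.relIndex_mul_relIndex B' K Q le_sup_right hKQ
  rw [hB.2] at h1
  rw [hB'.2] at h2
  by_cases h3 : K.relIndex Q = 1
  · exact Subgroup.relIndex_eq_one.mp h3
  · exfalso
    have h4 : B.relIndex K = 1 := by
      rcases Nat.Prime.eq_one_or_self_of_dvd hq _ (Dvd.intro_left _ h1) with h | h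
      · exact absurd h h3
      · rw [h] at h1
        have hq0 : 0 < q := hq.pos
        have : B.relIndex K * q = 1 * q := by rw [h1, one_mul]
        exact Nat.eq_of_mul_eq_mul_right hq0 this
    have h5 : B'.relIndex K = 1 := by
      rcases Nat.Prime.eq_one_or_self_of_dvd hq _ (Dvd.intro_left _ h2) with h | h
      · exact absurd h h3
      · rw [h] at h2
        have hq0 : 0 < q := hq.pos
        have : B'.relIndex K * q = 1 * q := by rw [h2, one_mul]
        exact Nat.eq_of_mul_eq_mul_right hq0 this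
    have h6 : K ≤ B := Subgroup.relIndex_eq_one.mp h4
    have h7 : K ≤ B' := Subgroup.relIndex_eq_one.mp h5
    exact hne (le_antisymm (le_sup_left.trans h7) (le_sup_right.trans h6))


/-! ## The configuration -/

/-- the hypotheses of the configuration used by the counting arguments -/
structure Cfg (p q r : ℕ) (V Q : Subgroup Γ) (x : Γ) : Prop where
  hp : p.Prime
  hq : q.Prime
  hr : r.Prime
  hpq : p ≠ q
  hVp : ∀ a ∈ V, a ^ p = 1
  hQc : ∀ a ∈ Q, ∀ b ∈ Q, a * b = b * a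
  hQq : ∀ a ∈ Q, a ^ q = 1
  hQV : Q ≤ Subgroup.normalizer (V : Set Γ)
  hxV : x ∈ Subgroup.normalizer (V : Set Γ)
  hxQ : x ∈ Subgroup.normalizer (Q : Set Γ)
  hx : orderOf x = r
  hfVQ : V ⊓ Subgroup.centralizer (Q : Set Γ) = ⊥
  hCVx : ∀ A : Subgroup Γ, A ≤ V → (∀ a ∈ A, a * x = x * a) → Nat.card A ≤ p

variable {p q r : ℕ} {Q : Subgroup Γ} {x : Γ}

/-- the fixed points of `B` on `V` -/
def CV (B : Subgroup Γ) : Subgroup Γ := V ⊓ Subgroup.centralizer (B : Set Γ)

omit [IsMulCommutative V] in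
theorem mem_CV_iff {B : Subgroup Γ} {v : Γ} :
    v ∈ CV V B ↔ v ∈ V ∧ ∀ b ∈ B, b * v * b⁻¹ = v := by
  unfold CV
  rw [Subgroup.mem_inf, Subgroup.mem_centralizer_iff]
  constructor
  · rintro ⟨h1, h2⟩
    refine ⟨h1, fun b hb => ?_⟩
    rw [h2 b hb]; simp
  · rintro ⟨h1, h2⟩
    refine ⟨h1, fun b hb => ?_⟩
    have := h2 b hb
    calc b * v = (b * v * b⁻¹) * b := by simp [mul_assoc]
      _ = v * b := by rw [this]

omit [IsMulCommutative V] in
theorem conj_mem_CV {B : Subgroup Γ} {g v : Γ} (hg : g ∈ Subgroup.normalizer (V : Set Γ))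
    (hv : v ∈ CV V B) : g * v * g⁻¹ ∈ CV V (MulAut.conj g • B) := by
  rw [mem_CV_iff] at hv ⊢
  refine ⟨(Subgroup.mem_normalizer_iff.mp hg v).mp hv.1, ?_⟩
  intro y hy
  obtain ⟨b, hb, rfl⟩ := exists_of_mem_smul g hy
  have := hv.2 b hb
  calc g * b * g⁻¹ * (g * v * g⁻¹) * (g * b * g⁻¹)⁻¹ = g * (b * v * b⁻¹) * g⁻¹ := by
        simp [mul_assoc]
    _ = g * v * g⁻¹ := by rw [this]

omit [IsMulCommutative V] in
theorem CV_smul_ne_bot {B : Subgroup Γ} {g : Γ} (hg : g ∈ Subgroup.normalizer (V : Set Γ))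
    (h : CV V B ≠ ⊥) : CV V (MulAut.conj g • B) ≠ ⊥ := by
  obtain ⟨v, hv1⟩ := (Subgroup.ne_bot_iff_exists_ne_one).mp h
  have hv' : (v : Γ) ∈ CV V B := v.2
  intro hbot
  have h2 := conj_mem_CV V hg hv'
  rw [hbot, Subgroup.mem_bot] at h2
  apply hv1
  apply Subtype.ext
  have : (v : Γ) = g⁻¹ * (g * v * g⁻¹) * g := by simp [mul_assoc]
  rw [this, h2]; simp

/-- a hyperplane moved by `x` is moved by every nontrivial power of `x` -/
theorem moved_pow (c : Cfg p q r V Q x) {B : Subgroup Γ} (hmv : MulAut.conj x • B ≠ B) {i : ℕ}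
    (hi0 : 0 < i) (hir : i < r) : MulAut.conj (x ^ i) • B ≠ B := by
  intro h
  have hcop : Nat.Coprime i (orderOf x) := by
    rw [c.hx]
    exact (Nat.coprime_of_lt_prime (Nat.pos_iff_ne_zero.mp hi0) hir c.hr).symm
  obtain ⟨m, hm⟩ := exists_pow_eq_self_of_coprime hcop
  have := pow_smul_eq_self h m
  rw [hm] at this
  exact hmv this

/-- the cardinality of a subgroup of `Q` is prime to `p` -/
theorem coprime_card (c : Cfg p q r V Q x) [Finite Γ] {B : Subgroup Γ} (hB : B ≤ Q) :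
    Nat.Coprime (Nat.card B) p := by
  haveI : Fact q.Prime := ⟨c.hq⟩
  have hQp : IsPGroup q Q := by
    intro g
    exact ⟨1, by rw [pow_one]; exact Subtype.ext (c.hQq g g.2)⟩
  obtain ⟨n, hn⟩ := IsPGroup.iff_card.mp hQp
  have h1 : Nat.card B ∣ q ^ n := hn ▸ Subgroup.card_dvd_of_le hB
  have h2 : Nat.Coprime (q ^ n) p :=
    Nat.Coprime.pow_left n ((Nat.coprime_primes c.hq c.hp).mpr (Ne.symm c.hpq))
  exact Nat.Coprime.coprime_dvd_left h1 h2

/-- an element of `V` killed by a power prime to `p` is trivial -/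
theorem eq_one_of_pow (c : Cfg p q r V Q x) (v : V) (m : ℕ) (hm : Nat.Coprime m p)
    (h : v ^ m = 1) : v = 1 := by
  have h1 : v ^ p = 1 := Subtype.ext (c.hVp v v.2)
  have h2 := pow_gcd_eq_one.mpr ⟨h, h1⟩
  rw [Nat.Coprime.gcd_eq_one hm, pow_one] at h2
  exact h2


/-! ## Norms of traces -/

theorem nrm_wmap_terms (c : Cfg p q r V Q x) {B B' : Subgroup Γ} [Fintype B]
    (hB : IsHyp Q q B) (hB' : IsHyp Q q B') (v : V) (hv : (v : Γ) ∈ CV V B') (i : ℕ)
    (hne : MulAut.conj (x ^ i) • B' ≠ B) :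
    nrm V B (hB.1.trans c.hQV) (cj V (x ^ i) (pow_mem_normalizer V c.hxV i) v) = 1 := by
  have hxi : x ^ i ∈ Subgroup.normalizer (Q : Set Γ) := (Subgroup.normalizer (Q : Set Γ)).pow_mem c.hxQ i
  have hB'' : IsHyp Q q (MulAut.conj (x ^ i) • B') := hB'.smul hxi
  have hsup : Q ≤ B ⊔ MulAut.conj (x ^ i) • B' := IsHyp.sup c.hq hB hB'' (Ne.symm hne)
  have hfix := ((mem_CV_iff V).mp (conj_mem_CV V (pow_mem_normalizer V c.hxV i) hv)).2
  exact nrm_kill V Q B _ c.hQc c.hQV hB.1 hB''.1 hsup c.hfVQ _ hfix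

theorem nrm_wmap_other (c : Cfg p q r V Q x) {B B' : Subgroup Γ} [Fintype B]
    (hB : IsHyp Q q B) (hB' : IsHyp Q q B') (v : V) (hv : (v : Γ) ∈ CV V B')
    (hall : ∀ i < r, MulAut.conj (x ^ i) • B' ≠ B) :
    nrm V B (hB.1.trans c.hQV) (wmap V x c.hxV r v) = 1 := by
  rw [wmap_apply, map_prod]
  apply Finset.prod_eq_one
  intro i hi
  exact nrm_wmap_terms V c hB hB' v hv i (hall i (Finset.mem_range.mp hi))

theorem nrm_wmap_self (c : Cfg p q r V Q x) {B : Subgroup Γ} [Fintype B]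
    (hB : IsHyp Q q B) (hmv : MulAut.conj x • B ≠ B) (v : V) (hv : (v : Γ) ∈ CV V B) :
    nrm V B (hB.1.trans c.hQV) (wmap V x c.hxV r v) = v ^ Fintype.card B := by
  rw [wmap_apply, map_prod, Finset.prod_eq_single 0]
  · have h0 : cj V (x ^ 0) (pow_mem_normalizer V c.hxV 0) v = v := by ext; simp
    rw [h0]
    exact nrm_fixed V B _ v ((mem_CV_iff V).mp hv).2
  · intro i hi hi0
    exact nrm_wmap_terms V c hB hB v hv i
      (moved_pow V c hmv (Nat.pos_of_ne_zero hi0) (Finset.mem_range.mp hi))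
  · intro h
    exact absurd (Finset.mem_range.mpr c.hr.pos) h

/-- (a1) the trace is injective on the fixed points of a moved hyperplane -/
theorem wmap_eq_one (c : Cfg p q r V Q x) [Finite Γ] {B : Subgroup Γ}
    (hB : IsHyp Q q B) (hmv : MulAut.conj x • B ≠ B) (v : V) (hv : (v : Γ) ∈ CV V B)
    (hw : wmap V x c.hxV r v = 1) : v = 1 := by
  haveI : Fintype B := Fintype.ofFinite B
  have h1 := nrm_wmap_self V c hB hmv v hv
  rw [hw, map_one] at h1
  refine eq_one_of_pow V c v (Fintype.card B) ?_ h1.symm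
  rw [← Nat.card_eq_fintype_card]
  exact coprime_card V c hB.1

/-- the fixed points of `x` on `V` -/
def CVx (x : Γ) : Subgroup Γ := V ⊓ Subgroup.centralizer ({x} : Set Γ)

omit [IsMulCommutative V] in
theorem card_CVx_le (c : Cfg p q r V Q x) : Nat.card (CVx V x) ≤ p := by
  apply c.hCVx _ inf_le_left
  intro a ha
  have := (Subgroup.mem_inf.mp ha).2
  rw [Subgroup.mem_centralizer_iff] at this
  exact (this x rfl).symm

theorem wmap_mem_CVx (c : Cfg p q r V Q x) (v : V) : (wmap V x c.hxV r v : Γ) ∈ CVx V x := by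
  refine Subgroup.mem_inf.mpr ⟨(wmap V x c.hxV r v).2, ?_⟩
  rw [Subgroup.mem_centralizer_iff]
  intro y hy
  rw [Set.mem_singleton_iff] at hy
  subst hy
  have hxr : y ^ r = 1 := by rw [← c.hx]; exact pow_orderOf_eq_one y
  have := wmap_fixed V y c.hxV r hxr v
  calc y * (wmap V y c.hxV r v : Γ) = (y * (wmap V y c.hxV r v : Γ) * y⁻¹) * y := by
        simp [mul_assoc]
    _ = (wmap V y c.hxV r v : Γ) * y := by rw [this]


/-- (a2) the fixed points of a moved hyperplane have order at most `p` -/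
theorem card_CV_le (c : Cfg p q r V Q x) [Finite Γ] {B : Subgroup Γ}
    (hB : IsHyp Q q B) (hmv : MulAut.conj x • B ≠ B) : Nat.card (CV V B) ≤ p := by
  have hle : CV V B ≤ V := inf_le_left
  let f : CV V B → CVx V x := fun u =>
    ⟨(wmap V x c.hxV r ⟨(u : Γ), hle u.2⟩ : Γ), wmap_mem_CVx V c _⟩
  have hf : Function.Injective f := by
    intro u u' h
    have hval : ((f u : CVx V x) : Γ) = ((f u' : CVx V x) : Γ) := congrArg Subtype.val h
    have h1 : wmap V x c.hxV r ⟨(u : Γ), hle u.2⟩ = wmap V x c.hxV r ⟨(u' : Γ), hle u'.2⟩ :=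
      Subtype.ext hval
    have h2 : wmap V x c.hxV r ((⟨(u : Γ), hle u.2⟩ : V) * (⟨(u' : Γ), hle u'.2⟩ : V)⁻¹) = 1 := by
      rw [map_mul, map_inv, h1, mul_inv_cancel]
    have hmem : (((⟨(u : Γ), hle u.2⟩ : V) * (⟨(u' : Γ), hle u'.2⟩ : V)⁻¹ : V) : Γ) ∈ CV V B := by
      show (u : Γ) * (u' : Γ)⁻¹ ∈ CV V B
      exact (CV V B).mul_mem u.2 ((CV V B).inv_mem u'.2)
    have h3 := wmap_eq_one V c hB hmv _ hmem h2
    have h4 : (u : Γ) * (u' : Γ)⁻¹ = 1 := congrArg Subtype.val h3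
    exact Subtype.ext (mul_inv_eq_one.mp h4)
  exact (Nat.card_le_card_of_injective f hf).trans (card_CVx_le V c)

/-- (b) two moved hyperplanes with fixed points are conjugate under a power of `x` -/
theorem exists_pow_smul_eq (c : Cfg p q r V Q x) [Finite Γ] {B B' : Subgroup Γ}
    (hB : IsHyp Q q B) (hB' : IsHyp Q q B') (hmv : MulAut.conj x • B ≠ B)
    (hmv' : MulAut.conj x • B' ≠ B') (hne : CV V B ≠ ⊥) (hne' : CV V B' ≠ ⊥) :
    ∃ i < r, MulAut.conj (x ^ i) • B' = B := by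
  by_contra hcon
  have hall : ∀ i < r, MulAut.conj (x ^ i) • B' ≠ B := by
    intro i hi h
    exact hcon ⟨i, hi, h⟩
  haveI : Fintype B := Fintype.ofFinite B
  haveI : Fact p.Prime := ⟨c.hp⟩
  obtain ⟨u, hu1⟩ := (Subgroup.ne_bot_iff_exists_ne_one).mp hne
  obtain ⟨u', hu'1⟩ := (Subgroup.ne_bot_iff_exists_ne_one).mp hne'
  have hle : CV V B ≤ V := inf_le_left
  have hle' : CV V B' ≤ V := inf_le_left
  set v : V := ⟨(u : Γ), hle u.2⟩ with hv
  set v' : V := ⟨(u' : Γ), hle' u'.2⟩ with hv'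
  have hvne : v ≠ 1 := by
    intro h
    apply hu1
    have hval : ((v : V) : Γ) = ((1 : V) : Γ) := congrArg Subtype.val h
    exact Subtype.ext hval
  have hv'ne : v' ≠ 1 := by
    intro h
    apply hu'1
    have hval : ((v' : V) : Γ) = ((1 : V) : Γ) := congrArg Subtype.val h
    exact Subtype.ext hval
  have hvmem : (v : Γ) ∈ CV V B := u.2
  have hv'mem : (v' : Γ) ∈ CV V B' := u'.2
  set a := wmap V x c.hxV r v with ha
  set a' := wmap V x c.hxV r v' with ha'
  have ha1 : a ≠ 1 := fun h => hvne (wmap_eq_one V c hB hmv v hvmem h)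
  have ha'1 : a' ≠ 1 := fun h => hv'ne (wmap_eq_one V c hB' hmv' v' hv'mem h)
  -- `a` generates the fixed points of `x`
  have hap : (a : Γ) ^ p = 1 := c.hVp a a.2
  have haΓ1 : (a : Γ) ≠ 1 := fun h => ha1 (Subtype.ext h)
  have hord : orderOf (a : Γ) = p := orderOf_eq_prime hap haΓ1
  have hzle : Subgroup.zpowers (a : Γ) ≤ CVx V x := by
    rw [Subgroup.zpowers_le]
    exact wmap_mem_CVx V c v
  have hzeq : Subgroup.zpowers (a : Γ) = CVx V x := by
    apply Subgroup.eq_of_le_of_card_ge hzle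
    rw [Nat.card_zpowers, hord]
    exact card_CVx_le V c
  have ha'mem : (a' : Γ) ∈ Subgroup.zpowers (a : Γ) := by
    rw [hzeq]; exact wmap_mem_CVx V c v'
  obtain ⟨k, hk⟩ := Subgroup.mem_zpowers_iff.mp ha'mem
  have hk' : wmap V x c.hxV r (v ^ k) = a' := by
    rw [map_zpow]
    apply Subtype.ext
    rw [← hk]
    simp [ha]
  -- apply the norm of `B`
  have h1 : nrm V B (hB.1.trans c.hQV) a' = 1 := nrm_wmap_other V c hB hB' v' hv'mem hall
  have hvkmem : ((v ^ k : V) : Γ) ∈ CV V B := by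
    have : ((v ^ k : V) : Γ) = (v : Γ) ^ k := by simp
    rw [this]
    exact (CV V B).zpow_mem hvmem k
  have h2 := nrm_wmap_self V c hB hmv (v ^ k) hvkmem
  rw [hk', h1] at h2
  have h3 : v ^ k = 1 := by
    refine eq_one_of_pow V c (v ^ k) (Fintype.card B) ?_ h2.symm
    rw [← Nat.card_eq_fintype_card]
    exact coprime_card V c hB.1
  rw [h3, map_one] at hk'
  exact ha'1 hk'.symm


omit [IsMulCommutative V] in
theorem relIndex_mul_card' {H K : Subgroup Γ} (h : H ≤ K) :
    H.relIndex K * Nat.card H = Nat.card K := by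
  have h1 := Subgroup.card_mul_index (H.subgroupOf K)
  rw [Nat.card_congr (Subgroup.subgroupOfEquivOfLe h).toEquiv] at h1
  rw [mul_comm]
  exact h1

/-- existence of a hyperplane with fixed points -/
theorem exists_hyp (c : Cfg p q r V Q x) [Finite Γ] (hV1 : V ≠ ⊥) :
    ∃ B : Subgroup Γ, IsHyp Q q B ∧ CV V B ≠ ⊥ := by
  haveI : Fact p.Prime := ⟨c.hp⟩
  haveI : Fact q.Prime := ⟨c.hq⟩
  have hVp : IsPGroup p V := by
    intro g
    exact ⟨1, by rw [pow_one]; exact Subtype.ext (c.hVp g g.2)⟩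
  have hbot : Subgroup.normalizer ((⊥ : Subgroup Γ) : Set Γ) = ⊤ := Subgroup.normalizer_eq_top _
  obtain ⟨B, hBQ, hcard, v, hvV, hv1, hvB⟩ :=
    Cfsg.Agent.Lib.Helper29.exists_hyperplane_fixed_section q p (Ne.symm c.hpq) Q V ⊥ c.hQc c.hQq hVp
      bot_le (by rw [hbot]; exact le_top) (Ne.symm hV1) c.hQV (by rw [hbot]; exact le_top)
  have hvne : v ≠ 1 := fun h => hv1 (by rw [h]; exact Subgroup.one_mem _)
  have hvCV : v ∈ CV V B := (mem_CV_iff V).mpr ⟨hvV, hvB⟩
  have hCVne : CV V B ≠ ⊥ := by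
    intro h
    rw [h, Subgroup.mem_bot] at hvCV
    exact hvne hvCV
  refine ⟨B, ⟨hBQ, ?_⟩, hCVne⟩
  -- the index
  have hBneQ : B ≠ Q := by
    intro h
    have : v ∈ V ⊓ Subgroup.centralizer (Q : Set Γ) := by
      rw [← h]; exact hvCV
    rw [c.hfVQ, Subgroup.mem_bot] at this
    exact hvne this
  have h1 := relIndex_mul_card' (H := B) (K := Q) hBQ
  have hBpos : 0 < Nat.card B := Nat.card_pos
  have hle : B.relIndex Q ≤ q := by
    have : B.relIndex Q * Nat.card B ≤ q * Nat.card B := by rw [h1]; exact hcard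
    exact Nat.le_of_mul_le_mul_right this hBpos
  have hne1 : B.relIndex Q ≠ 1 := by
    intro h
    exact hBneQ (le_antisymm hBQ (Subgroup.relIndex_eq_one.mp h))
  have hQp : IsPGroup q Q := by
    intro g
    exact ⟨1, by rw [pow_one]; exact Subtype.ext (c.hQq g g.2)⟩
  obtain ⟨n, hn⟩ := IsPGroup.iff_card.mp hQp
  have hdvd : B.relIndex Q ∣ q ^ n := hn ▸ Subgroup.relIndex_dvd_card B Q
  obtain ⟨m, hm, hm'⟩ := (Nat.dvd_prime_pow c.hq).mp hdvd
  rw [hm'] at hle hne1 ⊢
  rcases m with _ | _ | m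
  · exact absurd (pow_zero q) hne1
  · exact pow_one q
  · exfalso
    have : q ^ (m + 1 + 1) = q ^ (m + 1) * q := pow_succ q (m + 1)
    have h2 : 2 ≤ q ^ (m + 1) := by
      calc 2 ≤ q := c.hq.two_le
        _ = q ^ 1 := (pow_one q).symm
        _ ≤ q ^ (m + 1) := Nat.pow_le_pow_right c.hq.pos (by omega)
    have hq0 : 0 < q := c.hq.pos
    nlinarith


omit [IsMulCommutative V] in
theorem inv_smul_eq_self {H : Subgroup Γ} {g : Γ} (hg : MulAut.conj g • H = H) :
    MulAut.conj g⁻¹ • H = H := by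
  have h1 : MulAut.conj g⁻¹ • MulAut.conj g • H = H := by
    rw [smul_smul_conj, inv_mul_cancel]; simp
  rw [hg] at h1
  exact h1

omit [IsMulCommutative V] in
theorem mem_normalizer_CV {B : Subgroup Γ} {g : Γ} (hgV : g ∈ Subgroup.normalizer (V : Set Γ))
    (hgB : MulAut.conj g • B = B) : g ∈ Subgroup.normalizer (CV V B : Set Γ) := by
  rw [Subgroup.mem_normalizer_iff]
  intro w
  constructor
  · intro hw
    have := conj_mem_CV V hgV hw
    rwa [hgB] at this
  · intro hw
    have hgV' : g⁻¹ ∈ Subgroup.normalizer (V : Set Γ) := (Subgroup.normalizer (V : Set Γ)).inv_mem hgV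
    have := conj_mem_CV V hgV' hw
    rw [inv_smul_eq_self hgB] at this
    have h2 : g⁻¹ * (g * w * g⁻¹) * g⁻¹⁻¹ = w := by simp [mul_assoc]
    rwa [h2] at this


end Cfsg.Agent.Lib.Helper05.BG36C2

namespace Cfsg.Agent.Lib.Helper05.BG36C2

open Cfsg
open scoped Pointwise IsMulCommutative

variable {Γ : Type*} [Group Γ]

/-- **K-S1444-C2.** -/
theorem config_C2 [Finite Γ] (hodd : Odd (Nat.card Γ)) {p q r : ℕ} [Fact p.Prime] [Fact q.Prime]
    [Fact r.Prime] (hpq : p ≠ q)
    (V Q P₀ : Subgroup Γ) (x : Γ)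
    (hV : IsElementaryAbelian p V) (hV1 : V ≠ ⊥) (hQ : IsElementaryAbelian q Q) (hP₀ : IsPGroup p P₀)
    (hP₀1 : P₀ ≠ ⊥) (hP₀c : ∀ a ∈ P₀, ∀ b ∈ P₀, a * b = b * a)
    (hQV : Q ≤ Subgroup.normalizer (V : Set Γ)) (hPV : P₀ ≤ Subgroup.normalizer (V : Set Γ))
    (hxV : x ∈ Subgroup.normalizer (V : Set Γ))
    (hPQ : P₀ ≤ Subgroup.normalizer (Q : Set Γ)) (hxQ : x ∈ Subgroup.normalizer (Q : Set Γ))
    (hxP : x ∈ Subgroup.normalizer (P₀ : Set Γ)) (hx : orderOf x = r)
    (hfVQ : V ⊓ Subgroup.centralizer (Q : Set Γ) = ⊥)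
    (hfpf : ∀ z ∈ P₀, z * x = x * z → z = 1)
    (hirrP : ∀ P₁ : Subgroup Γ, P₁ ≤ P₀ → x ∈ Subgroup.normalizer (P₁ : Set Γ) → P₁ = ⊥ ∨ P₁ = P₀)
    (hirrQ : ∀ Q₁ : Subgroup Γ, Q₁ ≤ Q → P₀ ≤ Subgroup.normalizer (Q₁ : Set Γ) →
      x ∈ Subgroup.normalizer (Q₁ : Set Γ) → Q₁ = ⊥ ∨ Q₁ = Q)
    (hQP : ⁅Q, P₀⁆ = Q)
    (hCVx : ∀ A : Subgroup Γ, A ≤ V → (∀ a ∈ A, a * x = x * a) → Nat.card A ≤ p)
    (hQq : Nat.card Q ≠ q) :
    False := by
  classical
  haveI : IsMulCommutative V := hV.1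
  have hp : p.Prime := Fact.out
  have hq : q.Prime := Fact.out
  have hr : r.Prime := Fact.out
  have hQc : ∀ a ∈ Q, ∀ b ∈ Q, a * b = b * a := by
    intro a ha b hb
    haveI : IsMulCommutative Q := hQ.1
    exact congrArg Subtype.val (mul_comm' (⟨a, ha⟩ : Q) ⟨b, hb⟩)
  have c : Cfg p q r V Q x :=
    { hp := hp, hq := hq, hr := hr, hpq := hpq, hVp := hV.2, hQc := hQc, hQq := hQ.2, hQV := hQV,
      hxV := hxV, hxQ := hxQ, hx := hx, hfVQ := hfVQ, hCVx := hCVx }
  obtain ⟨B₀, hB₀, hB₀ne⟩ := exists_hyp V c hV1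
  -- `r` is odd
  have hrodd : r ≠ 2 := by
    intro h2
    have h1 : r ∣ Nat.card Γ := hx ▸ orderOf_dvd_natCard x
    rw [h2] at h1
    exact (Nat.not_even_iff_odd.mpr hodd) (even_iff_two_dvd.mpr h1)
  -- elements commuting with a nontrivial power of `x`
  have hfpf_pow : ∀ i, ¬ r ∣ i → ∀ a ∈ P₀, a * x ^ i = x ^ i * a → a = 1 := by
    intro i hi a ha hcomm
    have hcop : Nat.Coprime i (orderOf x) := by
      rw [hx]
      exact (Nat.Prime.coprime_iff_not_dvd hr).mpr hi |>.symm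
    obtain ⟨m, hm⟩ := exists_pow_eq_self_of_coprime hcop
    apply hfpf a ha
    have h1 : Commute a (x ^ i) := hcomm
    have h2 := h1.pow_right m
    rw [hm] at h2
    exact h2
  -- stability of the family of hyperplanes with fixed points
  have hstab : ∀ g : Γ, g ∈ Subgroup.normalizer (Q : Set Γ) → g ∈ Subgroup.normalizer (V : Set Γ) →
      ∀ B : Subgroup Γ, IsHyp Q q B → CV V B ≠ ⊥ →
        IsHyp Q q (MulAut.conj g • B) ∧ CV V (MulAut.conj g • B) ≠ ⊥ :=
    fun g hgQ hgV B hB hBne => ⟨hB.smul hgQ, CV_smul_ne_bot V hgV hBne⟩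
  by_cases hopt : ∃ B : Subgroup Γ, IsHyp Q q B ∧ CV V B ≠ ⊥ ∧ MulAut.conj x • B = B
  · -- Option 1
    obtain ⟨B, hB, hBne, hxB⟩ := hopt
    have hxNB : x ∈ Subgroup.normalizer (B : Set Γ) := mem_normalizer_of_smul_eq hxB
    set NP := P₀ ⊓ Subgroup.normalizer (B : Set Γ) with hNP
    have hxNP : x ∈ Subgroup.normalizer (NP : Set Γ) := by
      apply Subgroup.inf_normalizer_le_normalizer_inf
      exact Subgroup.mem_inf.mpr ⟨hxP, Subgroup.le_normalizer hxNB⟩
    rcases hirrP NP inf_le_left hxNP with hbot | htop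
    swap
    · have hPB : P₀ ≤ Subgroup.normalizer (B : Set Γ) := by
        rw [← htop]; exact inf_le_right
      rcases hirrQ B hB.1 hPB hxNB with h' | h'
      · have := hB.2
        rw [h', Subgroup.relIndex_bot_left] at this
        exact hQq this
      · have := hB.2
        rw [h', Subgroup.relIndex_self] at this
        exact hq.one_lt.ne this
    · -- `N_{P₀}(B) = 1`
      have hNPtriv : ∀ g : Γ, g ∈ P₀ → MulAut.conj g • B = B → g = 1 := by
        intro g hgP hgB
        have : g ∈ NP := Subgroup.mem_inf.mpr ⟨hgP, mem_normalizer_of_smul_eq hgB⟩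
        rw [hbot, Subgroup.mem_bot] at this
        exact this
      obtain ⟨y, hyP, hy1⟩ : ∃ y ∈ P₀, y ≠ 1 := by
        by_contra hcon
        apply hP₀1
        rw [Subgroup.eq_bot_iff_forall]
        intro y hy
        by_contra hy1
        exact hcon ⟨y, hy, hy1⟩
      -- conjugates of `B` under nontrivial elements of `P₀` are moved
      have hmoved : ∀ z ∈ P₀, z ≠ 1 → MulAut.conj x • MulAut.conj z • B ≠ MulAut.conj z • B := by
        intro z hzP hz1 h
        have h1 : MulAut.conj (z⁻¹ * (x * z * x⁻¹)) • B = B := by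
          have h2 : MulAut.conj z⁻¹ • MulAut.conj x • MulAut.conj z • B = B := by
            rw [h, smul_smul_conj, inv_mul_cancel]; simp
          have h3 : MulAut.conj x⁻¹ • B = B := inv_smul_eq_self hxB
          calc MulAut.conj (z⁻¹ * (x * z * x⁻¹)) • B
              = MulAut.conj z⁻¹ • MulAut.conj x • MulAut.conj z • MulAut.conj x⁻¹ • B := by
                simp only [smul_smul_conj, mul_assoc]
            _ = B := by rw [h3, h2]
        have hmem : z⁻¹ * (x * z * x⁻¹) ∈ P₀ :=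
          P₀.mul_mem (P₀.inv_mem hzP) ((Subgroup.mem_normalizer_iff.mp hxP z).mp hzP)
        have h4 := hNPtriv _ hmem h1
        have h5 : x * z * x⁻¹ = z := by
          have := congrArg (fun t => z * t) h4
          simpa [mul_assoc] using this
        apply hz1
        apply hfpf z hzP
        have := congrArg (fun t => t * x) h5
        simpa [mul_assoc] using this.symm
      have hyinvP : y⁻¹ ∈ P₀ := P₀.inv_mem hyP
      have hyinv1 : y⁻¹ ≠ 1 := inv_ne_one.mpr hy1
      obtain ⟨hB₁, hB₁ne⟩ := hstab y (hPQ hyP) (hPV hyP) B hB hBne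
      obtain ⟨hB₂, hB₂ne⟩ := hstab y⁻¹ (hPQ hyinvP) (hPV hyinvP) B hB hBne
      obtain ⟨i, hir, hi⟩ := exists_pow_smul_eq V c hB₁ hB₂ (hmoved y hyP hy1)
        (hmoved y⁻¹ hyinvP hyinv1) hB₁ne hB₂ne
      -- `conj (x^i) • conj y⁻¹ • B = conj y • B`
      have hxiB : MulAut.conj (x ^ i) • B = B := pow_smul_eq_self hxB i
      have hxiP : x ^ i ∈ Subgroup.normalizer (P₀ : Set Γ) :=
        (Subgroup.normalizer (P₀ : Set Γ)).pow_mem hxP i
      have h1 : MulAut.conj (y⁻¹ * (x ^ i * y⁻¹ * (x ^ i)⁻¹)) • B = B := by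
        have h2 : MulAut.conj y⁻¹ • MulAut.conj (x ^ i) • MulAut.conj y⁻¹ • B = B := by
          rw [hi, smul_smul_conj, inv_mul_cancel]; simp
        have h3 : MulAut.conj (x ^ i)⁻¹ • B = B := inv_smul_eq_self hxiB
        calc MulAut.conj (y⁻¹ * (x ^ i * y⁻¹ * (x ^ i)⁻¹)) • B
            = MulAut.conj y⁻¹ • MulAut.conj (x ^ i) • MulAut.conj y⁻¹ • MulAut.conj (x ^ i)⁻¹ • B := by
              simp only [smul_smul_conj, mul_assoc]
          _ = B := by rw [h3, h2]
      have hmem : y⁻¹ * (x ^ i * y⁻¹ * (x ^ i)⁻¹) ∈ P₀ :=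
        P₀.mul_mem hyinvP ((Subgroup.mem_normalizer_iff.mp hxiP y⁻¹).mp hyinvP)
      have h4 := hNPtriv _ hmem h1
      -- `x^i y⁻¹ x^{-i} = y`
      have h5 : x ^ i * y⁻¹ * (x ^ i)⁻¹ = y := by
        have := congrArg (fun t => y * t) h4
        simpa [mul_assoc] using this
      have h6 : x ^ i * y * (x ^ i)⁻¹ = y⁻¹ := by
        have := congrArg (fun t => t⁻¹) h5
        simpa [mul_assoc] using this
      -- `x^(2i)` commutes with `y`
      have h7 : x ^ (2 * i) * y * (x ^ (2 * i))⁻¹ = y := by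
        have : x ^ (2 * i) = x ^ i * x ^ i := by rw [two_mul, pow_add]
        rw [this]
        calc x ^ i * x ^ i * y * (x ^ i * x ^ i)⁻¹
            = x ^ i * (x ^ i * y * (x ^ i)⁻¹) * (x ^ i)⁻¹ := by simp [mul_assoc]
          _ = x ^ i * y⁻¹ * (x ^ i)⁻¹ := by rw [h6]
          _ = y := h5
      have h8 : y * x ^ (2 * i) = x ^ (2 * i) * y := by
        have := congrArg (fun t => t * x ^ (2 * i)) h7
        simpa [mul_assoc] using this.symm
      by_cases hi0 : i = 0
      · -- `y² = 1`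
        subst hi0
        simp only [pow_zero, one_mul, inv_one, mul_one] at h5
        have hy2 : y ^ 2 = 1 := by
          rw [pow_two]
          calc y * y = y⁻¹ * y := by rw [h5]
            _ = 1 := inv_mul_cancel y
        have hord : orderOf y ∣ 2 := orderOf_dvd_of_pow_eq_one hy2
        have hord' : orderOf y ∣ Nat.card Γ := orderOf_dvd_natCard y
        have hodd' : Odd (orderOf y) := Odd.of_dvd_nat hodd hord'
        have : orderOf y = 1 := by
          rcases (Nat.dvd_prime Nat.prime_two).mp hord with h | h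
          · exact h
          · rw [h] at hodd'
            exact absurd hodd' (by decide)
        exact hy1 (orderOf_eq_one_iff.mp this)
      · have hnd : ¬ r ∣ 2 * i := by
          intro h
          rcases (Nat.Prime.dvd_mul hr).mp h with h2 | h2
          · exact hrodd ((Nat.prime_dvd_prime_iff_eq hr Nat.prime_two).mp h2)
          · exact absurd (Nat.le_of_dvd (Nat.pos_of_ne_zero hi0) h2) (not_le.mpr hir)
        exact hy1 (hfpf_pow (2 * i) hnd y hyP h8)
  · -- Option 2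
    have hall : ∀ B : Subgroup Γ, IsHyp Q q B → CV V B ≠ ⊥ → MulAut.conj x • B ≠ B := by
      intro B hB hBne h
      exact hopt ⟨B, hB, hBne, h⟩
    have hmv₀ : MulAut.conj x • B₀ ≠ B₀ := hall B₀ hB₀ hB₀ne
    haveI : IsMulCommutative P₀ := ⟨⟨fun a b => Subtype.ext (hP₀c a a.2 b b.2)⟩⟩
    -- (i) `P₀` normalizes `B₀`
    have hPB₀ : ∀ y ∈ P₀, MulAut.conj y • B₀ = B₀ := by
      intro y hyP
      obtain ⟨hB₁, hB₁ne⟩ := hstab y (hPQ hyP) (hPV hyP) B₀ hB₀ hB₀ne
      have hmv₁ := hall _ hB₁ hB₁ne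
      obtain ⟨i, hir, hi⟩ := exists_pow_smul_eq V c hB₁ hB₀ hmv₁ hmv₀ hB₁ne hB₀ne
      by_cases hi0 : i = 0
      · subst hi0
        simpa using hi.symm
      · exfalso
        have hnd : ¬ r ∣ i := fun h =>
          absurd (Nat.le_of_dvd (Nat.pos_of_ne_zero hi0) h) (not_le.mpr hir)
        set s := x ^ i with hs
        have hsP : s ∈ Subgroup.normalizer (P₀ : Set Γ) :=
          (Subgroup.normalizer (P₀ : Set Γ)).pow_mem hxP i
        let f : P₀ →* P₀ := (cj P₀ s hsP)⁻¹ * MonoidHom.id P₀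
        have hfval : ∀ a : P₀, ((f a : P₀) : Γ) = (s * a * s⁻¹)⁻¹ * a := fun a => rfl
        have hfinj : Function.Injective f := by
          rw [injective_iff_map_eq_one]
          intro a ha
          have h1 : ((f a : P₀) : Γ) = ((1 : P₀) : Γ) := congrArg Subtype.val ha
          rw [hfval] at h1
          have h3 : (a : Γ) = s * a * s⁻¹ := by
            have := congrArg (fun t => (s * a * s⁻¹) * t) h1
            simpa [mul_assoc] using this
          have h4 : (a : Γ) * s = s * a := by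
            have := congrArg (fun t => t * s) h3
            simpa [mul_assoc] using this
          exact Subtype.ext (hfpf_pow i hnd a a.2 h4)
        have hfsurj : Function.Surjective f := Finite.injective_iff_surjective.mp hfinj
        obtain ⟨a, ha⟩ := hfsurj ⟨y, hyP⟩
        have hay : (s * a * s⁻¹)⁻¹ * (a : Γ) = y := by
          rw [← hfval, ha]
        obtain ⟨hB₂, hB₂ne⟩ := hstab (a : Γ) (hPQ a.2) (hPV a.2) B₀ hB₀ hB₀ne
        have hmv₂ := hall _ hB₂ hB₂ne
        have hsB₂ : MulAut.conj s • MulAut.conj (a : Γ) • B₀ = MulAut.conj (a : Γ) • B₀ := by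
          have e1 : s * (a : Γ) = (s * a * s⁻¹) * s := by simp [mul_assoc]
          have e2 : (s * a * s⁻¹) * y = (a : Γ) := by
            rw [← hay]; simp [mul_assoc]
          calc MulAut.conj s • MulAut.conj (a : Γ) • B₀
              = MulAut.conj ((s * a * s⁻¹) * s) • B₀ := by rw [smul_smul_conj, ← e1]
            _ = MulAut.conj (s * a * s⁻¹) • MulAut.conj s • B₀ := by rw [smul_smul_conj]
            _ = MulAut.conj (s * a * s⁻¹) • MulAut.conj y • B₀ := by rw [hi]
            _ = MulAut.conj (a : Γ) • B₀ := by rw [smul_smul_conj, e2]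
        have hcop : Nat.Coprime i (orderOf x) := by
          rw [hx]
          exact (Nat.Prime.coprime_iff_not_dvd hr).mpr hnd |>.symm
        obtain ⟨m, hm⟩ := exists_pow_eq_self_of_coprime hcop
        have := pow_smul_eq_self hsB₂ m
        rw [hm] at this
        exact hmv₂ this
    -- (ii) `W = C_V(B₀)` is centralized by `P₀`, hence by `Q`
    set W := CV V B₀ with hW
    have hWV : W ≤ V := inf_le_left
    have hVp : IsPGroup p V := by
      intro g
      exact ⟨1, by rw [pow_one]; exact Subtype.ext (hV.2 g g.2)⟩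
    have hWp : IsPGroup p W := hVp.to_le hWV
    have hPW : P₀ ≤ Subgroup.normalizer (W : Set Γ) := fun y hy =>
      mem_normalizer_CV V (hPV hy) (hPB₀ y hy)
    have hQW : Q ≤ Subgroup.normalizer (W : Set Γ) := by
      intro u hu
      apply mem_normalizer_CV V (hQV hu)
      apply smul_eq_of_mem_normalizer
      apply Subgroup.centralizer_le_normalizer
      rw [Subgroup.mem_centralizer_iff]
      intro h hh
      exact hQc h (hB₀.1 hh) u hu
    have hWcard : Nat.card W ≤ p := card_CV_le V c hB₀ hmv₀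
    have hZne : W ⊓ Subgroup.centralizer (P₀ : Set Γ) ≠ ⊥ :=
      Cfsg.Agent.Lib.Helper55.inf_centralizer_ne_bot_of_le_normalizer hP₀ hWp hB₀ne hPW
    have hZp : IsPGroup p (W ⊓ Subgroup.centralizer (P₀ : Set Γ) : Subgroup Γ) :=
      hWp.to_le inf_le_left
    have hZcard : p ≤ Nat.card (W ⊓ Subgroup.centralizer (P₀ : Set Γ) : Subgroup Γ) := by
      rcases hZp.card_eq_or_dvd with h | h
      · exact absurd (Subgroup.card_eq_one.mp h) hZne
      · exact Nat.le_of_dvd Nat.card_pos h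
    have hZW : W ⊓ Subgroup.centralizer (P₀ : Set Γ) = W :=
      Subgroup.eq_of_le_of_card_ge inf_le_left (hWcard.trans hZcard)
    have hWP : W ≤ Subgroup.centralizer (P₀ : Set Γ) := by
      rw [← hZW]; exact inf_le_right
    have hPcW : P₀ ≤ Subgroup.centralizer (W : Set Γ) := by
      intro y hy
      rw [Subgroup.mem_centralizer_iff]
      intro w hw
      have := hWP hw
      rw [Subgroup.mem_centralizer_iff] at this
      exact (this y hy).symm
    have hcomm : ⁅Q, P₀⁆ ≤ Subgroup.centralizer (W : Set Γ) := by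
      rw [Subgroup.commutator_le]
      intro u hu y hy
      have hyC : y ∈ Subgroup.centralizer (W : Set Γ) := hPcW hy
      have huN : u ∈ Subgroup.normalizer
          ((Subgroup.centralizer (W : Set Γ) : Subgroup Γ) : Set Γ) :=
        Cfsg.Agent.Lib.Helper55.normalizer_le_normalizer_centralizer W (hQW hu)
      have h1 : u * y * u⁻¹ ∈ Subgroup.centralizer (W : Set Γ) :=
        (Subgroup.mem_normalizer_iff.mp huN y).mp hyC
      rw [commutatorElement_def]
      exact Subgroup.mul_mem _ h1 (Subgroup.inv_mem _ hyC)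
    rw [hQP] at hcomm
    have hWbot : W ≤ V ⊓ Subgroup.centralizer (Q : Set Γ) := by
      intro w hw
      refine Subgroup.mem_inf.mpr ⟨hWV hw, ?_⟩
      rw [Subgroup.mem_centralizer_iff]
      intro u hu
      have := hcomm hu
      rw [Subgroup.mem_centralizer_iff] at this
      exact (this w hw).symm
    rw [hfVQ] at hWbot
    exact hB₀ne (le_bot_iff.mp hWbot)

end Cfsg.Agent.Lib.Helper05.BG36C2
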