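import Mathlib

/-!
# Quasi-elementary groups (helper5)

`IsQE p H`: the group `H` has a cyclic normal subgroup of order prime to `p` and `p`-power index.
-/

set_option autoImplicit false

namespace Cfsg.Agent.Lib.Helper05

/-- `H` is `p`-quasi-elementary: it has a cyclic normal subgroup of order prime to `p` and of
`p`-power index. -/
def IsQE (p : ℕ) (H : Type*) [Group H] : Prop :=
  ∃ C : Subgroup H, C.Normal ∧ IsCyclic C ∧ (Nat.card C).Coprime p ∧ ∃ k : ℕ, C.index = p ^ k

theorem IsQE.of_mulEquiv {p : ℕ} {H H' : Type*} [Group H] [Group H'] (e : H ≃* H')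
    (h : IsQE p H) : IsQE p H' := by
  obtain ⟨C, hCn, hCc, hCp, k, hk⟩ := h
  refine ⟨C.map e.toMonoidHom, hCn.map e.toMonoidHom e.surjective, ?_, ?_, k, ?_⟩
  · exact (C.equivMapOfInjective e.toMonoidHom e.injective).isCyclic.mp hCc
  · rw [Subgroup.card_map_of_injective e.injective]
    exact hCp
  · rw [← hk]
    exact Subgroup.index_map_equiv C e

theorem IsQE.subgroup {p : ℕ} (hp : p.Prime) {H : Type*} [Group H] (h : IsQE p H)
    (K : Subgroup H) : IsQE p K := by
  obtain ⟨C, hCn, hCc, hCp, k, hk⟩ := h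
  haveI := hCn
  haveI := hCc
  refine ⟨C.subgroupOf K, inferInstance, ?_, ?_, ?_⟩
  · -- injective map `C.subgroupOf K →* C`
    let f : C.subgroupOf K →* C :=
      { toFun := fun x => ⟨x.1.1, x.2⟩
        map_one' := rfl
        map_mul' := fun _ _ => rfl }
    apply isCyclic_of_injective f
    intro x y hxy
    apply Subtype.ext
    apply Subtype.ext
    have h3 : (f x : H) = (f y : H) := congrArg Subtype.val hxy
    exact h3
  · let f : C.subgroupOf K →* C :=
      { toFun := fun x => ⟨x.1.1, x.2⟩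
        map_one' := rfl
        map_mul' := fun _ _ => rfl }
    have hinj : Function.Injective f := by
      intro x y hxy
      apply Subtype.ext
      apply Subtype.ext
      have h3 : (f x : H) = (f y : H) := congrArg Subtype.val hxy
      exact h3
    exact Nat.Coprime.coprime_dvd_left (Subgroup.card_dvd_of_injective f hinj) hCp
  · have hdvd : (C.subgroupOf K).index ∣ p ^ k := by
      rw [← hk]
      exact Subgroup.relIndex_dvd_index_of_normal C K
    obtain ⟨j, -, hj⟩ := (Nat.dvd_prime_pow hp).mp hdvd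
    exact ⟨j, hj⟩

section Sub

variable {G : Type*} [Group G]

theorem IsQE.of_le {p : ℕ} (hp : p.Prime) {H K : Subgroup G} (h : IsQE p H) (hKH : K ≤ H) :
    IsQE p K :=
  (h.subgroup hp (K.subgroupOf H)).of_mulEquiv (Subgroup.subgroupOfEquivOfLe hKH)

theorem IsQE.conj {p : ℕ} {H : Subgroup G} (h : IsQE p H) (g : G) :
    IsQE p (H.map (MulAut.conj g).toMonoidHom) :=
  h.of_mulEquiv (H.equivMapOfInjective (MulAut.conj g).toMonoidHom (MulAut.conj g).injective)

/-- Exact (ambient) form of quasi-elementarity. -/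
theorem IsQE.exists_ambient {p : ℕ} {H : Subgroup G} (h : IsQE p H) :
    ∃ C : Subgroup G, C ≤ H ∧ H ≤ Subgroup.normalizer (C : Set G) ∧ IsCyclic C ∧
      Nat.Coprime (Nat.card C) p ∧ ∃ k : ℕ, C.relIndex H = p ^ k := by
  obtain ⟨C, hCn, hCc, hCp, k, hk⟩ := h
  refine ⟨C.map H.subtype, Subgroup.map_subtype_le C, ?_, ?_, ?_, k, ?_⟩
  · have h1 := Subgroup.le_normalizer_map (H := C) H.subtype
    have h2 : Subgroup.normalizer (C : Set H) = ⊤ := Subgroup.normalizer_eq_top_iff.mpr hCn
    rw [h2, ← MonoidHom.range_eq_map, Subgroup.range_subtype] at h1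
    exact h1
  · exact (C.equivMapOfInjective H.subtype H.subtype_injective).isCyclic.mp hCc
  · rw [Subgroup.card_map_of_injective H.subtype_injective]
    exact hCp
  · rw [← hk, Subgroup.relIndex, Subgroup.subgroupOf,
      Subgroup.comap_map_eq_self_of_injective H.subtype_injective]

theorem isQE_of_ambient {p : ℕ} {H C : Subgroup G} (hCH : C ≤ H)
    (hN : H ≤ Subgroup.normalizer (C : Set G)) (hc : IsCyclic C)
    (hcop : Nat.Coprime (Nat.card C) p) {k : ℕ} (hk : C.relIndex H = p ^ k) : IsQE p H := by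
  refine ⟨C.subgroupOf H, Subgroup.normal_subgroupOf_of_le_normalizer hN, ?_, ?_, k, hk⟩
  · exact (Subgroup.subgroupOfEquivOfLe hCH).isCyclic.mpr hc
  · rw [Nat.card_congr (Subgroup.subgroupOfEquivOfLe hCH).toEquiv]
    exact hcop

end Sub

end Cfsg.Agent.Lib.Helper05
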