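import Mathlib
import Cfsg.Agent.Lib.Helper05.QuasiElem

/-!
# The key point of Solomon's induction theorem (helper5)

For every element `x` of a finite group and every prime `p` there is a `p`-quasi-elementary
subgroup `H` such that the number of fixed points of `x` on `G ⧸ H` is prime to `p`.
-/

set_option autoImplicit false

namespace Cfsg.Agent.Lib.Helper05

open MulAction

section Aux

variable {G : Type*} [Group G]

/-- If conjugation by `g` sends the generator of a finite cyclic subgroup into it, then `g`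
normalises the subgroup. -/
theorem mem_normalizer_zpowers_of_conj_mem [Finite G] (c g : G)
    (h : g * c * g⁻¹ ∈ Subgroup.zpowers c) :
    g ∈ Subgroup.normalizer (Subgroup.zpowers c : Set G) := by
  have hfwd : ∀ k ∈ Subgroup.zpowers c, g * k * g⁻¹ ∈ Subgroup.zpowers c := by
    intro k hk
    obtain ⟨j, rfl⟩ := hk
    have : g * c ^ j * g⁻¹ = (g * c * g⁻¹) ^ j := by
      rw [conj_zpow]
    rw [this]
    exact Subgroup.zpow_mem _ h j
  let φ : Subgroup.zpowers c → Subgroup.zpowers c := fun k => ⟨g * k.1 * g⁻¹, hfwd k.1 k.2⟩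
  have hinj : Function.Injective φ := by
    intro k₁ k₂ h12
    apply Subtype.ext
    have h3 : g * k₁.1 * g⁻¹ = g * k₂.1 * g⁻¹ := congrArg Subtype.val h12
    exact mul_left_cancel (mul_right_cancel h3)
  have hsurj : Function.Surjective φ := Finite.injective_iff_surjective.mp hinj
  rw [Subgroup.mem_normalizer_iff]
  intro k
  constructor
  · exact hfwd k
  · intro hk
    obtain ⟨k', hk'⟩ := hsurj ⟨g * k * g⁻¹, hk⟩
    have h3 : g * k'.1 * g⁻¹ = g * k * g⁻¹ := congrArg Subtype.val hk'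
    have : k'.1 = k := mul_left_cancel (mul_right_cancel h3)
    rw [← this]
    exact k'.2

/-- Powers by the relative index land in a subgroup normalised by the larger one. -/
theorem pow_relIndex_mem_of_le_normalizer {C H : Subgroup G}
    (hN : H ≤ Subgroup.normalizer (C : Set G)) {h : G} (hh : h ∈ H) :
    h ^ C.relIndex H ∈ C := by
  haveI : (C.subgroupOf H).Normal := Subgroup.normal_subgroupOf_of_le_normalizer hN
  have h1 := Subgroup.pow_index_mem (C.subgroupOf H) (⟨h, hh⟩ : H)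
  rw [Subgroup.mem_subgroupOf] at h1
  exact h1

/-- If a power of `d` prime to its order lies in a subgroup, so does `d`. -/
theorem mem_of_pow_mem_of_coprime [Finite G] {C : Subgroup G} {d : G} {m : ℕ}
    (hcop : (orderOf d).Coprime m) (hd : d ^ m ∈ C) : d ∈ C := by
  have h1 : Subgroup.zpowers (d ^ m) ≤ Subgroup.zpowers d :=
    Subgroup.zpowers_le.mpr (Subgroup.pow_mem _ (Subgroup.mem_zpowers d) m)
  have h2 : Subgroup.zpowers (d ^ m) = Subgroup.zpowers d := by
    apply Subgroup.eq_of_le_of_card_ge h1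
    rw [Nat.card_zpowers, Nat.card_zpowers, hcop.orderOf_pow]
  have h3 : d ∈ Subgroup.zpowers (d ^ m) := by
    rw [h2]; exact Subgroup.mem_zpowers d
  exact (Subgroup.zpowers_le.mpr hd) h3

/-- The relative index of a normal subgroup in the preimage of a subgroup of the quotient. -/
theorem relIndex_comap_mk' (C : Subgroup G) [C.Normal] (Q : Subgroup (G ⧸ C)) :
    C.relIndex (Q.comap (QuotientGroup.mk' C)) = Nat.card Q := by
  have h1 : C = (⊥ : Subgroup (G ⧸ C)).comap (QuotientGroup.mk' C) := by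
    rw [MonoidHom.comap_bot, QuotientGroup.ker_mk']
  calc C.relIndex (Q.comap (QuotientGroup.mk' C))
      = ((⊥ : Subgroup (G ⧸ C)).comap (QuotientGroup.mk' C)).relIndex
          (Q.comap (QuotientGroup.mk' C)) := by rw [← h1]
    _ = (⊥ : Subgroup (G ⧸ C)).relIndex ((Q.comap (QuotientGroup.mk' C)).map
          (QuotientGroup.mk' C)) := Subgroup.relIndex_comap _ _ _
    _ = (⊥ : Subgroup (G ⧸ C)).relIndex Q := by
        rw [Subgroup.map_comap_eq_self_of_surjective (QuotientGroup.mk'_surjective C)]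
    _ = Nat.card Q := Subgroup.relIndex_bot_left Q

end Aux

section Main

variable {G : Type*} [Group G] [Finite G]

/-- For every `x` and prime `p` there is a `p`-quasi-elementary subgroup `H` such that the number
of cosets of `H` fixed by `x` is prime to `p`. -/
theorem exists_isQE_not_dvd_card_fixedBy (p : ℕ) [hp : Fact p.Prime] (x : G) :
    ∃ H : Subgroup G, IsQE p H ∧ ¬ p ∣ Nat.card (fixedBy (G ⧸ H) x) := by
  classical
  -- the order of `x`
  obtain ⟨n, hn⟩ : ∃ n, n = orderOf x := ⟨_, rfl⟩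
  have hn0 : n ≠ 0 := by rw [hn]; exact (orderOf_pos x).ne'
  obtain ⟨a, ha⟩ : ∃ a, a = n.factorization p := ⟨_, rfl⟩
  obtain ⟨l, hl⟩ : ∃ l, l = n / p ^ a := ⟨_, rfl⟩
  have hnl : p ^ a * l = n := by
    rw [hl, ha]; exact Nat.ordProj_mul_ordCompl_eq_self n p
  have hlp : Nat.Coprime l p := by
    rw [hl, ha]; exact (Nat.coprime_ordCompl hp.out hn0).symm
  have hpa0 : p ^ a ≠ 0 := (pow_pos hp.out.pos a).ne'
  -- the `p'`-part
  obtain ⟨c, hc⟩ : ∃ c, c = x ^ (p ^ a) := ⟨_, rfl⟩
  have hco : orderOf c = l := by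
    rw [hc, orderOf_pow_of_dvd hpa0 (by rw [← hn, ← hnl]; exact dvd_mul_right _ _), ← hn, hl]
  have hxc : Commute x c := by rw [hc]; exact (Commute.refl x).pow_right _
  obtain ⟨C, hC⟩ : ∃ C, C = Subgroup.zpowers c := ⟨_, rfl⟩
  have hCcard : Nat.card C = l := by rw [hC, Nat.card_zpowers, hco]
  have hCcyc : IsCyclic C := by rw [hC]; infer_instance
  have hcC : c ∈ C := by rw [hC]; exact Subgroup.mem_zpowers c
  obtain ⟨N, hN⟩ : ∃ N, N = Subgroup.normalizer (C : Set G) := ⟨_, rfl⟩
  have hCN : C ≤ N := by rw [hN]; exact Subgroup.le_normalizer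
  have hxcomm : ∀ k ∈ C, x * k * x⁻¹ = k := by
    intro k hk
    rw [hC] at hk
    obtain ⟨j, rfl⟩ := hk
    have : Commute x (c ^ j) := hxc.zpow_right j
    rw [this.eq, mul_inv_cancel_right]
  have hxN : x ∈ N := by
    rw [hN, Subgroup.mem_normalizer_iff]
    intro k
    constructor
    · intro hk
      rw [hxcomm k hk]; exact hk
    · intro hk
      have h1 := hxcomm _ hk
      have h2 : x * k * x⁻¹ = k := by
        have h3 : x * (x * k * x⁻¹) * x⁻¹ = x * k * x⁻¹ := h1
        calc x * k * x⁻¹ = x⁻¹ * (x * (x * k * x⁻¹) * x⁻¹) * x := by group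
          _ = x⁻¹ * (x * k * x⁻¹) * x := by rw [h3]
          _ = k := by group
      rw [← h2]; exact hk
  -- the quotient `N ⧸ C`
  haveI hC'n : (C.subgroupOf N).Normal :=
    Subgroup.normal_subgroupOf_of_le_normalizer (by rw [hN])
  obtain ⟨xN, hxNdef⟩ : ∃ xN : N, xN = ⟨x, hxN⟩ := ⟨_, rfl⟩
  have hxNpow : (QuotientGroup.mk' (C.subgroupOf N) xN) ^ (p ^ a) = 1 := by
    rw [← map_pow]
    apply (QuotientGroup.eq_one_iff _).mpr
    rw [Subgroup.mem_subgroupOf, hxNdef]
    change x ^ (p ^ a) ∈ C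
    rw [← hc]; exact hcC
  have hpg : IsPGroup p (Subgroup.zpowers (QuotientGroup.mk' (C.subgroupOf N) xN)) := by
    rintro ⟨h, hh⟩
    obtain ⟨j, rfl⟩ := hh
    refine ⟨a, Subtype.ext ?_⟩
    change ((QuotientGroup.mk' (C.subgroupOf N) xN) ^ j) ^ (p ^ a) = 1
    rw [← zpow_natCast, ← zpow_mul, mul_comm, zpow_mul, zpow_natCast, hxNpow, one_zpow]
  obtain ⟨Q, hQ⟩ := hpg.exists_le_sylow
  obtain ⟨H', hH'⟩ : ∃ H' : Subgroup N,
      H' = (Q : Subgroup (N ⧸ C.subgroupOf N)).comap (QuotientGroup.mk' (C.subgroupOf N)) :=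
    ⟨_, rfl⟩
  obtain ⟨H, hH⟩ : ∃ H : Subgroup G, H = H'.map N.subtype := ⟨_, rfl⟩
  have hC'H' : C.subgroupOf N ≤ H' := by
    intro y hy
    rw [hH', Subgroup.mem_comap]
    have : QuotientGroup.mk' (C.subgroupOf N) y = 1 := (QuotientGroup.eq_one_iff y).mpr hy
    rw [this]; exact one_mem _
  have hCmap : C = (C.subgroupOf N).map N.subtype := by
    rw [Subgroup.subgroupOf_map_subtype, inf_of_le_left hCN]
  have hCH : C ≤ H := by
    rw [hCmap, hH]; exact Subgroup.map_mono hC'H'
  have hHN : H ≤ N := by rw [hH]; exact Subgroup.map_subtype_le H'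
  have hxNH' : xN ∈ H' := by
    rw [hH', Subgroup.mem_comap]
    exact hQ (Subgroup.mem_zpowers _)
  have hxH : x ∈ H := by
    rw [hH]
    exact ⟨xN, hxNH', by rw [hxNdef]; rfl⟩
  obtain ⟨k, hk⟩ := IsPGroup.iff_card.mp Q.2
  have hrel : C.relIndex H = p ^ k := by
    rw [hCmap, hH, Subgroup.relIndex_map_map_of_injective _ _ N.subtype_injective, hH',
      relIndex_comap_mk']
    exact hk
  have hQE : IsQE p H := by
    refine isQE_of_ambient hCH (by rw [← hN]; exact hHN) hCcyc ?_ hrel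
    rw [hCcard]; exact hlp
  have hindex : ¬ p ∣ H'.index := by
    rw [hH', Subgroup.index_comap_of_surjective _ (QuotientGroup.mk'_surjective _)]
    exact Q.not_dvd_index
  refine ⟨H, hQE, ?_⟩
  -- claim: `y⁻¹ c y ∈ H` forces `y ∈ N`
  have hclaim : ∀ y : G, y⁻¹ * c * y ∈ H → y ∈ N := by
    intro y hy
    have h1 : (y⁻¹ * c * y) ^ (p ^ k) ∈ C := by
      rw [← hrel]
      exact pow_relIndex_mem_of_le_normalizer (by rw [← hN]; exact hHN) hy
    have h2 : orderOf (y⁻¹ * c * y) = l := by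
      have : y⁻¹ * c * y = MulAut.conj y⁻¹ c := by rw [MulAut.conj_apply, inv_inv]
      rw [this, MulEquiv.orderOf_eq, hco]
    have h3 : y⁻¹ * c * y ∈ C := by
      apply mem_of_pow_mem_of_coprime _ h1
      rw [h2]
      exact Nat.Coprime.pow_right k hlp
    have h4 : y⁻¹ ∈ N := by
      rw [hN, hC]
      apply mem_normalizer_zpowers_of_conj_mem
      rw [inv_inv, ← hC]
      exact h3
    exact inv_mem_iff.mp h4
  -- the `N`-orbit of the base coset
  obtain ⟨q₀, hq₀⟩ : ∃ q₀ : G ⧸ H, q₀ = ((1 : G) : G ⧸ H) := ⟨_, rfl⟩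
  have hstab : stabilizer N q₀ = H' := by
    ext m
    rw [mem_stabilizer_iff, hq₀]
    change (((m : G) * 1 : G) : G ⧸ H) = ((1 : G) : G ⧸ H) ↔ _
    rw [mul_one, QuotientGroup.eq, mul_one, inv_mem_iff, hH,
      ← Subgroup.mem_map_iff_mem N.subtype_injective]
    rfl
  have hcardΩ : Nat.card (orbit N q₀) = H'.index := by
    rw [← hstab, index_stabilizer, Nat.card_coe_set_eq]
  have hΩ : ∀ q : G ⧸ H, q ∈ orbit N q₀ ↔ c • q = q := by
    intro q
    constructor
    · rintro ⟨m, rfl⟩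
      change c • ((m : G) • q₀) = (m : G) • q₀
      rw [hq₀]
      change (((c * ((m : G) * 1) : G)) : G ⧸ H) = (((m : G) * 1 : G) : G ⧸ H)
      rw [mul_one, QuotientGroup.eq]
      have hm : (m : G) ∈ Subgroup.normalizer (C : Set G) := by rw [← hN]; exact m.2
      have h1 : (m : G)⁻¹ * c * (m : G) ∈ C := (Subgroup.mem_normalizer_iff''.mp hm c).mp hcC
      have h2 : (c * (m : G))⁻¹ * (m : G) = ((m : G)⁻¹ * c * (m : G))⁻¹ := by group
      rw [h2]
      exact hCH (inv_mem h1)
    · intro hq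
      obtain ⟨y, rfl⟩ := QuotientGroup.mk_surjective q
      change (((c * y : G)) : G ⧸ H) = ((y : G) : G ⧸ H) at hq
      rw [QuotientGroup.eq] at hq
      have h2 : y⁻¹ * c * y = ((c * y)⁻¹ * y)⁻¹ := by group
      have hyN : y ∈ N := hclaim y (by rw [h2]; exact inv_mem hq)
      refine ⟨⟨y, hyN⟩, ?_⟩
      change (y : G) • q₀ = _
      rw [hq₀]
      change (((y * 1 : G)) : G ⧸ H) = _
      rw [mul_one]
  have hxΩ : ∀ q : G ⧸ H, q ∈ orbit N q₀ → x • q ∈ orbit N q₀ := by
    intro q hq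
    rw [hΩ] at hq ⊢
    rw [smul_smul, ← hxc.eq, ← smul_smul, hq]
  haveI : Fintype (orbit N q₀) := Fintype.ofFinite _
  obtain ⟨f, hf⟩ : ∃ f : Function.End (orbit N q₀), f = fun ω => ⟨x • ω.1, hxΩ ω.1 ω.2⟩ :=
    ⟨_, rfl⟩
  have hfval : ∀ ω' : orbit N q₀, (f ω').1 = x • ω'.1 := by
    intro ω'; rw [hf]
  have hfpow : ∀ (j : ℕ) (ω : orbit N q₀), ((f ^ j) ω).1 = x ^ j • ω.1 := by
    intro j
    induction j with
    | zero =>
      intro ω
      rw [pow_zero, pow_zero, one_smul]
      rfl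
    | succ j ih =>
      intro ω
      rw [pow_succ', Function.End.mul_def]
      change (f ((f ^ j) ω)).1 = _
      have h1 : ∀ ω' : orbit N q₀, (f ω').1 = x • ω'.1 := by
        intro ω'; rw [hf]
      rw [h1, ih ω, smul_smul, ← pow_succ']
  have hfone : f ^ p ^ a = 1 := by
    funext ω
    apply Subtype.ext
    rw [hfpow, ← hc]
    exact (hΩ ω.1).mp ω.2
  have hmod := Equiv.Perm.card_fixedPoints_modEq (f := f) (p := p) (n := a) hfone
  have hfix : Nat.card (Function.fixedPoints f) = Nat.card (fixedBy (G ⧸ H) x) := by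
    apply Nat.card_congr
    refine
      { toFun := fun ω => ⟨ω.1.1, ?_⟩
        invFun := fun q => ⟨⟨q.1, ?_⟩, ?_⟩
        left_inv := fun ω => rfl
        right_inv := fun q => rfl }
    · have h1 : f ω.1 = ω.1 := ω.2
      have h2 := congrArg Subtype.val h1
      rw [hfval] at h2
      exact h2
    · rw [hΩ, hc]
      have h1 : x • q.1 = q.1 := q.2
      clear hfone hmod
      induction (p ^ a) with
      | zero => simp
      | succ j ih => rw [pow_succ, mul_smul, h1, ih]
    · change f _ = _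
      apply Subtype.ext
      rw [hfval]
      exact q.2
  rw [← hfix]
  rw [Fintype.card_eq_nat_card, Fintype.card_eq_nat_card, hcardΩ] at hmod
  intro hdvd
  exact hindex ((hmod.dvd_iff (dvd_refl p)).mpr hdvd)

end Main

end Cfsg.Agent.Lib.Helper05
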