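import Mathlib
import Cfsg.Agent.Lib.Helper71.BG1366Defs
import Cfsg.Agent.Lib.Helper15.BG142Defs
import Cfsg.Agent.Lib.Helper55.Basic
import Cfsg.Agent.Lib.Helper31.BG12a
import Cfsg.Agent.Lib.Helper01.BG134CJ
import Cfsg.Agent.Lib.Helper71.BG11a
import Cfsg.Agent.S1378

/-!
# K-1366-N (136615): `M ⊓ M* = K K*` for any partner `M*`.
-/

set_option autoImplicit false

namespace Cfsg.Agent.Lib.Helper05.BG1366

open Cfsg Subgroup Cfsg.Agent.Lib.Helper55 Cfsg.Agent.Lib.Helper11.BG14D Cfsg.Agent.Lib.Helper11.BG144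
  Cfsg.Agent.Lib.Helper31.BG147 Cfsg.Agent.Lib.Helper71.BG1366

variable {G : Type*} [Group G] [Finite G]

theorem inter_partner (hG : IsMinSimpleOddOrder G) (h30 : H1430 G) {M K Mstar : Subgroup G} (hp : PPair M K)
    (hMstar : IsCoatom Mstar)
    (hKst : K = sigmaCore Mstar ⊓ centralizer ((Ks M K : Subgroup G) : Set G))
    (hKstH : IsPiHallOf (kappa Mstar) (Ks M K) Mstar) :
    M ⊓ Mstar = K ⊔ Ks M K := by
  have hM := hp.coatom
  have hKM : K ≤ M := hp.hall.1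
  have hKsM : Ks M K ≤ M := inf_le_left.trans (Cfsg.Agent.Lib.Helper71.BG11.sigmaCore_le M)
  have hKσ : K ≤ sigmaCore Mstar := hKst.le.trans inf_le_left
  have hKMs : K ≤ Mstar := hKσ.trans (Cfsg.Agent.Lib.Helper71.BG11.sigmaCore_le Mstar)
  have hKsMs : Ks M K ≤ Mstar := hKstH.1
  -- a prime `p` dividing `|K|`
  have hK1 : Nat.card K ≠ 1 := fun h1 => hp.ne (Subgroup.card_eq_one.mp h1)
  obtain ⟨p, hpp, hpK⟩ := Nat.exists_prime_and_dvd hK1
  have hpκ : p ∈ kappa M := hp.hall.2.1 p hpp hpK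
  have hpσs : p ∈ sigma Mstar :=
    Cfsg.Agent.Lib.Helper71.BG11.sigmaCore_pi hG hMstar hpp
      (hpK.trans (Subgroup.card_dvd_of_le hKσ))
  have hpnσ : p ∉ sigma M := hpκ.2.2.1
  -- `σ(M) ∩ σ(M*) = ∅`
  have hdis : ∀ r : ℕ, r ∈ sigma M → r ∉ sigma Mstar := by
    intro r hr hr'
    obtain ⟨g, hg⟩ := (Cfsg.Agent.S1378.result hG).2 M Mstar hM hMstar ⟨r, hr, hr'⟩
    apply hpnσ
    have h1 : p ∈ sigma (Cfsg.Agent.Lib.Helper55.cj g M) := by
      have : Cfsg.Agent.Lib.Helper55.cj g M = Mstar := hg.symm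
      rw [this]; exact hpσs
    exact (Cfsg.Agent.Lib.Helper01.BG134.mem_sigma_cj_iff g).mp h1
  have hbot : sigmaCore M ⊓ sigmaCore Mstar = ⊥ := by
    apply Cfsg.Agent.Lib.Helper31.BG12.eq_bot_of_forall_prime_not_dvd
    intro r hr hrd
    exact hdis r
      (Cfsg.Agent.Lib.Helper71.BG11.sigmaCore_pi hG hM hr
        (hrd.trans (Subgroup.card_dvd_of_le inf_le_left)))
      (Cfsg.Agent.Lib.Helper71.BG11.sigmaCore_pi hG hMstar hr
        (hrd.trans (Subgroup.card_dvd_of_le inf_le_right)))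
  -- `D₂ := M*_σ ⊓ M = K`
  have hD2 : sigmaCore Mstar ⊓ M = K := by
    apply le_antisymm
    · intro d hd
      obtain ⟨hdσ, hdM⟩ := Subgroup.mem_inf.mp hd
      apply hKst.ge
      refine Subgroup.mem_inf.mpr ⟨hdσ, ?_⟩
      rw [Subgroup.mem_centralizer_iff]
      intro y hy
      have hyσ : y ∈ sigmaCore M := (Subgroup.mem_inf.mp hy).1
      have hyMs : y ∈ Mstar := hKsMs hy
      have hc1 : d * y * d⁻¹ * y⁻¹ ∈ sigmaCore M := by
        have hn := Cfsg.Agent.Lib.Helper71.BG11.le_normalizer_sigmaCore M hdM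
        rw [Subgroup.mem_normalizer_iff] at hn
        exact Subgroup.mul_mem _ ((hn y).mp hyσ) (Subgroup.inv_mem _ hyσ)
      have hc2 : d * y * d⁻¹ * y⁻¹ ∈ sigmaCore Mstar := by
        have hn := Cfsg.Agent.Lib.Helper71.BG11.le_normalizer_sigmaCore Mstar hyMs
        rw [Subgroup.mem_normalizer_iff] at hn
        have h2 : y * d⁻¹ * y⁻¹ ∈ sigmaCore Mstar := (hn d⁻¹).mp (Subgroup.inv_mem _ hdσ)
        have h3 : d * y * d⁻¹ * y⁻¹ = d * (y * d⁻¹ * y⁻¹) := by group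
        rw [h3]
        exact Subgroup.mul_mem _ hdσ h2
      have hc : d * y * d⁻¹ * y⁻¹ ∈ sigmaCore M ⊓ sigmaCore Mstar := Subgroup.mem_inf.mpr ⟨hc1, hc2⟩
      rw [hbot, Subgroup.mem_bot] at hc
      -- `d y d⁻¹ y⁻¹ = 1` gives `y d = d y`
      have h4 : d * y = y * d := by
        have : d * y = (d * y * d⁻¹ * y⁻¹) * (y * d) := by group
        rw [this, hc, one_mul]
      exact h4.symm
    · exact le_inf hKσ hKM
  -- `D` normalizes `K`
  have hDN : M ⊓ Mstar ≤ normalizer (K : Set G) := by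
    intro d hd
    obtain ⟨hdM, hdMs⟩ := Subgroup.mem_inf.mp hd
    rw [Subgroup.mem_normalizer_iff]
    intro h
    have hn := Cfsg.Agent.Lib.Helper71.BG11.le_normalizer_sigmaCore Mstar hdMs
    rw [Subgroup.mem_normalizer_iff] at hn
    rw [← hD2, Subgroup.mem_inf, Subgroup.mem_inf, ← hn h]
    constructor
    · rintro ⟨h1, h2⟩
      exact ⟨h1, M.mul_mem (M.mul_mem hdM h2) (M.inv_mem hdM)⟩
    · rintro ⟨h1, h2⟩
      refine ⟨h1, ?_⟩
      have : h = d⁻¹ * (d * h * d⁻¹) * d := by group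
      rw [this]
      exact M.mul_mem (M.mul_mem (M.inv_mem hdM) h2) hdM
  -- a subgroup `X ≤ K` of prime order
  have : Fact p.Prime := ⟨hpp⟩
  obtain ⟨x, hx⟩ := exists_prime_orderOf_dvd_card' (G := K) p hpK
  have hXK : zpowers (x : G) ≤ K := by
    rw [Subgroup.zpowers_le]; exact x.2
  have hXc : (Nat.card (zpowers (x : G))).Prime := by
    rw [Nat.card_zpowers, Subgroup.orderOf_coe, hx]; exact hpp
  have h3b := ((h30 M hM K hp.hall hp.ne).2.2 (zpowers (x : G)) hXK hXc).2.1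
  apply le_antisymm
  · intro d hd
    have : d ∈ M ⊓ normalizer (K : Set G) := Subgroup.mem_inf.mpr ⟨(Subgroup.mem_inf.mp hd).1, hDN hd⟩
    rw [h3b] at this
    exact this
  · exact sup_le (le_inf hKM hKMs) (le_inf hKsM hKsMs)

end Cfsg.Agent.Lib.Helper05.BG1366
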