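import Mathlib
import Cfsg.Prelude.Def_Characters
import Cfsg.Agent.Lib.Helper05.CharBasic
import Cfsg.Agent.Lib.Helper05.CharValues
import Cfsg.Agent.Lib.Helper05.CharOrtho
import Cfsg.Agent.Lib.Helper05.CharDecomp

/-!
# Core character theory (helper5): representations with equal characters are equivalent
-/

set_option autoImplicit false

namespace Cfsg.Agent.Lib.Helper05

open Representation Module

universe u v

section

variable {G : Type*} [Group G]

/-- Product of two equivalences of representations. -/
noncomputable def equivProdCongr {V₁ V₂ W₁ W₂ : Type*} [AddCommGroup V₁] [Module ℂ V₁]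
    [AddCommGroup V₂] [Module ℂ V₂] [AddCommGroup W₁] [Module ℂ W₁] [AddCommGroup W₂]
    [Module ℂ W₂]
    {ρ₁ : Representation ℂ G V₁} {ρ₂ : Representation ℂ G V₂}
    {σ₁ : Representation ℂ G W₁} {σ₂ : Representation ℂ G W₂}
    (e₁ : ρ₁.Equiv σ₁) (e₂ : ρ₂.Equiv σ₂) : (ρ₁.prod ρ₂).Equiv (σ₁.prod σ₂) :=
  Representation.Equiv.mk (LinearEquiv.prodCongr e₁.toLinearEquiv e₂.toLinearEquiv) (fun g => by
    refine LinearMap.ext fun x => ?_
    obtain ⟨v₁, v₂⟩ := x
    refine Prod.ext ?_ ?_
    · exact IntertwiningMap.isIntertwining ρ₁ σ₁ e₁.toIntertwiningMap g v₁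
    · exact IntertwiningMap.isIntertwining ρ₂ σ₂ e₂.toIntertwiningMap g v₂)

/-- Maschke: an invariant submodule has an invariant complement. -/
theorem exists_invariant_isCompl [Finite G] {V : Type*} [AddCommGroup V] [Module ℂ V]
    (ρ : Representation ℂ G V) (U : Submodule ℂ V) (hU : ∀ g, U ≤ U.comap (ρ g)) :
    ∃ (U' : Submodule ℂ V) (_ : ∀ g, U' ≤ U'.comap (ρ g)), IsCompl U U' := by
  haveI : NeZero (Nat.card G : ℂ) := ⟨by exact_mod_cast Nat.card_pos.ne'⟩
  obtain ⟨U', hU'⟩ := exists_isCompl (⟨U, fun g v hv => hU g hv⟩ : Subrepresentation ρ)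
  refine ⟨U'.toSubmodule, fun g v hv => U'.apply_mem_toSubmodule g hv, ?_⟩
  constructor
  · rw [disjoint_iff]
    exact congrArg Subrepresentation.toSubmodule hU'.inf_eq_bot
  · rw [codisjoint_iff]
    exact congrArg Subrepresentation.toSubmodule hU'.sup_eq_top

/-- The range of an injective intertwining map is equivalent to its source. -/
noncomputable def equivRangeOfInjective {V W : Type*} [AddCommGroup V] [Module ℂ V]
    [AddCommGroup W] [Module ℂ W] {ρ : Representation ℂ G V} {σ : Representation ℂ G W}
    (f : IntertwiningMap ρ σ) (hf : Function.Injective f)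
    (hX : ∀ g, LinearMap.range f.toLinearMap ≤ (LinearMap.range f.toLinearMap).comap (σ g)) :
    ρ.Equiv (σ.subrepresentation (LinearMap.range f.toLinearMap) hX) :=
  Representation.Equiv.mk (LinearEquiv.ofInjective f.toLinearMap hf) (fun g => by
    ext v
    simp only [LinearMap.coe_comp, LinearEquiv.coe_coe, Function.comp_apply,
      LinearEquiv.ofInjective_apply, Representation.subrepresentation]
    exact IntertwiningMap.isIntertwining ρ σ f g v)

theorem range_invariant {V W : Type*} [AddCommGroup V] [Module ℂ V]
    [AddCommGroup W] [Module ℂ W] {ρ : Representation ℂ G V} {σ : Representation ℂ G W}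
    (f : IntertwiningMap ρ σ) (g : G) :
    LinearMap.range f.toLinearMap ≤ (LinearMap.range f.toLinearMap).comap (σ g) := by
  rintro w ⟨v, rfl⟩
  exact ⟨ρ g v, IntertwiningMap.isIntertwining ρ σ f g v⟩

/-- Finite-dimensional complex representations of a finite group with equal characters are
equivalent. -/
theorem nonempty_equiv_of_char_eq [Finite G] (V : Type u) [AddCommGroup V] [Module ℂ V]
    [FiniteDimensional ℂ V] (ρ : Representation ℂ G V) :
    ∀ (W : Type v) [AddCommGroup W] [Module ℂ W] [FiniteDimensional ℂ W]
      (σ : Representation ℂ G W), ρ.character = σ.character → Nonempty (ρ.Equiv σ) := by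
  haveI : Fintype G := Fintype.ofFinite G
  revert ρ
  revert V
  apply rep_induction
  · intro V _ _ _ ρ hV W _ _ _ σ h
    have h0 : ρ.character = 0 := char_eq_zero_of_subsingleton ρ
    have h1 : σ.character 1 = 0 := by rw [← h, h0]; rfl
    rw [Representation.char_one] at h1
    have h2 : finrank ℂ W = 0 := by exact_mod_cast h1
    haveI : Subsingleton W := Module.finrank_zero_iff.mp h2
    exact ⟨Representation.Equiv.mk (LinearEquiv.ofSubsingleton V W) (fun g => by
      ext v; exact Subsingleton.elim _ _)⟩
  · intro V _ _ _ ρ U U' hU hU' hc hirr ih W _ _ _ σ h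
    have hdec := char_eq_add_of_isCompl ρ U U' hU hU' hc
    -- a non-zero intertwining map from the irreducible summand to `σ`
    have hfin : 0 < finrank ℂ (IntertwiningMap (ρ.subrepresentation U hU) σ) := by
      have h1 := classInner_char_eq_finrank σ (ρ.subrepresentation U hU)
      have h2 := classInner_char_eq_finrank (ρ.subrepresentation U' hU')
        (ρ.subrepresentation U hU)
      rw [← h, hdec, classInner_add_left, classInner_self_irreducible _ hirr, h2] at h1
      have h3 : (1 + finrank ℂ (IntertwiningMap (ρ.subrepresentation U hU)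
          (ρ.subrepresentation U' hU')) : ℕ) =
          finrank ℂ (IntertwiningMap (ρ.subrepresentation U hU) σ) := by
        exact_mod_cast h1
      omega
    obtain ⟨f, hf⟩ := (Module.finrank_pos_iff_exists_ne_zero (R := ℂ)).mp hfin
    haveI := hirr
    have hinj : Function.Injective f :=
      (Representation.IsIrreducible.injective_or_eq_zero f).resolve_right hf
    set X := LinearMap.range f.toLinearMap with hXdef
    have hX : ∀ g, X ≤ X.comap (σ g) := range_invariant f
    have e1 : (ρ.subrepresentation U hU).Equiv (σ.subrepresentation X hX) :=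
      equivRangeOfInjective f hinj hX
    obtain ⟨X', hX', hcX⟩ := exists_invariant_isCompl σ X hX
    have hdecσ := char_eq_add_of_isCompl σ X X' hX hX' hcX
    have hchar : (ρ.subrepresentation U' hU').character = (σ.subrepresentation X' hX').character := by
      have h4 : (ρ.subrepresentation U hU).character = (σ.subrepresentation X hX).character :=
        Representation.char_iso e1
      rw [hdec, hdecσ, h4] at h
      exact add_left_cancel h
    obtain ⟨e2⟩ := ih X' (σ.subrepresentation X' hX') hchar
    exact ⟨(equivProdOfIsCompl ρ U U' hU hU' hc).symm.trans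
      ((equivProdCongr e1 e2).trans (equivProdOfIsCompl σ X X' hX hX' hcX))⟩

end

end Cfsg.Agent.Lib.Helper05
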