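import Mathlib

/-!
# Summation over a group by cosets of a subgroup (helper5)
-/

set_option autoImplicit false

namespace Cfsg.Agent.Lib.Helper05

section

variable {G : Type*} [Group G]

/-- The bijection `(G ⧸ Z) × Z ≃ G`, `(q, z) ↦ q.out * z`. -/
noncomputable def quotientProdEquiv (Z : Subgroup G) : (G ⧸ Z) × Z ≃ G where
  toFun p := p.1.out * p.2
  invFun g := ((g : G ⧸ Z), ⟨((g : G ⧸ Z)).out⁻¹ * g, by
    rw [← QuotientGroup.eq, QuotientGroup.out_eq']⟩)
  left_inv p := by
    obtain ⟨q, z⟩ := p
    have h1 : ((q.out * (z : G) : G) : G ⧸ Z) = q := by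
      rw [QuotientGroup.mk_mul_of_mem _ z.2, QuotientGroup.out_eq']
    refine Prod.ext h1 ?_
    apply Subtype.ext
    simp only
    rw [h1]
    simp
  right_inv g := by
    simp

/-- A function on `G` that is constant on the left cosets `g Z` sums to `|Z|` times its sum
over coset representatives. -/
theorem sum_eq_card_nsmul_sum_out {M : Type*} [AddCommMonoid M] (Z : Subgroup G) [Fintype G]
    [Fintype (G ⧸ Z)] (F : G → M) (hF : ∀ g, ∀ z ∈ Z, F (g * z) = F g) :
    ∑ g : G, F g = Nat.card Z • ∑ q : G ⧸ Z, F q.out := by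
  classical
  haveI : Fintype Z := Fintype.ofFinite Z
  rw [← Equiv.sum_comp (quotientProdEquiv Z), Fintype.sum_prod_type, Finset.smul_sum]
  apply Finset.sum_congr rfl
  intro q _
  have : ∀ z : Z, F (quotientProdEquiv Z (q, z)) = F q.out := by
    intro z
    exact hF q.out z z.2
  rw [Finset.sum_congr rfl (fun z _ => this z), Finset.sum_const, Finset.card_univ,
    Nat.card_eq_fintype_card]

end

end Cfsg.Agent.Lib.Helper05
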