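import Mathlib
import Cfsg.Prelude.Def_Characters
import Cfsg.Agent.Lib.Helper05.CharDecomp
import Cfsg.Agent.Lib.Helper82.CharSchur
import Cfsg.Agent.Lib.Helper21.LinearChar
import Cfsg.Agent.Lib.Helper04.CharScalar

/-!
# Degrees of irreducible constituents (helper5)
-/

set_option autoImplicit false

namespace Cfsg.Agent.Lib.Helper05

open Module

section

variable {G : Type*} [Group G] [Finite G]

/-- The degree of an irreducible character is a positive natural number dividing the group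
order. -/
theorem exists_degree_dvd {ψ : G → ℂ} (hψ : Cfsg.IsIrrCharacter G ψ) :
    ∃ d : ℕ, 0 < d ∧ ψ 1 = d ∧ d ∣ Nat.card G := by
  haveI : Fintype G := Fintype.ofFinite G
  obtain ⟨n, ρ, hirr, rfl⟩ := hψ
  haveI := hirr
  refine ⟨finrank ℂ (Fin n → ℂ), ?_, by simp, ?_⟩
  · rw [Module.finrank_pos_iff]
    rw [isIrreducible_iff] at hirr
    exact hirr.1
  · rw [Nat.card_eq_fintype_card]
    exact Cfsg.Agent.Lib.Helper82.finrank_dvd_card ρ

/-- A linear character is trivial on commutators. -/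
theorem linear_char_commutator {ψ : G → ℂ} (hψ : Cfsg.IsCharacter G ψ) (h1 : ψ 1 = 1) (a b : G) :
    ψ (a * b * a⁻¹ * b⁻¹) = 1 := by
  have hmul := Cfsg.Agent.Lib.Helper21.linear_char_mul hψ h1
  have hinv := Cfsg.Agent.Lib.Helper21.linear_char_inv hψ h1
  have hne := Cfsg.Agent.Lib.Helper21.linear_char_ne_zero hψ h1
  rw [hmul, hmul, hmul, hinv, hinv]
  field_simp [hne a, hne b]

/-- If all irreducible constituents of the character of `ρ` are linear, the image of `ρ` is
commutative. -/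
theorem rep_commutator_eq_id_of_linear_constituents [Fintype (Cfsg.IrrCharacter G)]
    {V : Type*} [AddCommGroup V] [Module ℂ V] [FiniteDimensional ℂ V]
    (ρ : Representation ℂ G V) (m : Cfsg.IrrCharacter G → ℕ)
    (hm : ρ.character = ∑ ψ : Cfsg.IrrCharacter G, (m ψ : ℂ) • (ψ : G → ℂ))
    (hlin : ∀ ψ : Cfsg.IrrCharacter G, m ψ ≠ 0 → (ψ : G → ℂ) 1 = 1) (a b : G) :
    ρ (a * b * a⁻¹ * b⁻¹) = LinearMap.id := by
  rw [← Cfsg.Agent.Lib.Helper04.char_eq_finrank_iff, ← Representation.char_one ρ]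
  rw [hm]
  simp only [Finset.sum_apply, Pi.smul_apply, smul_eq_mul]
  apply Finset.sum_congr rfl
  intro ψ _
  by_cases h0 : m ψ = 0
  · simp [h0]
  · rw [linear_char_commutator (IsIrrCharacter.isCharacter ψ.2) (hlin ψ h0), hlin ψ h0]

end

end Cfsg.Agent.Lib.Helper05
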