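import Mathlib
import Cfsg.Prelude.Def_Characters
import Cfsg.Agent.Lib.Helper05.CharDecomp
import Cfsg.Agent.Lib.Helper83.SecondOrth

/-!
# Brauer's permutation lemma (helper5)

If `f : G → G` respects conjugacy and `χ ↦ χ ∘ f` preserves irreducibility, then the number
of irreducible characters fixed by `f` equals the number of conjugacy classes fixed by `f`.
-/

set_option autoImplicit false

namespace Cfsg.Agent.Lib.Helper05

open scoped ComplexConjugate

section

variable {G : Type*} [Group G] [Fintype G]

/-- Weighted class counting: summing `|C_G(g)|` over the elements of the `P`-classes gives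
`|G|` times the number of such classes. -/
theorem sum_centralizer_eq_card_classes (P : G → Prop) [DecidablePred P]
    (hP : ∀ g h, IsConj g h → (P g ↔ P h)) :
    ∑ g : G, (if P g then (Nat.card (Subgroup.centralizer ({g} : Set G)) : ℂ) else 0) =
      (Nat.card G : ℂ) * (Nat.card {C : ConjClasses G // ∀ g, ConjClasses.mk g = C → P g} : ℂ) := by
  classical
  have hG : (Nat.card G : ℂ) ≠ 0 := card_ne_zero_complex
  rw [← Finset.sum_fiberwise Finset.univ (ConjClasses.mk : G → ConjClasses G)]
  have hfib : ∀ C : ConjClasses G,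
      ∑ g ∈ Finset.univ.filter (fun g : G => ConjClasses.mk g = C),
        (if P g then (Nat.card (Subgroup.centralizer ({g} : Set G)) : ℂ) else 0) =
      if (∀ g, ConjClasses.mk g = C → P g) then (Nat.card G : ℂ) else 0 := by
    intro C
    obtain ⟨g₀, rfl⟩ := ConjClasses.exists_rep C
    have hall : (∀ g, ConjClasses.mk g = ConjClasses.mk g₀ → P g) ↔ P g₀ := by
      constructor
      · intro h
        exact h g₀ rfl
      · intro h g hg
        exact (hP g g₀ (ConjClasses.mk_eq_mk_iff_isConj.mp hg)).mpr h
    have hterm : ∀ g ∈ Finset.univ.filter (fun g : G => ConjClasses.mk g = ConjClasses.mk g₀),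
        (if P g then (Nat.card (Subgroup.centralizer ({g} : Set G)) : ℂ) else 0) =
        (if P g₀ then (Nat.card (Subgroup.centralizer ({g₀} : Set G)) : ℂ) else 0) := by
      intro g hg
      have hconj : IsConj g g₀ := ConjClasses.mk_eq_mk_iff_isConj.mp (Finset.mem_filter.mp hg).2
      have h1 : (P g ↔ P g₀) := hP g g₀ hconj
      have h2 : Nat.card (Subgroup.centralizer ({g} : Set G)) =
          Nat.card (Subgroup.centralizer ({g₀} : Set G)) := by
        have e1 := Cfsg.Agent.Lib.Helper83.card_centralizer_mul_card_conj g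
        have e2 := Cfsg.Agent.Lib.Helper83.card_centralizer_mul_card_conj g₀
        have e3 : Nat.card {x : G // IsConj g x} = Nat.card {x : G // IsConj g₀ x} := by
          apply Nat.card_congr
          exact Equiv.subtypeEquivRight (fun x =>
            ⟨fun h => hconj.symm.trans h, fun h => hconj.trans h⟩)
        rw [e3] at e1
        have hpos : 0 < Nat.card {x : G // IsConj g₀ x} := by
          haveI : Nonempty {x : G // IsConj g₀ x} := ⟨⟨g₀, IsConj.refl g₀⟩⟩
          exact Nat.card_pos
        exact Nat.eq_of_mul_eq_mul_right hpos (e1.trans e2.symm)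
      simp only [h1, h2]
    rw [Finset.sum_congr rfl hterm, Finset.sum_const, nsmul_eq_mul]
    have hcount : ((Finset.univ.filter (fun g : G => ConjClasses.mk g = ConjClasses.mk g₀)).card : ℂ)
        = (Nat.card {x : G // IsConj g₀ x} : ℂ) := by
      congr 1
      rw [Nat.card_eq_fintype_card, Fintype.card_subtype]
      congr 1
      ext x
      simp only [Finset.mem_filter, Finset.mem_univ, true_and]
      rw [ConjClasses.mk_eq_mk_iff_isConj]
      exact ⟨fun h => h.symm, fun h => h.symm⟩
    rw [hcount]
    by_cases hp : P g₀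
    · rw [if_pos hp, if_pos (hall.mpr hp), mul_comm]
      exact_mod_cast Cfsg.Agent.Lib.Helper83.card_centralizer_mul_card_conj g₀
    · rw [if_neg hp, if_neg (fun h => hp (hall.mp h)), mul_zero]
  rw [Finset.sum_congr rfl (fun C _ => hfib C), ← Finset.sum_filter, Finset.sum_const,
    nsmul_eq_mul, mul_comm]
  congr 1
  rw [Nat.card_eq_fintype_card, Fintype.card_subtype]

variable [Fintype (Cfsg.IrrCharacter G)]

/-- Brauer's permutation lemma in a general form. -/
theorem card_fixed_irr_eq_card_fixed_classes (f : G → G)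
    (hf : ∀ g h, IsConj g h → IsConj (f g) (f h))
    (hirr : ∀ χ : Cfsg.IrrCharacter G, Cfsg.IsIrrCharacter G (fun g => (χ : G → ℂ) (f g))) :
    Nat.card {χ : Cfsg.IrrCharacter G // (fun g => (χ : G → ℂ) (f g)) = (χ : G → ℂ)} =
      Nat.card {C : ConjClasses G // ∀ g, ConjClasses.mk g = C → IsConj (f g) g} := by
  classical
  have hG : (Nat.card G : ℂ) ≠ 0 := card_ne_zero_complex
  have h1 : (Nat.card {χ : Cfsg.IrrCharacter G // (fun g => (χ : G → ℂ) (f g)) = (χ : G → ℂ)} : ℂ)
      = ∑ χ : Cfsg.IrrCharacter G,
        Cfsg.classInner (fun g => (χ : G → ℂ) (f g)) (χ : G → ℂ) := by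
    rw [Nat.card_eq_fintype_card, Fintype.card_subtype, Finset.card_filter]
    push_cast
    apply Finset.sum_congr rfl
    intro χ _
    rw [classInner_irr (hirr χ) χ.2]
  have h2 : ∑ χ : Cfsg.IrrCharacter G,
        Cfsg.classInner (fun g => (χ : G → ℂ) (f g)) (χ : G → ℂ) =
      (Nat.card G : ℂ)⁻¹ * ∑ g : G,
        (if IsConj (f g) g then (Nat.card (Subgroup.centralizer ({g} : Set G)) : ℂ) else 0) := by
    simp only [Cfsg.classInner]
    rw [← Finset.mul_sum, Finset.sum_comm]
    congr 1
    apply Finset.sum_congr rfl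
    intro g _
    exact Cfsg.Agent.Lib.Helper83.second_orthogonality (f g) g
  have hP : ∀ g h, IsConj g h → (IsConj (f g) g ↔ IsConj (f h) h) := by
    intro g h hgh
    constructor
    · intro h1
      exact ((hf g h hgh).symm.trans h1).trans hgh
    · intro h1
      exact ((hf g h hgh).trans h1).trans hgh.symm
  rw [sum_centralizer_eq_card_classes (fun g => IsConj (f g) g) hP, ← mul_assoc,
    inv_mul_cancel₀ hG, one_mul] at h2
  have := h1.trans h2
  exact_mod_cast this

end

end Cfsg.Agent.Lib.Helper05
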