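import Mathlib
import Cfsg.Agent.Lib.Helper22.NseDefs

/-! Definitions for pack K-N3 (S4004): odd order groups with exactly three same-order counts `{1, m, n}`.
`S k` stands for the number of elements of order `k`, `N` for the group order. -/

set_option autoImplicit false

namespace Cfsg.Agent.Lib.Helper05.N3

open Cfsg.Agent.Lib.Helper22.Nse

/-- Weisner (S3994) in numeric form: any divisor `M` of `N` coprime to `d` divides the number of
elements whose order is a multiple of `d`. -/
def WeisnerHyp (N : ℕ) (S : ℕ → ℕ) : Prop :=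
  ∀ d M : ℕ, 0 < d → M ∣ N → Nat.Coprime M d → M ∣ ∑ k ∈ N.divisors.filter (fun k => d ∣ k), S k

/-- The numeric context: values `{1, m, n}`, odd order. -/
structure Ctx (N : ℕ) (S : ℕ → ℕ) (m n : ℕ) : Prop where
  H : NseHyp N S {1, m, n}
  W : WeisnerHyp N S
  odd : Odd N
  m1 : m ≠ 1
  n1 : n ≠ 1
  mn : m ≠ n

end Cfsg.Agent.Lib.Helper05.N3
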