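import Mathlib
import Cfsg.Prelude.Def_Characters
import Cfsg.Agent.Lib.Helper05.CharDecomp

/-!
# Core character theory (helper5): removing an irreducible constituent
-/

set_option autoImplicit false

namespace Cfsg.Agent.Lib.Helper05

open Representation Module

section Sub

variable {G : Type*} [Group G] [Fintype G]

/-- If the irreducible character `ψ` is a constituent of the character `χ`, then `χ - ψ` is a
character. -/
theorem isCharacter_sub_of_classInner_ne_zero {χ ψ : G → ℂ} (hχ : Cfsg.IsCharacter G χ)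
    (hψ : Cfsg.IsIrrCharacter G ψ) (h : Cfsg.classInner χ ψ ≠ 0) :
    Cfsg.IsCharacter G (χ - ψ) := by
  classical
  haveI := finite_irrCharacter (G := G)
  haveI : Fintype (Cfsg.IrrCharacter G) := Fintype.ofFinite _
  obtain ⟨m, hm⟩ := exists_nat_coeff hχ
  have hmψ : Cfsg.classInner χ ψ = m ⟨ψ, hψ⟩ := by
    rw [hm]
    exact classInner_sum_irr_left (fun φ => (m φ : ℂ)) ⟨ψ, hψ⟩
  have hpos : 1 ≤ m ⟨ψ, hψ⟩ := by
    rw [hmψ] at h
    apply Nat.one_le_iff_ne_zero.mpr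
    intro h0
    apply h
    rw [h0, Nat.cast_zero]
  have key : χ - ψ = (m ⟨ψ, hψ⟩ - 1) • ψ +
      ∑ φ ∈ Finset.univ.erase (⟨ψ, hψ⟩ : Cfsg.IrrCharacter G), m φ • (φ : G → ℂ) := by
    rw [hm, ← Finset.add_sum_erase _ _ (Finset.mem_univ (⟨ψ, hψ⟩ : Cfsg.IrrCharacter G))]
    have h1 : ((m ⟨ψ, hψ⟩ : ℕ) : ℂ) • ψ = ψ + (m ⟨ψ, hψ⟩ - 1) • ψ := by
      conv_lhs => rw [← Nat.sub_add_cancel hpos]
      rw [Nat.cast_add, Nat.cast_one, add_smul, one_smul, add_comm, Nat.cast_smul_eq_nsmul]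
    have h2 : ∀ φ : Cfsg.IrrCharacter G, ((m φ : ℕ) : ℂ) • (φ : G → ℂ) = m φ • (φ : G → ℂ) :=
      fun φ => Nat.cast_smul_eq_nsmul ℂ _ _
    simp only [h2] at h1 ⊢
    change m ⟨ψ, hψ⟩ • ψ + _ - ψ = _
    rw [h1]
    abel
  rw [key]
  apply isCharacter_add
  · exact isCharacter_nsmul _ (IsIrrCharacter.isCharacter hψ)
  · apply isCharacter_sum
    intro φ _
    exact isCharacter_nsmul _ (IsIrrCharacter.isCharacter φ.2)

end Sub

end Cfsg.Agent.Lib.Helper05
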