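import Mathlib
import Cfsg.Prelude.Def_Characters
import Cfsg.Agent.Lib.Helper05.QuasiElem
import Cfsg.Agent.Lib.Helper05.CharSub
import Cfsg.Agent.Lib.Helper34.GenChar
import Cfsg.Agent.Lib.Helper83.Abelian
import Cfsg.Agent.Lib.Helper83.Linear
import Cfsg.Agent.Lib.Helper85.CliffordCorr
import Cfsg.Agent.S0055
import Cfsg.Agent.Lib.Helper01.Basic

/-!
# From quasi-elementary to elementary subgroups (helper5)

For a `p`-quasi-elementary group `H = C ⋊ P` with `Z = C_C(P)` and `E = Z × P`, the character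
`(1_E)^H - 1_H` is a sum of irreducible characters induced from proper subgroups.
-/

set_option autoImplicit false

namespace Cfsg.Agent.Lib.Helper05

open Cfsg
open scoped ComplexConjugate commutatorElement

universe u

section Step

variable {H : Type u} [Group H] [Fintype H]

/-- Elements of `C ⊓ C(P)` are central when `C` is commutative and `C ⊔ P = ⊤`. -/
theorem central_of_mem_inf_centralizer {C P : Subgroup H} [IsMulCommutative C]
    (hsup : C ⊔ P = ⊤) {z : H} (hz : z ∈ C ⊓ Subgroup.centralizer (P : Set H)) (h : H) :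
    h * z = z * h := by
  have h1 : C ⊔ P ≤ Subgroup.centralizer ({z} : Set H) := by
    apply sup_le
    · intro c hc
      rw [Subgroup.mem_centralizer_iff]
      intro y hy
      rw [Set.mem_singleton_iff] at hy
      subst hy
      have := IsMulCommutative.is_comm.comm (⟨y, hz.1⟩ : C) ⟨c, hc⟩
      exact congrArg Subtype.val this
    · intro u hu
      rw [Subgroup.mem_centralizer_iff]
      intro y hy
      rw [Set.mem_singleton_iff] at hy
      subst hy
      exact ((Subgroup.mem_centralizer_iff.mp hz.2) u hu).symm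
  have h2 : h ∈ Subgroup.centralizer ({z} : Set H) := h1 (by rw [hsup]; exact Subgroup.mem_top h)
  exact ((Subgroup.mem_centralizer_iff.mp h2) z (Set.mem_singleton z)).symm

/-- `(Z ⊔ P) ⊓ C ≤ Z` for a normal subgroup `Z ≤ C` and `C ⊓ P = ⊥`. -/
theorem mem_of_mem_sup_of_mem {C P Z : Subgroup H} [Z.Normal] (hZC : Z ≤ C)
    (hdisj : C ⊓ P = ⊥) {g : H} (hg : g ∈ Z ⊔ P) (hgC : g ∈ C) : g ∈ Z := by
  have h1 : g ∈ ((Z ⊔ P : Subgroup H) : Set H) := hg
  rw [Subgroup.normal_mul] at h1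
  obtain ⟨z, hz, u, hu, hzu⟩ := h1
  have hzu' : z * u = g := hzu
  subst hzu'
  have hu' : u ∈ C := by
    have : u = z⁻¹ * (z * u) := by group
    rw [this]
    exact C.mul_mem (C.inv_mem (hZC hz)) hgC
  have hu1 : u = 1 := by
    have : u ∈ C ⊓ P := ⟨hu', hu⟩
    rw [hdisj] at this
    exact Subgroup.mem_bot.mp this
  rw [hu1, mul_one]
  exact hz

open Classical in
/-- The value of `(1_E)^H` on `C`, where `E = Z ⊔ P`. -/
theorem indFun_one_apply_of_mem {C P Z : Subgroup H} (hZC : Z ≤ C) [C.Normal]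
    (hdisj : C ⊓ P = ⊥) (hZcent : ∀ z ∈ Z, ∀ h : H, h * z = z * h) {c : H} (hc : c ∈ C) :
    indFun (Z ⊔ P) (fun _ => (1 : ℂ)) c =
      (Nat.card (Z ⊔ P : Subgroup H) : ℂ)⁻¹ * (if c ∈ Z then (Nat.card H : ℂ) else 0) := by
  haveI : Z.Normal := by
    constructor
    intro z hz g
    rw [hZcent z hz g, mul_inv_cancel_right]
    exact hz
  rw [Cfsg.Agent.Lib.Helper34.indFun_apply]
  congr 1
  by_cases hcZ : c ∈ Z
  · rw [if_pos hcZ]
    have h1 : ∀ y : H, extendByZero (Z ⊔ P) (fun _ => (1 : ℂ)) (y⁻¹ * c * y) = 1 := by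
      intro y
      have : y⁻¹ * c * y = c := by
        rw [mul_assoc, ← hZcent c hcZ y, inv_mul_cancel_left]
      rw [this, Cfsg.Agent.Lib.Helper34.extendByZero_apply_mem _ _
        (Subgroup.mem_sup_left hcZ : c ∈ Z ⊔ P)]
    simp only [h1, Finset.sum_const, Finset.card_univ, nsmul_eq_mul, mul_one,
      Nat.card_eq_fintype_card]
  · rw [if_neg hcZ]
    apply Finset.sum_eq_zero
    intro y _
    apply Cfsg.Agent.Lib.Helper34.extendByZero_apply_not_mem
    intro hy
    have hyC : y⁻¹ * c * y ∈ C := by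
      have := ‹C.Normal›.conj_mem c hc y⁻¹
      rwa [inv_inv] at this
    have hyZ := mem_of_mem_sup_of_mem hZC hdisj hy hyC
    apply hcZ
    have h2 : c = y * (y⁻¹ * c * y) * y⁻¹ := by group
    rw [h2, hZcent _ hyZ y, mul_inv_cancel_right]
    exact hyZ

open Classical in
/-- Inner products of `((1_E)^H)|_C` with functions on `C`. -/
theorem classInner_restrict_indFun_one {C P Z : Subgroup H} [Fintype C] (hZC : Z ≤ C) [C.Normal]
    (hdisj : C ⊓ P = ⊥) (hZcent : ∀ z ∈ Z, ∀ h : H, h * z = z * h) (μ : C → ℂ) :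
    classInner (fun c : C => indFun (Z ⊔ P) (fun _ => (1 : ℂ)) (c : H)) μ =
      (Nat.card C : ℂ)⁻¹ * (Nat.card (Z ⊔ P : Subgroup H) : ℂ)⁻¹ * (Nat.card H : ℂ) *
        ∑ c : C, if (c : H) ∈ Z then conj (μ c) else 0 := by
  unfold classInner
  have h1 : ∀ c : C, indFun (Z ⊔ P) (fun _ => (1 : ℂ)) (c : H) * conj (μ c) =
      ((Nat.card (Z ⊔ P : Subgroup H) : ℂ)⁻¹ * (Nat.card H : ℂ)) *
        (if (c : H) ∈ Z then conj (μ c) else 0) := by
    intro c
    rw [indFun_one_apply_of_mem hZC hdisj hZcent c.2]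
    split_ifs with h
    · ring
    · ring
  rw [Finset.sum_congr rfl fun c _ => h1 c, ← Finset.mul_sum]
  ring

/-- The size of `Z ⊔ P` for central `Z` meeting `P` trivially. -/
theorem card_sup_of_central {P Z : Subgroup H} (hZcent : ∀ z ∈ Z, ∀ h : H, h * z = z * h)
    (hdisj : Z ⊓ P = ⊥) : Nat.card (Z ⊔ P : Subgroup H) = Nat.card Z * Nat.card P := by
  haveI : Z.Normal := by
    constructor
    intro z hz g
    rw [hZcent z hz g, mul_inv_cancel_right]
    exact hz
  have h := Cfsg.Agent.Lib.Helper01.card_sup_mul_card_inf Z P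
  rw [hdisj, Subgroup.card_bot, mul_one, sup_comm] at h
  exact h

open Classical in
/-- The trivial character of `C` occurs exactly once in `((1_E)^H)|_C`. -/
theorem classInner_restrict_indFun_one_one {C P Z : Subgroup H} [Fintype C] (hZC : Z ≤ C)
    [C.Normal] (hcompl : Subgroup.IsComplement' C P)
    (hZcent : ∀ z ∈ Z, ∀ h : H, h * z = z * h) :
    classInner (fun c : C => indFun (Z ⊔ P) (fun _ => (1 : ℂ)) (c : H)) (fun _ => 1) = 1 := by
  have hdisj : C ⊓ P = ⊥ := hcompl.disjoint.eq_bot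
  have hdisjZ : Z ⊓ P = ⊥ := by
    rw [eq_bot_iff, ← hdisj]
    exact inf_le_inf_right P hZC
  rw [classInner_restrict_indFun_one hZC hdisj hZcent]
  simp only [map_one]
  rw [Finset.sum_boole]
  have h1 : (Finset.univ.filter (fun c : C => (c : H) ∈ Z)).card = Nat.card Z := by
    rw [← Cfsg.Agent.Lib.Helper01.card_subgroupOf_of_le hZC, Nat.card_eq_fintype_card,
      Fintype.card_subtype]
    rfl
  rw [h1, card_sup_of_central hZcent hdisjZ, ← hcompl.card_mul_card]
  have hC : (Nat.card C : ℂ) ≠ 0 := by exact_mod_cast Nat.card_pos.ne'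
  have hP : (Nat.card P : ℂ) ≠ 0 := by exact_mod_cast Nat.card_pos.ne'
  have hZ : (Nat.card Z : ℂ) ≠ 0 := by exact_mod_cast Nat.card_pos.ne'
  push_cast
  field_simp

open Classical in
/-- A linear character of `C` nontrivial on `Z` does not occur in `((1_E)^H)|_C`. -/
theorem classInner_restrict_indFun_one_eq_zero {C P Z : Subgroup H} [Fintype C] (hZC : Z ≤ C)
    [C.Normal] (hdisj : C ⊓ P = ⊥) (hZcent : ∀ z ∈ Z, ∀ h : H, h * z = z * h) {lam : C → ℂ}
    (hmul : ∀ a b : C, lam (a * b) = lam a * lam b) {z₀ : C} (hz₀ : (z₀ : H) ∈ Z)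
    (hne : lam z₀ ≠ 1) :
    classInner (fun c : C => indFun (Z ⊔ P) (fun _ => (1 : ℂ)) (c : H)) lam = 0 := by
  rw [classInner_restrict_indFun_one hZC hdisj hZcent]
  have hS : ∑ c : C, (if (c : H) ∈ Z then conj (lam c) else 0) = 0 := by
    have h1 : conj (lam z₀) * ∑ c : C, (if (c : H) ∈ Z then conj (lam c) else 0) =
        ∑ c : C, (if (c : H) ∈ Z then conj (lam c) else 0) := by
      rw [Finset.mul_sum]
      refine Fintype.sum_equiv (Equiv.mulLeft z₀) _ _ (fun c => ?_)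
      change conj (lam z₀) * (if (c : H) ∈ Z then conj (lam c) else 0) =
        if ((z₀ * c : C) : H) ∈ Z then conj (lam (z₀ * c)) else 0
      have hiff : ((z₀ * c : C) : H) ∈ Z ↔ (c : H) ∈ Z := by
        rw [Subgroup.coe_mul]
        exact Z.mul_mem_cancel_left hz₀
      by_cases hc : (c : H) ∈ Z
      · rw [if_pos hc, if_pos (hiff.mpr hc), hmul, map_mul]
      · rw [if_neg hc, if_neg (fun h => hc (hiff.mp h)), mul_zero]
    have h2 : (conj (lam z₀) - 1) * ∑ c : C, (if (c : H) ∈ Z then conj (lam c) else 0) = 0 := by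
      rw [sub_mul, h1, one_mul, sub_self]
    rcases mul_eq_zero.mp h2 with h3 | h3
    · exfalso
      apply hne
      have h4 : conj (lam z₀) = 1 := sub_eq_zero.mp h3
      have h5 := congrArg conj h4
      rw [Complex.conj_conj, map_one] at h5
      exact h5
    · exact h3
  rw [hS, mul_zero]

/-- An `H`-invariant multiplicative function on `C` which is trivial on `C_C(P)` is trivial
(coprime action). -/
theorem eq_one_of_invariant_of_trivial_on_centralizer {C P : Subgroup H} [hCn : C.Normal]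
    [IsMulCommutative C] (hcop : (Nat.card P).Coprime (Nat.card C)) {lam : C → ℂ}
    (hmul : ∀ a b : C, lam (a * b) = lam a * lam b) (h1 : lam 1 = 1)
    (hinv : ∀ (g : H) (c : C), lam ⟨g * c * g⁻¹, hCn.conj_mem c c.2 g⟩ = lam c)
    (hZ : ∀ c : C, (c : H) ∈ C ⊓ Subgroup.centralizer (P : Set H) → lam c = 1) (c : C) :
    lam c = 1 := by
  -- the kernel of `lam` as a subgroup of `H`
  let K : Subgroup H :=
    { carrier := {h | ∃ hc : h ∈ C, lam ⟨h, hc⟩ = 1}
      one_mem' := ⟨C.one_mem, h1⟩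
      mul_mem' := by
        rintro a b ⟨ha, ha1⟩ ⟨hb, hb1⟩
        refine ⟨C.mul_mem ha hb, ?_⟩
        have : (⟨a * b, C.mul_mem ha hb⟩ : C) = ⟨a, ha⟩ * ⟨b, hb⟩ := rfl
        rw [this, hmul, ha1, hb1, one_mul]
      inv_mem' := by
        rintro a ⟨ha, ha1⟩
        refine ⟨C.inv_mem ha, ?_⟩
        have h2 : lam (⟨a, ha⟩ * ⟨a⁻¹, C.inv_mem ha⟩) = 1 := by
          have : (⟨a, ha⟩ * ⟨a⁻¹, C.inv_mem ha⟩ : C) = 1 := by
            apply Subtype.ext
            simp
          rw [this, h1]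
        rw [hmul, ha1, one_mul] at h2
        exact h2 }
  have hKmem : ∀ h : H, h ∈ K ↔ ∃ hc : h ∈ C, lam ⟨h, hc⟩ = 1 := fun h => Iff.rfl
  have hdecomp := (Cfsg.Agent.S0055.result P C
    (by
      intro u _
      rw [Subgroup.mem_normalizer_iff]
      intro h
      constructor
      · intro hh; exact hCn.conj_mem h hh u
      · intro hh
        have := hCn.conj_mem _ hh u⁻¹
        have h2 : u⁻¹ * (u * h * u⁻¹) * u⁻¹⁻¹ = h := by group
        rwa [h2] at this) hcop).2
  have hZK : C ⊓ Subgroup.centralizer (P : Set H) ≤ K := by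
    intro z hz
    exact (hKmem z).mpr ⟨hz.1, hZ ⟨z, hz.1⟩ hz⟩
  have hcommK : ⁅C, P⁆ ≤ K := by
    rw [Subgroup.commutator_le]
    intro a ha u _
    rw [hKmem]
    have hmem : u * a⁻¹ * u⁻¹ ∈ C := hCn.conj_mem _ (C.inv_mem ha) u
    have hdef : ⁅a, u⁆ = a * (u * a⁻¹ * u⁻¹) := by
      rw [commutatorElement_def]; group
    refine ⟨by rw [hdef]; exact C.mul_mem ha hmem, ?_⟩
    have h3 : (⟨⁅a, u⁆, by rw [hdef]; exact C.mul_mem ha hmem⟩ : C) =
        ⟨a, ha⟩ * ⟨u * a⁻¹ * u⁻¹, hmem⟩ := by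
      apply Subtype.ext
      exact hdef
    rw [h3, hmul]
    have h4 := hinv u ⟨a⁻¹, C.inv_mem ha⟩
    change lam ⟨u * a⁻¹ * u⁻¹, _⟩ = _ at h4
    rw [h4, ← hmul]
    have : (⟨a, ha⟩ * ⟨a⁻¹, C.inv_mem ha⟩ : C) = 1 := by
      apply Subtype.ext
      simp
    rw [this, h1]
  have hCK : C ≤ K := by
    rw [← hdecomp]
    exact sup_le hZK hcommK
  obtain ⟨hc, hc1⟩ := (hKmem c).mp (hCK c.2)
  exact hc1

/-- **Key step.** In `H = C ⋊ P` with `C` cyclic normal of order prime to `|P|`, every irreducible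
constituent `χ ≠ 1` of `(1_E)^H`, `E = C_C(P) ⊔ P`, is induced from a proper subgroup. -/
theorem exists_induced_of_constituent {C P : Subgroup H} [hCn : C.Normal] [IsCyclic C]
    (hcompl : Subgroup.IsComplement' C P) (hcop : (Nat.card P).Coprime (Nat.card C))
    {χ : H → ℂ} (hχ : IsIrrCharacter H χ) (hχ1 : χ ≠ fun _ => 1)
    (hconst : classInner
      (indFun ((C ⊓ Subgroup.centralizer (P : Set H)) ⊔ P) (fun _ => (1 : ℂ))) χ ≠ 0) :
    ∃ (T : Subgroup H) (ψ : T → ℂ), Nat.card T < Nat.card H ∧ IsCharacter T ψ ∧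
      χ = indFun T ψ := by
  classical
  haveI : Fintype C := Fintype.ofFinite C
  haveI : Fintype (IrrCharacter C) := Fintype.ofFinite _
  obtain ⟨Z, hZdef⟩ : ∃ Z : Subgroup H, Z = C ⊓ Subgroup.centralizer (P : Set H) := ⟨_, rfl⟩
  rw [← hZdef] at hconst
  obtain ⟨ρ, hρdef⟩ : ∃ ρ : H → ℂ, ρ = indFun (Z ⊔ P) (fun _ => (1 : ℂ)) := ⟨_, rfl⟩
  rw [← hρdef] at hconst
  have hsup : C ⊔ P = ⊤ := hcompl.sup_eq_top
  have hdisj : C ⊓ P = ⊥ := hcompl.disjoint.eq_bot
  have hZC : Z ≤ C := by rw [hZdef]; exact inf_le_left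
  have hZcent : ∀ z ∈ Z, ∀ h : H, h * z = z * h := by
    intro z hz h
    rw [hZdef] at hz
    exact central_of_mem_inf_centralizer hsup hz h
  have hρ : IsCharacter H ρ := by
    rw [hρdef]
    exact Cfsg.Agent.Lib.Helper34.isCharacter_indFun _ isCharacter_one
  have h1irr : IsIrrCharacter H (fun _ => (1 : ℂ)) := isIrrCharacter_one
  have hρ1 : classInner ρ (fun _ => (1 : ℂ)) = 1 := by
    haveI : Fintype (Z ⊔ P : Subgroup H) := Fintype.ofFinite _
    rw [hρdef, Cfsg.Agent.Lib.Helper34.classInner_indFun_left _ _ _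
      (Cfsg.Agent.Lib.Helper83.char_isClassFunction (IsIrrCharacter.isCharacter h1irr))]
    exact classInner_irr_self isIrrCharacter_one
  have hΞ : IsCharacter H (ρ - fun _ => (1 : ℂ)) :=
    isCharacter_sub_of_classInner_ne_zero hρ h1irr (by rw [hρ1]; exact one_ne_zero)
  have hΞχ : classInner (ρ - fun _ => (1 : ℂ)) χ ≠ 0 := by
    rw [classInner_sub_left, classInner_irr_ne h1irr hχ (Ne.symm hχ1), sub_zero]
    exact hconst
  obtain ⟨Ξ', hΞ'def⟩ : ∃ Ξ' : H → ℂ, Ξ' = ρ - (fun _ => (1 : ℂ)) - χ := ⟨_, rfl⟩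
  have hΞ' : IsCharacter H Ξ' := by
    rw [hΞ'def]
    exact isCharacter_sub_of_classInner_ne_zero hΞ hχ hΞχ
  have hΞ'eq : ∀ h : H, ρ h = 1 + χ h + Ξ' h := by
    intro h
    rw [hΞ'def]
    simp only [Pi.sub_apply]
    ring
  -- restriction to `C`
  have hχC : IsCharacter C (fun c : C => χ c) := isCharacter_restrict C (IsIrrCharacter.isCharacter hχ)
  have hΞ'C : IsCharacter C (fun c : C => Ξ' c) :=
    isCharacter_restrict C hΞ'
  have hsplit : ∀ μ : C → ℂ, classInner (fun c : C => ρ c) μ =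
      classInner (fun _ : C => (1 : ℂ)) μ + classInner (fun c : C => χ c) μ +
        classInner (fun c : C => Ξ' c) μ := by
    intro μ
    rw [← classInner_add_left, ← classInner_add_left]
    congr 1
    funext c
    simp only [Pi.add_apply]
    exact hΞ'eq c
  -- an irreducible constituent of `χ|_C`
  obtain ⟨lam, hlam⟩ : ∃ lam : IrrCharacter C, classInner (fun c : C => χ c) lam ≠ 0 := by
    by_contra hcon
    push Not at hcon
    have h2 := eq_sum_classInner_smul hχC
    simp only [hcon, zero_smul, Finset.sum_const_zero] at h2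
    have h0 := congrFun h2 1
    obtain ⟨n, hn, hχ1'⟩ := exists_pos_degree hχ
    simp only [Pi.zero_apply, Subgroup.coe_one] at h0
    rw [hχ1'] at h0
    have : (n : ℂ) ≠ 0 := by exact_mod_cast hn.ne'
    exact this h0
  obtain ⟨ψ, hψirr, -, hχeq⟩ :=
    Cfsg.Agent.Lib.Helper85.exists_irr_conjStab hCn hχ lam.2 hlam
  refine ⟨Cfsg.Agent.Lib.Helper85.conjStab hCn lam.1, ψ, ?_,
    IsIrrCharacter.isCharacter hψirr, hχeq⟩
  by_contra hcard
  have hT : Cfsg.Agent.Lib.Helper85.conjStab hCn lam.1 = ⊤ := by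
    apply Subgroup.eq_top_of_card_eq
    exact le_antisymm (Subgroup.card_le_card_group _) (not_lt.mp hcard)
  have hinv : ∀ (g : H) (c : C), lam.1 ⟨g * c * g⁻¹, hCn.conj_mem c c.2 g⟩ = lam.1 c := by
    intro g c
    have hg : g ∈ Cfsg.Agent.Lib.Helper85.conjStab hCn lam.1 := by rw [hT]; trivial
    have := (Cfsg.Agent.Lib.Helper85.mem_conjStab hCn lam.1 g).mp hg
    exact congrFun this c
  have hcomm : ∀ a b : C, a * b = b * a := fun a b => IsMulCommutative.is_comm.comm a b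
  have hl1 := Cfsg.Agent.Lib.Helper83.irr_degree_one_of_comm hcomm lam
  have hlamc : IsCharacter C lam.1 := IsIrrCharacter.isCharacter lam.2
  have hmul := Cfsg.Agent.Lib.Helper83.char_deg_one_mul hlamc hl1
  obtain ⟨a, ha⟩ := exists_nat_classInner (isCharacter_one (G := C)) lam.2
  obtain ⟨b, hb⟩ := exists_nat_classInner hχC lam.2
  obtain ⟨c', hc'⟩ := exists_nat_classInner hΞ'C lam.2
  have hb0 : b ≠ 0 := by
    intro h0
    apply hlam
    rw [hb, h0, Nat.cast_zero]
  by_cases hZtriv : ∀ c : C, (c : H) ∈ Z → lam.1 c = 1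
  · have hall := eq_one_of_invariant_of_trivial_on_centralizer hcop hmul hl1 hinv
      (by rw [← hZdef]; exact hZtriv)
    have hlam1 : (lam : C → ℂ) = fun _ => 1 := funext hall
    have h2 := classInner_restrict_indFun_one_one hZC hcompl hZcent
    rw [← hρdef, ← hlam1, hsplit, hb, hc', hlam1, classInner_irr_self isIrrCharacter_one] at h2
    have h3 : (1 + b + c' : ℕ) = 1 := by exact_mod_cast h2
    omega
  · push Not at hZtriv
    obtain ⟨z₀, hz₀, hne⟩ := hZtriv
    have h2 := classInner_restrict_indFun_one_eq_zero hZC hdisj hZcent hmul hz₀ hne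
    rw [← hρdef, hsplit, ha, hb, hc'] at h2
    have h3 : (a + b + c' : ℕ) = 0 := by exact_mod_cast h2
    omega

/-- `Z ⊔ P` is `p`-elementary when `Z` is cyclic central of order prime to `p`, `P` has order
`p ^ k` and `Z ⊓ P = ⊥`. -/
theorem isElementary_sup {p : ℕ} {P Z : Subgroup H} [IsCyclic Z]
    (hZcent : ∀ z ∈ Z, ∀ h : H, h * z = z * h) (hZp : (Nat.card Z).Coprime p) {k : ℕ}
    (hP : Nat.card P = p ^ k) (hdisj : Z ⊓ P = ⊥) :
    Cfsg.IsElementary p (Z ⊔ P : Subgroup H) := by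
  haveI : Z.Normal := by
    constructor
    intro z hz g
    rw [hZcent z hz g, mul_inv_cancel_right]
    exact hz
  obtain ⟨z₀, hz₀⟩ := (isCyclic_iff_exists_zpowers_eq_top (α := Z)).mp inferInstance
  have hz₀H : Subgroup.zpowers (z₀ : H) = Z := by
    have h1 : (Subgroup.zpowers z₀).map Z.subtype = Subgroup.zpowers (z₀ : H) := by
      rw [MonoidHom.map_zpowers]; rfl
    rw [← h1, hz₀, ← MonoidHom.range_eq_map, Subgroup.range_subtype]
  have hmem : (z₀ : H) ∈ (Z ⊔ P : Subgroup H) := Subgroup.mem_sup_left z₀.2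
  refine ⟨⟨(z₀ : H), hmem⟩, ?_, ?_, k, ?_⟩
  · rw [Subgroup.mem_center_iff]
    intro e
    apply Subtype.ext
    exact hZcent (z₀ : H) z₀.2 (e : H)
  · have h1 : orderOf (⟨(z₀ : H), hmem⟩ : (Z ⊔ P : Subgroup H)) = orderOf (z₀ : H) :=
      (Subgroup.orderOf_mk (z₀ : H) hmem)
    rw [h1, ← Nat.card_zpowers, hz₀H]
    exact hZp
  · have h1 : Subgroup.zpowers (⟨(z₀ : H), hmem⟩ : (Z ⊔ P : Subgroup H)) =
        Z.subgroupOf (Z ⊔ P) := by
      apply Subgroup.map_injective (Subgroup.subtype_injective (Z ⊔ P))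
      rw [MonoidHom.map_zpowers, Subgroup.subgroupOf_map_subtype, inf_of_le_left le_sup_left]
      exact hz₀H
    rw [h1]
    change Z.relIndex (Z ⊔ P) = p ^ k
    rw [Subgroup.relIndex_sup_left, ← Subgroup.inf_relIndex_right, hdisj,
      Subgroup.relIndex_bot_left, hP]

/-- **Reduction step.** On a `p`-quasi-elementary group, the trivial character is `(1_E)^H` for a
`p`-elementary subgroup `E` minus characters induced from proper subgroups. -/
theorem qe_step {p : ℕ} (hp : p.Prime) (hQE : IsQE p H) [Fintype (IrrCharacter H)] :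
    ∃ E : Subgroup H, Cfsg.IsElementary p E ∧
      ∃ (T : IrrCharacter H → Subgroup H) (θ : ∀ χ : IrrCharacter H, T χ → ℂ),
        (∀ χ, IsCharacter (T χ) (θ χ)) ∧ (∀ χ, Nat.card (T χ) < Nat.card H ∨ θ χ = 0) ∧
        (fun _ : H => (1 : ℂ)) =
          indFun E (fun _ => 1) - ∑ χ : IrrCharacter H, indFun (T χ) (θ χ) := by
  classical
  obtain ⟨C, hCn, hCc, hCp, k, hk⟩ := hQE
  haveI := hCn
  haveI := hCc
  have hcopi : (Nat.card C).Coprime C.index := by
    rw [hk]; exact Nat.Coprime.pow_right k hCp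
  obtain ⟨P, hcompl⟩ := Subgroup.exists_right_complement'_of_coprime hcopi
  have hPcard : Nat.card P = p ^ k := by
    rw [← hk]; exact (hcompl.symm.index_eq_card).symm
  have hcop : (Nat.card P).Coprime (Nat.card C) := by
    rw [hPcard]; exact (Nat.Coprime.pow_right k hCp).symm
  obtain ⟨Z, hZdef⟩ : ∃ Z : Subgroup H, Z = C ⊓ Subgroup.centralizer (P : Set H) := ⟨_, rfl⟩
  have hZC : Z ≤ C := by rw [hZdef]; exact inf_le_left
  have hsup : C ⊔ P = ⊤ := hcompl.sup_eq_top
  have hdisj : C ⊓ P = ⊥ := hcompl.disjoint.eq_bot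
  have hdisjZ : Z ⊓ P = ⊥ := by
    rw [eq_bot_iff, ← hdisj]
    exact inf_le_inf_right P hZC
  have hZcent : ∀ z ∈ Z, ∀ h : H, h * z = z * h := by
    intro z hz h
    rw [hZdef] at hz
    exact central_of_mem_inf_centralizer hsup hz h
  haveI : IsCyclic Z := Subgroup.isCyclic_of_le hZC
  have hZp : (Nat.card Z).Coprime p :=
    Nat.Coprime.coprime_dvd_left (Subgroup.card_dvd_of_le hZC) hCp
  refine ⟨Z ⊔ P, isElementary_sup hZcent hZp hPcard hdisjZ, ?_⟩
  obtain ⟨ρ, hρdef⟩ : ∃ ρ : H → ℂ, ρ = indFun (Z ⊔ P) (fun _ => (1 : ℂ)) := ⟨_, rfl⟩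
  rw [← hρdef]
  have hρ : IsCharacter H ρ := by
    rw [hρdef]
    exact Cfsg.Agent.Lib.Helper34.isCharacter_indFun _ isCharacter_one
  have h1irr : IsIrrCharacter H (fun _ => (1 : ℂ)) := isIrrCharacter_one
  have hρ1 : classInner ρ (fun _ => (1 : ℂ)) = 1 := by
    haveI : Fintype (Z ⊔ P : Subgroup H) := Fintype.ofFinite _
    rw [hρdef, Cfsg.Agent.Lib.Helper34.classInner_indFun_left _ _ _
      (Cfsg.Agent.Lib.Helper83.char_isClassFunction (IsIrrCharacter.isCharacter h1irr))]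
    exact classInner_irr_self isIrrCharacter_one
  have hΞ : IsCharacter H (ρ - fun _ => (1 : ℂ)) :=
    isCharacter_sub_of_classInner_ne_zero hρ h1irr (by rw [hρ1]; exact one_ne_zero)
  obtain ⟨m, hm⟩ := exists_nat_coeff hΞ
  have hmχ : ∀ χ : IrrCharacter H, classInner (ρ - fun _ => (1 : ℂ)) (χ : H → ℂ) = m χ := by
    intro χ
    rw [hm]
    exact classInner_sum_irr_left (fun φ => (m φ : ℂ)) χ
  have key : ∀ χ : IrrCharacter H, ∃ (T : Subgroup H) (θ : T → ℂ), IsCharacter T θ ∧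
      (Nat.card T < Nat.card H ∨ θ = 0) ∧ (m χ : ℂ) • (χ : H → ℂ) = indFun T θ := by
    intro χ
    by_cases hmz : m χ = 0
    · refine ⟨⊥, 0, isCharacter_zero, Or.inr rfl, ?_⟩
      rw [hmz, Nat.cast_zero, zero_smul, Cfsg.Agent.Lib.Helper34.indFun_zero]
    · have hχ1 : (χ : H → ℂ) ≠ fun _ => 1 := by
        intro h
        apply hmz
        have h2 := hmχ χ
        rw [h, classInner_sub_left, hρ1, classInner_irr_self h1irr, sub_self] at h2
        exact_mod_cast h2.symm
      have hconst : classInner ρ (χ : H → ℂ) ≠ 0 := by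
        have h2 := hmχ χ
        rw [classInner_sub_left, classInner_irr_ne h1irr χ.2 (Ne.symm hχ1), sub_zero] at h2
        rw [h2]
        exact_mod_cast hmz
      rw [hρdef, hZdef] at hconst
      obtain ⟨T, ψ, hTcard, hψ, hχeq⟩ := exists_induced_of_constituent hcompl hcop χ.2 hχ1 hconst
      refine ⟨T, m χ • ψ, isCharacter_nsmul _ hψ, Or.inl hTcard, ?_⟩
      rw [← Nat.cast_smul_eq_nsmul ℂ (m χ) ψ, Cfsg.Agent.Lib.Helper34.indFun_smul, ← hχeq]
  choose T θ h1 h2 h3 using key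
  refine ⟨T, θ, h1, h2, ?_⟩
  have h4 : ∑ χ : IrrCharacter H, indFun (T χ) (θ χ) = ρ - fun _ => (1 : ℂ) := by
    rw [hm]
    exact Finset.sum_congr rfl fun χ _ => (h3 χ).symm
  rw [h4]
  abel

end Step

end Cfsg.Agent.Lib.Helper05
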