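import Mathlib

/-!
# A local form of Banaschewski's lemma (helper5)

A (non-unital) ring `R` of complex-valued functions on a finite set such that every point has a
function in `R` taking an integer value prime to `p` there contains a constant function `m`
with `p ∤ m`.
-/

set_option autoImplicit false

namespace Cfsg.Agent.Lib.Helper05

theorem zsmul_mem_of_add_neg {S : Type*} (R : (S → ℂ) → Prop)
    (h0 : R 0) (hadd : ∀ f g, R f → R g → R (f + g)) (hneg : ∀ f, R f → R (-f))
    (n : ℤ) (f : S → ℂ) (hf : R f) : R ((n : ℂ) • f) := by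
  induction n using Int.induction_on with
  | zero => simpa using h0
  | succ k ih =>
    have : (((k : ℤ) + 1 : ℤ) : ℂ) • f = (k : ℂ) • f + f := by
      push_cast
      rw [add_smul, one_smul]
    rw [this]
    exact hadd _ _ ih hf
  | pred k ih =>
    have : (((-(k : ℤ) - 1 : ℤ)) : ℂ) • f = ((-(k : ℤ) : ℤ) : ℂ) • f + -f := by
      push_cast
      rw [sub_smul, one_smul, sub_eq_add_neg]
    rw [this]
    exact hadd _ _ ih (hneg _ hf)

theorem exists_const_mem_of_forall_exists {S : Type*} [Fintype S] (R : (S → ℂ) → Prop)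
    (h0 : R 0) (hadd : ∀ f g, R f → R g → R (f + g)) (hneg : ∀ f, R f → R (-f))
    (hmul : ∀ f g, R f → R g → R (f * g)) (p : ℕ) (hp : p.Prime)
    (hx : ∀ x : S, ∃ f, R f ∧ ∃ n : ℤ, f x = n ∧ ¬ (p : ℤ) ∣ n) :
    ∃ m : ℤ, ¬ (p : ℤ) ∣ m ∧ R (fun _ => (m : ℂ)) := by
  classical
  have hzs := zsmul_mem_of_add_neg R h0 hadd hneg
  have hpZ : Prime (p : ℤ) := Nat.prime_iff_prime_int.mp hp
  choose f hf n hn hpn using hx
  have claim : ∀ T : Finset S, ∃ M : ℤ, ¬ (p : ℤ) ∣ M ∧ ∃ r : S → ℂ, R r ∧
      ∀ y, ∏ x ∈ T, ((n x : ℂ) - f x y) = (M : ℂ) + r y := by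
    intro T
    induction T using Finset.induction_on with
    | empty => exact ⟨1, by
        intro h
        exact hpZ.not_unit (isUnit_of_dvd_one h), 0, h0, by simp⟩
    | insert a T ha ih =>
      obtain ⟨M, hM, r, hr, hprod⟩ := ih
      refine ⟨n a * M, ?_, (n a : ℂ) • r + -((M : ℂ) • f a) + -(f a * r), ?_, ?_⟩
      · intro h
        rcases hpZ.dvd_or_dvd h with h | h
        · exact hpn a h
        · exact hM h
      · exact hadd _ _ (hadd _ _ (hzs _ _ hr) (hneg _ (hzs _ _ (hf a)))) (hneg _ (hmul _ _ (hf a) hr))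
      · intro y
        rw [Finset.prod_insert ha, hprod y]
        simp only [Pi.add_apply, Pi.neg_apply, Pi.smul_apply, Pi.mul_apply, smul_eq_mul]
        push_cast
        ring
  obtain ⟨M, hM, r, hr, hprod⟩ := claim Finset.univ
  refine ⟨M, hM, ?_⟩
  have hzero : ∀ y, ∏ x ∈ (Finset.univ : Finset S), ((n x : ℂ) - f x y) = 0 := by
    intro y
    apply Finset.prod_eq_zero (Finset.mem_univ y)
    rw [hn y, sub_self]
  have : (fun _ : S => (M : ℂ)) = -r := by
    funext y
    have := hprod y
    rw [hzero y] at this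
    rw [Pi.neg_apply]
    linear_combination -this
  rw [this]
  exact hneg _ hr

end Cfsg.Agent.Lib.Helper05
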