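import Mathlib
import Cfsg.Prelude.Def_Characters
import Cfsg.Agent.Lib.Helper34.Induction

/-!
# Permutation characters (helper5)

`permCh G X g` is the number of fixed points of `g` on the `G`-set `X`.  We show that it is a
nonnegative integer combination of the functions induced from the trivial characters of point
stabilisers, and that it is multiplicative for products of `G`-sets.
-/

set_option autoImplicit false

namespace Cfsg.Agent.Lib.Helper05

open Cfsg MulAction
open Cfsg.Agent.Lib.Helper34

section PermChar

variable {G : Type*} [Group G]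

/-- The permutation character of a `G`-set. -/
noncomputable def permCh (G : Type*) [Group G] (X : Type*) [MulAction G X] : G → ℂ :=
  fun g => (Nat.card (fixedBy X g) : ℂ)

theorem permCh_apply (X : Type*) [MulAction G X] (g : G) :
    permCh G X g = (Nat.card (fixedBy X g) : ℂ) := rfl

theorem card_fixedBy_prod' (X Y : Type*) [MulAction G X] [MulAction G Y] (g : G) :
    Nat.card (fixedBy (X × Y) g) = Nat.card (fixedBy X g) * Nat.card (fixedBy Y g) := by
  rw [← Nat.card_prod]
  refine Nat.card_congr ?_
  refine
    { toFun := fun p => (⟨p.1.1, ?_⟩, ⟨p.1.2, ?_⟩)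
      invFun := fun q => ⟨(q.1.1, q.2.1), ?_⟩
      left_inv := fun p => rfl
      right_inv := fun q => rfl }
  · have := p.2
    rw [mem_fixedBy, Prod.smul_def] at this
    exact congrArg Prod.fst this
  · have := p.2
    rw [mem_fixedBy, Prod.smul_def] at this
    exact congrArg Prod.snd this
  · rw [mem_fixedBy, Prod.smul_def]
    exact Prod.ext q.1.2 q.2.2

theorem permCh_prod (X Y : Type*) [MulAction G X] [MulAction G Y] :
    permCh G (X × Y) = permCh G X * permCh G Y := by
  funext g
  simp only [permCh_apply, Pi.mul_apply, card_fixedBy_prod', Nat.cast_mul]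

theorem stabilizer_prod_le_left (X Y : Type*) [MulAction G X] [MulAction G Y] (x : X) (y : Y) :
    stabilizer G ((x, y) : X × Y) ≤ stabilizer G x := by
  intro g hg
  rw [mem_stabilizer_iff, Prod.smul_def] at hg
  exact congrArg Prod.fst hg

/-- The fibre of `y ↦ y • x` over a point of the orbit of `x` has the size of the stabiliser. -/
theorem card_fiber_orbit (X : Type*) [MulAction G X] (x z : X) (hz : z ∈ orbit G x) :
    Nat.card {y : G // y • x = z} = Nat.card (stabilizer G x) := by
  obtain ⟨y₀, hy₀'⟩ := hz
  have hy₀ : y₀ • x = z := hy₀'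
  apply Nat.card_congr
  exact
    { toFun := fun y => ⟨y₀⁻¹ * y.1, by
        rw [mem_stabilizer_iff, mul_smul, y.2, ← hy₀, inv_smul_smul]⟩
      invFun := fun h => ⟨y₀ * h.1, by
        rw [mul_smul, mem_stabilizer_iff.mp h.2, hy₀]⟩
      left_inv := fun y => by
        apply Subtype.ext
        simp
      right_inv := fun h => by
        apply Subtype.ext
        simp }

variable [Fintype G]

open Classical in
/-- The function induced from the trivial character of a point stabiliser counts the fixed points
in the orbit of that point. -/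
theorem indFun_stabilizer_apply (X : Type*) [MulAction G X] [Fintype X] (x : X) (g : G) :
    indFun (stabilizer G x) (fun _ => 1) g =
      ∑ z : X, if z ∈ orbit G x ∧ g • z = z then (1 : ℂ) else 0 := by
  rw [indFun_apply]
  obtain ⟨H, hH⟩ : ∃ H, H = stabilizer G x := ⟨_, rfl⟩
  rw [← hH]
  have hne : (Nat.card H : ℂ) ≠ 0 := by exact_mod_cast Nat.card_pos.ne'
  have h1 : ∀ y : G, extendByZero H (fun _ => (1 : ℂ)) (y⁻¹ * g * y) =
      if g • (y • x) = y • x then 1 else 0 := by
    intro y
    have hiff : y⁻¹ * g * y ∈ H ↔ g • (y • x) = y • x := by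
      rw [hH, mem_stabilizer_iff, mul_smul, mul_smul, inv_smul_eq_iff]
    by_cases h : g • (y • x) = y • x
    · rw [if_pos h, extendByZero_apply_mem H _ (hiff.mpr h)]
    · rw [if_neg h, extendByZero_apply_not_mem H _ (fun h' => h (hiff.mp h'))]
  simp_rw [h1]
  have h2 : ∑ y : G, (if g • (y • x) = y • x then (1 : ℂ) else 0) =
      ∑ z : X, ∑ y ∈ Finset.univ.filter (fun y : G => y • x = z),
        (if g • (y • x) = y • x then (1 : ℂ) else 0) :=
    (Finset.sum_fiberwise Finset.univ (fun y : G => y • x) _).symm
  rw [h2]
  have h3 : ∀ z : X, ∑ y ∈ Finset.univ.filter (fun y : G => y • x = z),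
      (if g • (y • x) = y • x then (1 : ℂ) else 0) =
      (Nat.card H : ℂ) * (if z ∈ orbit G x ∧ g • z = z then 1 else 0) := by
    intro z
    by_cases hz : z ∈ orbit G x
    · have : ∀ y ∈ Finset.univ.filter (fun y : G => y • x = z),
          (if g • (y • x) = y • x then (1 : ℂ) else 0) =
            (if z ∈ orbit G x ∧ g • z = z then 1 else 0) := by
        intro y hy
        rw [(Finset.mem_filter.mp hy).2]
        simp only [hz, true_and]
      rw [Finset.sum_congr rfl this, Finset.sum_const, nsmul_eq_mul]
      congr 1
      rw [hH, ← card_fiber_orbit X x z hz, Nat.card_eq_fintype_card, Fintype.card_subtype]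
    · have hempty : Finset.univ.filter (fun y : G => y • x = z) = ∅ := by
        rw [Finset.filter_eq_empty_iff]
        intro y _ hy
        exact hz ⟨y, hy⟩
      rw [hempty, Finset.sum_empty, if_neg (fun h => hz h.1), mul_zero]
  simp_rw [h3]
  rw [← Finset.mul_sum, ← mul_assoc, inv_mul_cancel₀ hne, one_mul]

open Classical in
/-- The permutation character of a finite `G`-set is a nonnegative integer combination of the
functions induced from the trivial characters of point stabilisers. -/
theorem permCh_eq_sum_indFun (X : Type*) [MulAction G X] [Finite X] [Fintype (Subgroup G)] :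
    ∃ a : Subgroup G → ℕ, (∀ H, a H ≠ 0 → ∃ x : X, stabilizer G x = H) ∧
      permCh G X = ∑ H : Subgroup G, (a H : ℂ) • indFun H (fun _ => 1) := by
  haveI : Fintype X := Fintype.ofFinite X
  haveI : Fintype (orbitRel.Quotient G X) := Fintype.ofFinite _
  obtain ⟨r, hr⟩ : ∃ r : orbitRel.Quotient G X → X, ∀ ω, (Quotient.mk'' (r ω) : orbitRel.Quotient G X) = ω :=
    ⟨Quotient.out, fun ω => Quotient.out_eq' ω⟩
  refine ⟨fun H => (Finset.univ.filter (fun ω : orbitRel.Quotient G X =>
    stabilizer G (r ω) = H)).card, ?_, ?_⟩
  · intro H hH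
    obtain ⟨ω, hω⟩ := Finset.card_pos.mp (Nat.pos_of_ne_zero hH)
    exact ⟨r ω, (Finset.mem_filter.mp hω).2⟩
  · funext g
    rw [permCh_apply, Finset.sum_apply]
    simp only [Pi.smul_apply, smul_eq_mul]
    -- the right-hand side as a sum over the orbits
    have hrhs : ∑ H : Subgroup G, ((Finset.univ.filter (fun ω : orbitRel.Quotient G X =>
        stabilizer G (r ω) = H)).card : ℂ) * indFun H (fun _ => 1) g =
        ∑ ω : orbitRel.Quotient G X, indFun (stabilizer G (r ω)) (fun _ => 1) g := by
      rw [← Finset.sum_fiberwise Finset.univ (fun ω : orbitRel.Quotient G X => stabilizer G (r ω))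
        (fun ω => indFun (stabilizer G (r ω)) (fun _ => 1) g)]
      refine Finset.sum_congr rfl fun H _ => ?_
      have : ∀ ω ∈ Finset.univ.filter (fun ω : orbitRel.Quotient G X => stabilizer G (r ω) = H),
          indFun (stabilizer G (r ω)) (fun _ => 1) g = indFun H (fun _ => 1) g := by
        intro ω hω
        have h := (Finset.mem_filter.mp hω).2
        subst h
        rfl
      rw [Finset.sum_congr rfl this, Finset.sum_const, nsmul_eq_mul]
    rw [hrhs]
    simp only [indFun_stabilizer_apply]
    rw [Finset.sum_comm]
    have hz : ∀ z : X, ∑ ω : orbitRel.Quotient G X,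
        (if z ∈ orbit G (r ω) ∧ g • z = z then (1 : ℂ) else 0) = if g • z = z then 1 else 0 := by
      intro z
      rw [Finset.sum_eq_single (Quotient.mk'' z : orbitRel.Quotient G X)]
      · have : z ∈ orbit G (r (Quotient.mk'' z : orbitRel.Quotient G X)) := by
          have h := Quotient.exact (hr (Quotient.mk'' z))
          exact orbitRel_apply.mp ((orbitRel G X).symm h)
        simp only [this, true_and]
      · intro ω _ hω
        rw [if_neg]
        rintro ⟨h, -⟩
        apply hω
        rw [← hr ω]
        exact (Quotient.sound (orbitRel_apply.mpr h)).symm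
      · intro h
        exact absurd (Finset.mem_univ _) h
    simp only [hz]
    rw [Finset.sum_boole]
    congr 1
    rw [Nat.card_eq_fintype_card, ← Fintype.card_subtype]
    rfl

/-- The function induced from the trivial character of `H` is the permutation character of the
coset space. -/
theorem indFun_one_eq_permCh (H : Subgroup G) :
    indFun H (fun _ => 1) = permCh G (G ⧸ H) := by
  classical
  haveI : Fintype (G ⧸ H) := Fintype.ofFinite _
  funext g
  have h1 := indFun_stabilizer_apply (G ⧸ H) ((1 : G) : G ⧸ H) g
  have h2 : ∀ K : Subgroup G, K = H → indFun K (fun _ => 1) g = indFun H (fun _ => 1) g := by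
    intro K hK
    subst hK
    rfl
  rw [h2 _ (stabilizer_quotient H)] at h1
  rw [h1, permCh_apply]
  have h3 : ∀ z : G ⧸ H, z ∈ orbit G ((1 : G) : G ⧸ H) := by
    intro z
    obtain ⟨y, rfl⟩ := QuotientGroup.mk_surjective z
    exact ⟨y, by
      change ((y * 1 : G) : G ⧸ H) = _
      rw [mul_one]⟩
  simp only [h3, true_and]
  rw [Finset.sum_boole]
  congr 1
  rw [Nat.card_eq_fintype_card, ← Fintype.card_subtype]
  rfl

end PermChar

end Cfsg.Agent.Lib.Helper05
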