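import Mathlib
import Cfsg.Prelude.Def_Characters
import Cfsg.Agent.Lib.Helper05.PermChar
import Cfsg.Agent.Lib.Helper05.Banaschewski
import Cfsg.Agent.Lib.Helper05.QuasiElem
import Cfsg.Agent.Lib.Helper05.SolomonPoint

/-!
# Solomon's induction theorem, local form (helper5)
-/

set_option autoImplicit false

namespace Cfsg.Agent.Lib.Helper05

open Cfsg MulAction

section Span

variable {G : Type*} [Group G] [Fintype G] [Fintype (Subgroup G)]

/-- Integer combinations of the permutation characters `(1_H)^G` with `H` in the family `𝓗`. -/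
def PermSpan (𝓗 : Subgroup G → Prop) (f : G → ℂ) : Prop :=
  ∃ a : Subgroup G → ℤ, (∀ H, a H ≠ 0 → 𝓗 H) ∧
    f = ∑ H : Subgroup G, (a H : ℂ) • indFun H (fun _ => 1)

theorem PermSpan.zero (𝓗 : Subgroup G → Prop) : PermSpan 𝓗 (0 : G → ℂ) :=
  ⟨0, fun H h => absurd rfl h, by simp⟩

theorem PermSpan.add {𝓗 : Subgroup G → Prop} {f g : G → ℂ} (hf : PermSpan 𝓗 f)
    (hg : PermSpan 𝓗 g) : PermSpan 𝓗 (f + g) := by
  obtain ⟨a, ha, rfl⟩ := hf
  obtain ⟨b, hb, rfl⟩ := hg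
  refine ⟨a + b, ?_, ?_⟩
  · intro H hH
    by_cases h : a H = 0
    · apply hb
      intro h'
      apply hH
      rw [Pi.add_apply, h, h', add_zero]
    · exact ha H h
  · rw [← Finset.sum_add_distrib]
    refine Finset.sum_congr rfl fun H _ => ?_
    rw [Pi.add_apply, Int.cast_add, add_smul]

theorem PermSpan.neg {𝓗 : Subgroup G → Prop} {f : G → ℂ} (hf : PermSpan 𝓗 f) :
    PermSpan 𝓗 (-f) := by
  obtain ⟨a, ha, rfl⟩ := hf
  refine ⟨-a, ?_, ?_⟩
  · intro H hH
    apply ha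
    intro h
    apply hH
    rw [Pi.neg_apply, h, neg_zero]
  · rw [← Finset.sum_neg_distrib]
    refine Finset.sum_congr rfl fun H _ => ?_
    rw [Pi.neg_apply, Int.cast_neg, neg_smul]

theorem PermSpan.zsmul {𝓗 : Subgroup G → Prop} {f : G → ℂ} (hf : PermSpan 𝓗 f) (n : ℤ) :
    PermSpan 𝓗 ((n : ℂ) • f) :=
  zsmul_mem_of_add_neg (PermSpan 𝓗) (PermSpan.zero 𝓗) (fun _ _ => PermSpan.add)
    (fun _ => PermSpan.neg) n f hf

theorem PermSpan.sum {𝓗 : Subgroup G → Prop} {ι : Type*} (s : Finset ι) (F : ι → G → ℂ)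
    (h : ∀ i ∈ s, PermSpan 𝓗 (F i)) : PermSpan 𝓗 (∑ i ∈ s, F i) :=
  Finset.sum_induction F (PermSpan 𝓗) (fun _ _ => PermSpan.add) (PermSpan.zero 𝓗) h

open Classical in
theorem PermSpan.single {𝓗 : Subgroup G → Prop} {H : Subgroup G} (hH : 𝓗 H) :
    PermSpan 𝓗 (indFun H (fun _ => 1)) := by
  refine ⟨Pi.single H 1, ?_, ?_⟩
  · intro K hK
    by_cases h : K = H
    · rw [h]; exact hH
    · rw [Pi.single_eq_of_ne h] at hK
      exact absurd rfl hK
  · rw [Finset.sum_eq_single H]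
    · rw [Pi.single_eq_same, Int.cast_one, one_smul]
    · intro K _ hK
      rw [Pi.single_eq_of_ne hK, Int.cast_zero, zero_smul]
    · intro h
      exact absurd (Finset.mem_univ _) h

/-- Permutation characters of finite `G`-sets with stabilisers in `𝓗` lie in the span. -/
theorem PermSpan.permCh {𝓗 : Subgroup G → Prop} (X : Type*) [MulAction G X] [Finite X]
    (hX : ∀ x : X, 𝓗 (stabilizer G x)) : PermSpan 𝓗 (permCh G X) := by
  obtain ⟨a, ha, hsum⟩ := permCh_eq_sum_indFun (G := G) X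
  refine ⟨fun H => (a H : ℤ), ?_, ?_⟩
  · intro H hH
    have : a H ≠ 0 := by
      intro h
      apply hH
      change ((a H : ℕ) : ℤ) = 0
      rw [h]; rfl
    obtain ⟨x, hx⟩ := ha H this
    rw [← hx]
    exact hX x
  · rw [hsum]
    refine Finset.sum_congr rfl fun H _ => ?_
    rw [Int.cast_natCast]

/-- Products of generators stay in the span, for a family closed under conjugation and
subgroups. -/
theorem PermSpan.mul_single {𝓗 : Subgroup G → Prop}
    (hsub : ∀ H K : Subgroup G, 𝓗 H → K ≤ H → 𝓗 K)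
    (hconj : ∀ (H : Subgroup G) (g : G), 𝓗 H → 𝓗 (H.map (MulAut.conj g).toMonoidHom))
    {H K : Subgroup G} (hH : 𝓗 H) (_hK : 𝓗 K) :
    PermSpan 𝓗 (indFun H (fun _ => 1) * indFun K (fun _ => 1)) := by
  rw [indFun_one_eq_permCh, indFun_one_eq_permCh, ← permCh_prod]
  apply PermSpan.permCh
  rintro ⟨q, r⟩
  apply hsub _ _ _ (stabilizer_prod_le_left (G ⧸ H) (G ⧸ K) q r)
  obtain ⟨y, rfl⟩ := QuotientGroup.mk_surjective q
  have h1 : ((y : G) : G ⧸ H) = y • ((1 : G) : G ⧸ H) := by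
    change _ = (((y * 1 : G)) : G ⧸ H)
    rw [mul_one]
  rw [h1, stabilizer_smul_eq_stabilizer_map_conj, stabilizer_quotient]
  exact hconj H y hH

theorem PermSpan.mul {𝓗 : Subgroup G → Prop}
    (hsub : ∀ H K : Subgroup G, 𝓗 H → K ≤ H → 𝓗 K)
    (hconj : ∀ (H : Subgroup G) (g : G), 𝓗 H → 𝓗 (H.map (MulAut.conj g).toMonoidHom))
    {f g : G → ℂ} (hf : PermSpan 𝓗 f) (hg : PermSpan 𝓗 g) : PermSpan 𝓗 (f * g) := by
  obtain ⟨a, ha, rfl⟩ := hf
  obtain ⟨b, hb, rfl⟩ := hg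
  rw [Finset.sum_mul_sum]
  apply PermSpan.sum
  intro H _
  apply PermSpan.sum
  intro K _
  by_cases hH : a H = 0
  · rw [hH, Int.cast_zero, zero_smul, zero_mul]
    exact PermSpan.zero 𝓗
  by_cases hK : b K = 0
  · rw [hK, Int.cast_zero, zero_smul, mul_zero]
    exact PermSpan.zero 𝓗
  have : (a H : ℂ) • indFun H (fun _ => (1 : ℂ)) * (b K : ℂ) • indFun K (fun _ => (1 : ℂ)) =
      ((a H * b K : ℤ) : ℂ) • (indFun H (fun _ => (1 : ℂ)) * indFun K (fun _ => (1 : ℂ))) := by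
    rw [smul_mul_smul_comm, Int.cast_mul]
  rw [this]
  exact (PermSpan.mul_single hsub hconj (ha H hH) (hb K hK)).zsmul _

/-- **Solomon's induction theorem, local form.** -/
theorem solomon_local (p : ℕ) (hp : p.Prime) :
    ∃ m : ℤ, ¬ (p : ℤ) ∣ m ∧ PermSpan (fun H : Subgroup G => IsQE p H) (fun _ : G => (m : ℂ)) := by
  haveI : Fact p.Prime := ⟨hp⟩
  apply exists_const_mem_of_forall_exists (PermSpan (fun H : Subgroup G => IsQE p H))
    (PermSpan.zero _) (fun _ _ => PermSpan.add) (fun _ => PermSpan.neg)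
    (fun _ _ => PermSpan.mul (fun H K hH hKH => hH.of_le hp hKH) (fun H g hH => hH.conj g)) p hp
  intro x
  obtain ⟨H, hQE, hnd⟩ := exists_isQE_not_dvd_card_fixedBy p x
  refine ⟨indFun H (fun _ => 1), PermSpan.single hQE, (Nat.card (fixedBy (G ⧸ H) x) : ℤ), ?_, ?_⟩
  · rw [indFun_one_eq_permCh, permCh_apply, Int.cast_natCast]
  · rw [Int.natCast_dvd_natCast]
    exact hnd

end Span

end Cfsg.Agent.Lib.Helper05
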