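import Mathlib
import Cfsg.Prelude.Def_Characters
import Cfsg.Agent.Lib.Helper05.Solomon
import Cfsg.Agent.Lib.Helper05.QEStep
import Cfsg.Agent.Lib.Helper80.Monomial
import Cfsg.Agent.Lib.Helper45.SL2Res2

/-!
# The local form of Brauer's induction theorem (helper5)
-/

set_option autoImplicit false

namespace Cfsg.Agent.Lib.Helper05

open Cfsg

universe u

/-- Elementarity is invariant under isomorphism. -/
theorem isElementary_of_mulEquiv {p : ℕ} {E E' : Type u} [Group E] [Group E'] (e : E ≃* E')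
    (h : Cfsg.IsElementary p E) : Cfsg.IsElementary p E' := by
  obtain ⟨x, hxc, hxo, k, hk⟩ := h
  refine ⟨e x, ?_, ?_, k, ?_⟩
  · rw [Subgroup.mem_center_iff] at hxc ⊢
    intro g
    have h1 := hxc (e.symm g)
    have h2 := congrArg e h1
    rw [map_mul, map_mul, e.apply_symm_apply] at h2
    exact h2
  · rw [MulEquiv.orderOf_eq]
    exact hxo
  · rw [← hk]
    have h1 : Subgroup.zpowers (e x) = (Subgroup.zpowers x).map (e : E →* E') := by
      rw [MonoidHom.map_zpowers]; rfl
    rw [h1]
    exact Subgroup.index_map_equiv _ e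

section Span

variable {G : Type u} [Group G] [Fintype G]

/-- Integer combinations of characters induced from `p`-elementary subgroups. -/
def ElemSpan (p : ℕ) (f : G → ℂ) : Prop :=
  ∃ l : List ((E : Subgroup G) × ((E → ℂ) × ℤ)),
    (∀ t ∈ l, Cfsg.IsElementary p t.1 ∧ Cfsg.IsCharacter t.1 t.2.1) ∧
    f = (l.map fun t => (t.2.2 : ℂ) • Cfsg.indFun t.1 t.2.1).sum

theorem ElemSpan.zero (p : ℕ) : ElemSpan p (0 : G → ℂ) :=
  ⟨[], by simp, by simp⟩

theorem ElemSpan.add {p : ℕ} {f g : G → ℂ} (hf : ElemSpan p f) (hg : ElemSpan p g) :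
    ElemSpan p (f + g) := by
  obtain ⟨l1, hl1, rfl⟩ := hf
  obtain ⟨l2, hl2, rfl⟩ := hg
  refine ⟨l1 ++ l2, ?_, ?_⟩
  · intro t ht
    rcases List.mem_append.mp ht with ht | ht
    · exact hl1 t ht
    · exact hl2 t ht
  · rw [List.map_append, List.sum_append]

theorem ElemSpan.neg {p : ℕ} {f : G → ℂ} (hf : ElemSpan p f) : ElemSpan p (-f) := by
  obtain ⟨l, hl, rfl⟩ := hf
  refine ⟨l.map (fun t => ⟨t.1, (t.2.1, -t.2.2)⟩), ?_, ?_⟩
  · intro t ht
    rw [List.mem_map] at ht
    obtain ⟨s, hs, rfl⟩ := ht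
    exact hl s hs
  · clear hl
    induction l with
    | nil => simp
    | cons a l ih =>
      simp only [List.map_cons, List.sum_cons, neg_add_rev] at ih ⊢
      rw [← ih]
      push_cast
      rw [neg_smul]
      abel

theorem ElemSpan.zsmul {p : ℕ} {f : G → ℂ} (hf : ElemSpan p f) (n : ℤ) :
    ElemSpan p ((n : ℂ) • f) :=
  zsmul_mem_of_add_neg (ElemSpan p) (ElemSpan.zero p) (fun _ _ => ElemSpan.add)
    (fun _ => ElemSpan.neg) n f hf

theorem ElemSpan.sum {p : ℕ} {ι : Type*} (s : Finset ι) (F : ι → G → ℂ)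
    (h : ∀ i ∈ s, ElemSpan p (F i)) : ElemSpan p (∑ i ∈ s, F i) :=
  Finset.sum_induction F (ElemSpan p) (fun _ _ => ElemSpan.add) (ElemSpan.zero p) h

theorem ElemSpan.single {p : ℕ} {E : Subgroup G} (hE : Cfsg.IsElementary p E) {φ : E → ℂ}
    (hφ : Cfsg.IsCharacter E φ) : ElemSpan p (Cfsg.indFun E φ) := by
  refine ⟨[⟨E, (φ, 1)⟩], ?_, ?_⟩
  · intro t ht
    rw [List.mem_singleton] at ht
    rw [ht]
    exact ⟨hE, hφ⟩
  · simp

/-- Characters induced from `p`-quasi-elementary subgroups lie in the span of characters induced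
from `p`-elementary subgroups. -/
theorem elemSpan_indFun_of_isQE {p : ℕ} (hp : p.Prime) :
    ∀ (n : ℕ) (H : Subgroup G), Nat.card H = n → IsQE p H → ∀ ψ : H → ℂ,
      Cfsg.IsCharacter H ψ → ElemSpan p (Cfsg.indFun H ψ) := by
  intro n
  induction n using Nat.strong_induction_on with
  | _ n ih =>
    intro H hHn hQE ψ hψ
    classical
    haveI : Fintype H := Fintype.ofFinite H
    haveI : Fintype (IrrCharacter H) := Fintype.ofFinite _
    obtain ⟨E, hE, T, θ, hθc, hTcard, h1eq⟩ := qe_step hp hQE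
    have hψcf : IsClassFunction H ψ := Cfsg.Agent.Lib.Helper83.char_isClassFunction hψ
    -- `ψ = ψ * 1`
    have hψeq : ψ = Cfsg.indFun E (fun e : E => ψ e * 1) -
        ∑ χ : IrrCharacter H, Cfsg.indFun (T χ) (fun t : T χ => ψ t * θ χ t) := by
      have h2 : ψ = ψ * (fun _ : H => (1 : ℂ)) := by
        funext h; simp
      conv_lhs => rw [h2, h1eq]
      rw [mul_sub, Finset.mul_sum, Cfsg.Agent.Lib.Helper45.indFun_mul_classFun _ _ _ hψcf]
      congr 1
      refine Finset.sum_congr rfl fun χ _ => ?_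
      rw [Cfsg.Agent.Lib.Helper45.indFun_mul_classFun _ _ _ hψcf]
    rw [hψeq, Cfsg.Agent.Lib.Helper34.indFun_sub, Cfsg.Agent.Lib.Helper34.indFun_sum,
      sub_eq_add_neg]
    apply ElemSpan.add
    · rw [Cfsg.Agent.Lib.Helper80.indFun_indFun_subtype]
      apply ElemSpan.single
      · exact isElementary_of_mulEquiv
          (E.equivMapOfInjective H.subtype H.subtype_injective) hE
      · apply isCharacter_comp (Cfsg.Agent.Lib.Helper80.mapSubtypeHom H E)
          (χ := fun e : E => ψ e * 1)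
        have : (fun e : E => ψ e * 1) = fun e : E => ψ e := by funext e; rw [mul_one]
        rw [this]
        exact isCharacter_restrict E hψ
    · apply ElemSpan.neg
      apply ElemSpan.sum
      intro χ _
      rcases hTcard χ with hlt | hzero
      · rw [Cfsg.Agent.Lib.Helper80.indFun_indFun_subtype]
        have hcard : Nat.card ((T χ).map H.subtype) = Nat.card (T χ) :=
          Subgroup.card_map_of_injective H.subtype_injective
        apply ih (Nat.card ((T χ).map H.subtype)) (by rw [hcard, ← hHn]; exact hlt) _ rfl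
        · exact (hQE.subgroup hp (T χ)).of_mulEquiv
            ((T χ).equivMapOfInjective H.subtype H.subtype_injective)
        · apply isCharacter_comp (Cfsg.Agent.Lib.Helper80.mapSubtypeHom H (T χ))
            (χ := fun t : T χ => ψ t * θ χ t)
          exact isCharacter_mul (isCharacter_restrict (T χ) hψ) (hθc χ)
      · have : (fun t : T χ => ψ t * θ χ t) = 0 := by
          funext t
          rw [hzero]
          simp
        rw [this, Cfsg.Agent.Lib.Helper34.indFun_zero, Cfsg.Agent.Lib.Helper34.indFun_zero]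
        exact ElemSpan.zero p

/-- **Local form of Brauer's induction theorem.** -/
theorem brauer_local [Fintype (Subgroup G)] (p : ℕ) (hp : p.Prime) :
    ∃ m : ℤ, ¬ (p : ℤ) ∣ m ∧ ElemSpan p (fun _ : G => (m : ℂ)) := by
  obtain ⟨m, hm, a, ha, hsum⟩ := solomon_local (G := G) p hp
  refine ⟨m, hm, ?_⟩
  rw [hsum]
  apply ElemSpan.sum
  intro H _
  by_cases h0 : a H = 0
  · rw [h0, Int.cast_zero, zero_smul]
    exact ElemSpan.zero p
  · apply ElemSpan.zsmul
    exact elemSpan_indFun_of_isQE hp _ H rfl (ha H h0) _ isCharacter_one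

end Span

end Cfsg.Agent.Lib.Helper05
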