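import Mathlib
import Cfsg.Prelude.Def_Characters

/-!
# Elementary groups (helper5): nilpotency and subgroups
-/

set_option autoImplicit false

namespace Cfsg.Agent.Lib.Helper05

universe u

section Elem

variable {E : Type u} [Group E] [Finite E]

/-- A `p`-elementary group is nilpotent. -/
theorem isNilpotent_of_isElementary {p : ℕ} (hp : p.Prime) (h : Cfsg.IsElementary p E) :
    Group.IsNilpotent E := by
  haveI : Fact p.Prime := ⟨hp⟩
  obtain ⟨x, hxc, -, k, hk⟩ := h
  have hcent : ∀ n ∈ Subgroup.zpowers x, ∀ g : E, g * n = n * g := by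
    intro n hn g
    obtain ⟨j, rfl⟩ := hn
    have : Commute g x := (Subgroup.mem_center_iff.mp hxc) g
    exact (this.zpow_right j).eq
  haveI : (Subgroup.zpowers x).Normal := by
    constructor
    intro n hn g
    rw [hcent n hn g, mul_inv_cancel_right]
    exact hn
  have hpg : IsPGroup p (E ⧸ Subgroup.zpowers x) := by
    apply IsPGroup.of_card (n := k)
    rw [← hk]
    rfl
  haveI : Group.IsNilpotent (E ⧸ Subgroup.zpowers x) := hpg.isNilpotent
  apply Subgroup.isNilpotent_of_ker_le_center (QuotientGroup.mk' (Subgroup.zpowers x))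
  rw [QuotientGroup.ker_mk']
  intro n hn
  rw [Subgroup.mem_center_iff]
  intro g
  exact hcent n hn g

/-- Subgroups of `p`-elementary groups are `p`-elementary. -/
theorem isElementary_subgroup {p : ℕ} (hp : p.Prime) (h : Cfsg.IsElementary p E)
    (D : Subgroup E) : Cfsg.IsElementary p D := by
  obtain ⟨x, hxc, hxo, k, hk⟩ := h
  have hcent : ∀ n ∈ Subgroup.zpowers x, ∀ g : E, g * n = n * g := by
    intro n hn g
    obtain ⟨j, rfl⟩ := hn
    have : Commute g x := (Subgroup.mem_center_iff.mp hxc) g
    exact (this.zpow_right j).eq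
  haveI hAn : (Subgroup.zpowers x).Normal := by
    constructor
    intro n hn g
    rw [hcent n hn g, mul_inv_cancel_right]
    exact hn
  -- `B = A ∩ D` inside `D`
  let f : (Subgroup.zpowers x).subgroupOf D →* Subgroup.zpowers x :=
    { toFun := fun b => ⟨b.1.1, b.2⟩
      map_one' := rfl
      map_mul' := fun _ _ => rfl }
  have hf : Function.Injective f := by
    intro a b hab
    apply Subtype.ext
    apply Subtype.ext
    have h3 : (f a : E) = (f b : E) := congrArg Subtype.val hab
    exact h3
  haveI : IsCyclic ((Subgroup.zpowers x).subgroupOf D) := isCyclic_of_injective f hf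
  obtain ⟨y, hy⟩ := (isCyclic_iff_exists_zpowers_eq_top
    (α := (Subgroup.zpowers x).subgroupOf D)).mp inferInstance
  have hyD : Subgroup.zpowers (y : D) = (Subgroup.zpowers x).subgroupOf D := by
    have h1 : (Subgroup.zpowers y).map ((Subgroup.zpowers x).subgroupOf D).subtype =
        Subgroup.zpowers (y : D) := by
      rw [MonoidHom.map_zpowers]; rfl
    rw [← h1, hy, ← MonoidHom.range_eq_map, Subgroup.range_subtype]
  refine ⟨(y : D), ?_, ?_, ?_⟩
  · rw [Subgroup.mem_center_iff]
    intro d
    apply Subtype.ext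
    exact hcent ((y : D) : E) y.2 (d : E)
  · have h1 : orderOf (y : D) = Nat.card ((Subgroup.zpowers x).subgroupOf D) := by
      rw [← Nat.card_zpowers (y : D)]
      exact congrArg (fun K : Subgroup D => Nat.card K) hyD
    rw [h1]
    have h2 : Nat.card ((Subgroup.zpowers x).subgroupOf D) ∣ Nat.card (Subgroup.zpowers x) :=
      Subgroup.card_dvd_of_injective f hf
    rw [Nat.card_zpowers] at h2
    exact Nat.Coprime.coprime_dvd_left h2 hxo
  · rw [hyD]
    have hdvd : ((Subgroup.zpowers x).subgroupOf D).index ∣ p ^ k := by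
      rw [← hk]
      exact Subgroup.relIndex_dvd_index_of_normal (Subgroup.zpowers x) D
    obtain ⟨j, -, hj⟩ := (Nat.dvd_prime_pow hp).mp hdvd
    exact ⟨j, hj⟩

end Elem

end Cfsg.Agent.Lib.Helper05
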