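import Mathlib
import Cfsg.Prelude.Def_Characters
import Cfsg.Agent.Lib.Helper05.BrauerLocal
import Cfsg.Agent.Lib.Helper05.ElemGroups
import Cfsg.Agent.S0176

/-!
# Brauer's induction theorem (helper5)
-/

set_option autoImplicit false

namespace Cfsg.Agent.Lib.Helper05

open Cfsg

universe u

section Span

variable {G : Type u} [Group G] [Fintype G]

/-- Integer combinations of functions induced from linear characters of elementary subgroups. -/
def LinSpan (f : G → ℂ) : Prop :=
  ∃ l : List ((E : Subgroup G) × ((E →* ℂˣ) × ℤ)),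
    (∀ t ∈ l, ∃ p : ℕ, p.Prime ∧ Cfsg.IsElementary p t.1) ∧
    f = (l.map fun t => (t.2.2 : ℂ) • Cfsg.indFun t.1 (fun e => (t.2.1 e : ℂ))).sum

theorem LinSpan.zero : LinSpan (0 : G → ℂ) :=
  ⟨[], by simp, by simp⟩

theorem LinSpan.add {f g : G → ℂ} (hf : LinSpan f) (hg : LinSpan g) : LinSpan (f + g) := by
  obtain ⟨l1, hl1, rfl⟩ := hf
  obtain ⟨l2, hl2, rfl⟩ := hg
  refine ⟨l1 ++ l2, ?_, ?_⟩
  · intro t ht
    rcases List.mem_append.mp ht with ht | ht
    · exact hl1 t ht
    · exact hl2 t ht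
  · rw [List.map_append, List.sum_append]

theorem LinSpan.neg {f : G → ℂ} (hf : LinSpan f) : LinSpan (-f) := by
  obtain ⟨l, hl, rfl⟩ := hf
  refine ⟨l.map (fun t => ⟨t.1, (t.2.1, -t.2.2)⟩), ?_, ?_⟩
  · intro t ht
    rw [List.mem_map] at ht
    obtain ⟨s, hs, rfl⟩ := ht
    exact hl s hs
  · clear hl
    induction l with
    | nil => simp
    | cons a l ih =>
      simp only [List.map_cons, List.sum_cons, neg_add_rev] at ih ⊢
      rw [← ih]
      push_cast
      rw [neg_smul]
      abel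

theorem LinSpan.zsmul {f : G → ℂ} (hf : LinSpan f) (n : ℤ) : LinSpan ((n : ℂ) • f) :=
  zsmul_mem_of_add_neg LinSpan LinSpan.zero (fun _ _ => LinSpan.add) (fun _ => LinSpan.neg) n f hf

theorem LinSpan.sum {ι : Type*} (s : Finset ι) (F : ι → G → ℂ)
    (h : ∀ i ∈ s, LinSpan (F i)) : LinSpan (∑ i ∈ s, F i) :=
  Finset.sum_induction F LinSpan (fun _ _ => LinSpan.add) LinSpan.zero h

theorem LinSpan.list_sum {α : Type*} (l : List α) (F : α → G → ℂ)
    (h : ∀ t ∈ l, LinSpan (F t)) : LinSpan (l.map F).sum := by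
  induction l with
  | nil => simpa using LinSpan.zero
  | cons a l ih =>
    rw [List.map_cons, List.sum_cons]
    exact LinSpan.add (h a (List.mem_cons_self)) (ih fun t ht => h t (List.mem_cons_of_mem a ht))

theorem LinSpan.single {p : ℕ} (hp : p.Prime) {E : Subgroup G} (hE : Cfsg.IsElementary p E)
    (lam : E →* ℂˣ) : LinSpan (Cfsg.indFun E (fun e => (lam e : ℂ))) := by
  refine ⟨[⟨E, (lam, 1)⟩], ?_, ?_⟩
  · intro t ht
    rw [List.mem_singleton] at ht
    rw [ht]
    exact ⟨p, hp, hE⟩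
  · simp

/-- Characters induced from elementary subgroups are in the span (elementary groups are
`M`-groups). -/
theorem linSpan_indFun_of_isElementary {p : ℕ} (hp : p.Prime) {E : Subgroup G}
    (hE : Cfsg.IsElementary p E) {ψ : E → ℂ} (hψ : Cfsg.IsCharacter E ψ) :
    LinSpan (Cfsg.indFun E ψ) := by
  classical
  haveI : Fintype E := Fintype.ofFinite E
  haveI := finite_irrCharacter (G := E)
  haveI : Fintype (IrrCharacter E) := Fintype.ofFinite _
  haveI : Group.IsNilpotent E := isNilpotent_of_isElementary hp hE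
  obtain ⟨m, hm⟩ := exists_nat_coeff hψ
  rw [hm, Cfsg.Agent.Lib.Helper34.indFun_sum]
  apply LinSpan.sum
  intro χ _
  rw [Cfsg.Agent.Lib.Helper34.indFun_smul]
  have hcast : ((m χ : ℕ) : ℂ) = ((m χ : ℤ) : ℂ) := by push_cast; rfl
  rw [hcast]
  apply LinSpan.zsmul
  obtain ⟨D, lam, hχ⟩ := Cfsg.Agent.S0176.result χ.1 χ.2
  rw [hχ, Cfsg.Agent.Lib.Helper80.indFun_indFun_subtype]
  exact LinSpan.single hp
    (isElementary_of_mulEquiv (D.equivMapOfInjective E.subtype E.subtype_injective)
      (isElementary_subgroup hp hE D))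
    (lam.comp (Cfsg.Agent.Lib.Helper80.mapSubtypeHom E D))

theorem linSpan_of_elemSpan {p : ℕ} (hp : p.Prime) {f : G → ℂ} (hf : ElemSpan p f) :
    LinSpan f := by
  obtain ⟨l, hl, rfl⟩ := hf
  apply LinSpan.list_sum
  intro t ht
  exact (linSpan_indFun_of_isElementary hp (hl t ht).1 (hl t ht).2).zsmul _

/-- The trivial character is an integer combination of functions induced from linear characters
of elementary subgroups. -/
theorem linSpan_one [Fintype (Subgroup G)] : LinSpan (fun _ : G => (1 : ℂ)) := by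
  let I : Ideal ℤ :=
    { carrier := {m | LinSpan (fun _ : G => (m : ℂ))}
      zero_mem' := by
        change LinSpan (fun _ : G => ((0 : ℤ) : ℂ))
        have : (fun _ : G => ((0 : ℤ) : ℂ)) = 0 := by funext g; simp
        rw [this]; exact LinSpan.zero
      add_mem' := by
        intro a b ha hb
        change LinSpan (fun _ : G => ((a + b : ℤ) : ℂ))
        have : (fun _ : G => ((a + b : ℤ) : ℂ)) = (fun _ : G => (a : ℂ)) + fun _ : G => (b : ℂ) := by
          funext g; simp
        rw [this]; exact LinSpan.add ha hb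
      smul_mem' := by
        intro c m hm
        change LinSpan (fun _ : G => ((c • m : ℤ) : ℂ))
        have : (fun _ : G => ((c • m : ℤ) : ℂ)) = (c : ℂ) • fun _ : G => (m : ℂ) := by
          funext g; simp
        rw [this]; exact LinSpan.zsmul hm c }
  have hI : ∀ m : ℤ, m ∈ I ↔ LinSpan (fun _ : G => (m : ℂ)) := fun m => Iff.rfl
  obtain ⟨d, hd⟩ : ∃ d : ℤ, I = Ideal.span {d} :=
    ⟨Submodule.IsPrincipal.generator I, (Ideal.span_singleton_generator I).symm⟩
  have hdmem : ∀ m : ℤ, m ∈ I ↔ d ∣ m := by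
    intro m
    rw [hd, Ideal.mem_span_singleton]
  by_cases hunit : d.natAbs = 1
  · have h1 : (1 : ℤ) ∈ I := by
      rw [hdmem]
      exact (Int.isUnit_iff_natAbs_eq.mpr hunit).dvd
    have h2 := (hI 1).mp h1
    simpa using h2
  · exfalso
    obtain ⟨q, hq, hqd⟩ := Nat.exists_prime_and_dvd hunit
    obtain ⟨m, hm, hspan⟩ := brauer_local (G := G) q hq
    have hmI : m ∈ I := (hI m).mpr (linSpan_of_elemSpan hq hspan)
    have hdm : d ∣ m := (hdmem m).mp hmI
    apply hm
    have hqd' : (q : ℤ) ∣ d := Int.natCast_dvd.mpr hqd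
    exact dvd_trans hqd' hdm

/-- **Brauer's induction theorem.** -/
theorem linSpan_of_isCharacter [Fintype (Subgroup G)] {χ : G → ℂ} (hχ : Cfsg.IsCharacter G χ) :
    LinSpan χ := by
  obtain ⟨l, hl, h1⟩ := linSpan_one (G := G)
  have hcf : IsClassFunction G χ := Cfsg.Agent.Lib.Helper83.char_isClassFunction hχ
  have h2 : χ = χ * fun _ : G => (1 : ℂ) := by funext g; simp
  rw [h2, h1, ← List.sum_map_mul_left]
  apply LinSpan.list_sum
  intro t ht
  obtain ⟨p, hp, hE⟩ := hl t ht
  rw [mul_smul_comm, Cfsg.Agent.Lib.Helper45.indFun_mul_classFun _ _ _ hcf]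
  apply LinSpan.zsmul
  apply linSpan_indFun_of_isElementary hp hE
  exact isCharacter_mul (isCharacter_restrict t.1 hχ)
    (Cfsg.Agent.Lib.Helper83.isCharacter_of_hom t.2.1)

end Span

end Cfsg.Agent.Lib.Helper05
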