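import Mathlib

/-!
# Definitions for the pack K-A10 (S3489: `A₁₀` is not recognizable by its spectrum)

By the landed S3444 it suffices to exhibit ONE finite group with a nontrivial solvable normal subgroup and
the spectrum `{1,…,10,12,15,21}` of `A₁₀`.  We take `G0 = (V × Qodd) ⋊ K`, where
`V = F₇⁴`, `K ≤ GL₄(7)` is a copy of `2.S₅⁻` (order 240, unique involution `-1`, acting fixed-point-freely on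
`V`; generated by `gA`, `gB`), and `Qodd` is the `F₃`-space of odd functions `V → F₃` (`f (-v) = - f v`), with
`(k • f) v = f (k⁻¹ v)`.  Architect: helper5.  Spec: `notes/S3489_keystones.lean.txt`.
-/

set_option autoImplicit false

namespace Cfsg.Agent.Lib.Helper05.A10Iso

open Matrix

/-- the natural module `F₇⁴` -/
abbrev V := Fin 4 → ZMod 7

/-- `4 × 4` matrices over `F₇` -/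
abbrev M4 := Matrix (Fin 4) (Fin 4) (ZMod 7)

/-- `GL₄(7)` -/
abbrev GL4 := Matrix.GeneralLinearGroup (Fin 4) (ZMod 7)

/-! ## data (computed off-line) -/

/-- generator `a` (order 8) -/
def matA : M4 := !![0, 0, 1, 5; 0, 0, 3, 6; 3, 1, 0, 1; 2, 4, 2, 0]

/-- inverse of `a` -/
def matAi : M4 := !![3, 0, 6, 2; 0, 4, 4, 1; 4, 6, 0, 0; 5, 3, 0, 0]

/-- generator `b` -/
def matB : M4 := !![0, 0, 3, 2; 0, 0, 3, 3; 6, 3, 4, 4; 1, 6, 6, 4]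

/-- inverse of `b` -/
def matBi : M4 := !![4, 4, 4, 5; 6, 4, 4, 4; 1, 4, 0, 0; 6, 1, 0, 0]

/-- the 240 elements of `K` in breadth-first order (left multiplication by `a`, `b`) -/
def elt : Fin 240 → M4 := ![
  !![1, 0, 0, 0; 0, 1, 0, 0; 0, 0, 1, 0; 0, 0, 0, 1],
  !![0, 0, 1, 5; 0, 0, 3, 6; 3, 1, 0, 1; 2, 4, 2, 0],
  !![0, 0, 3, 2; 0, 0, 3, 3; 6, 3, 4, 4; 1, 6, 6, 4],
  !![6, 0, 3, 1; 0, 6, 5, 3; 2, 4, 1, 0; 6, 2, 0, 1],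
  !![6, 4, 4, 3; 1, 1, 6, 3; 6, 6, 2, 3; 5, 1, 6, 5],
  !![4, 5, 6, 3; 3, 3, 6, 1; 1, 6, 4, 6; 5, 6, 5, 3],
  !![6, 0, 3, 6; 0, 6, 2, 3; 0, 1, 4, 4; 5, 0, 6, 4],
  !![4, 0, 1, 5; 0, 3, 3, 6; 3, 1, 0, 0; 2, 4, 0, 0],
  !![4, 2, 3, 2; 3, 4, 3, 3; 5, 0, 2, 5; 0, 5, 4, 2],
  !![3, 4, 4, 0; 6, 3, 0, 4; 3, 0, 3, 3; 0, 3, 1, 3],
  !![0, 6, 4, 5; 5, 0, 3, 3; 6, 6, 4, 3; 5, 1, 6, 3],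
  !![5, 1, 1, 0; 5, 5, 0, 1; 6, 3, 1, 6; 1, 6, 2, 1],
  !![6, 2, 1, 3; 4, 1, 6, 6; 1, 3, 6, 1; 6, 6, 2, 1],
  !![4, 1, 6, 3; 2, 3, 6, 1; 2, 6, 3, 4; 5, 5, 1, 4],
  !![3, 3, 3, 6; 1, 3, 2, 3; 0, 1, 1, 0; 5, 0, 0, 1],
  !![6, 0, 0, 0; 0, 6, 0, 0; 0, 0, 6, 0; 0, 0, 0, 6],
  !![6, 4, 0, 0; 1, 1, 0, 0; 2, 1, 1, 6; 2, 5, 5, 6],
  !![5, 4, 1, 1; 1, 2, 2, 6; 1, 1, 2, 4; 2, 6, 1, 5],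
  !![1, 3, 0, 5; 1, 1, 4, 0; 4, 2, 2, 0; 3, 4, 0, 2],
  !![3, 1, 1, 4; 2, 4, 1, 6; 1, 4, 6, 0; 1, 6, 0, 1],
  !![2, 6, 4, 1; 2, 2, 5, 4; 6, 3, 5, 1; 1, 6, 5, 5],
  !![3, 4, 6, 4; 6, 3, 6, 6; 3, 5, 0, 0; 4, 3, 0, 0],
  !![0, 6, 3, 1; 5, 0, 2, 4; 3, 1, 3, 0; 2, 4, 0, 4],
  !![4, 5, 4, 4; 3, 3, 1, 3; 0, 0, 5, 2; 0, 0, 4, 2],
  !![6, 0, 0, 6; 0, 6, 2, 0; 3, 1, 4, 3; 5, 3, 1, 4],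
  !![3, 5, 2, 6; 4, 3, 2, 2; 0, 6, 4, 2; 2, 0, 3, 4],
  !![1, 0, 1, 5; 0, 6, 3, 6; 6, 2, 0, 2; 4, 1, 4, 0],
  !![6, 3, 1, 3; 1, 6, 1, 1; 5, 4, 4, 0; 6, 5, 0, 4],
  !![2, 0, 4, 6; 0, 5, 5, 3; 2, 3, 0, 4; 6, 5, 1, 0],
  !![4, 1, 1, 5; 2, 3, 3, 6; 1, 5, 4, 1; 3, 6, 2, 3],
  !![3, 3, 3, 2; 1, 3, 3, 3; 6, 3, 0, 0; 1, 6, 0, 0],
  !![0, 0, 6, 2; 0, 0, 4, 1; 4, 6, 0, 6; 5, 3, 5, 0],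
  !![0, 0, 4, 5; 0, 0, 4, 4; 1, 4, 3, 3; 6, 1, 1, 3],
  !![5, 5, 5, 1; 4, 5, 5, 5; 0, 4, 5, 6; 6, 0, 2, 5],
  !![3, 6, 6, 2; 5, 4, 4, 1; 6, 2, 3, 6; 4, 1, 5, 4],
  !![4, 3, 0, 1; 1, 4, 5, 0; 4, 6, 6, 0; 2, 4, 0, 6],
  !![0, 1, 1, 1; 2, 0, 2, 6; 3, 2, 3, 4; 4, 4, 1, 4],
  !![5, 1, 2, 3; 2, 2, 6, 5; 0, 0, 4, 3; 0, 0, 6, 3],
  !![4, 0, 6, 4; 0, 4, 6, 6; 2, 3, 6, 3; 1, 2, 1, 6],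
  !![6, 6, 6, 5; 2, 6, 4, 6; 5, 6, 4, 5; 2, 5, 4, 4],
  !![5, 3, 4, 2; 6, 2, 4, 3; 4, 2, 5, 4; 4, 3, 1, 2],
  !![4, 5, 2, 5; 3, 3, 3, 5; 2, 5, 1, 5; 3, 5, 3, 6],
  !![6, 0, 4, 6; 0, 6, 2, 4; 4, 1, 2, 0; 5, 4, 0, 2],
  !![2, 6, 0, 0; 5, 5, 0, 0; 5, 4, 3, 4; 1, 2, 1, 4],
  !![3, 0, 0, 0; 0, 3, 0, 0; 1, 2, 5, 0; 3, 1, 0, 5],
  !![6, 4, 2, 1; 1, 1, 2, 5; 0, 0, 1, 6; 0, 0, 5, 6],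
  !![0, 0, 2, 3; 0, 0, 6, 5; 5, 4, 0, 0; 1, 2, 0, 0],
  !![0, 2, 2, 2; 4, 0, 4, 5; 2, 2, 3, 1; 4, 5, 2, 4],
  !![5, 2, 0, 3; 3, 5, 1, 0; 5, 6, 5, 1; 2, 5, 5, 5],
  !![3, 6, 5, 1; 5, 4, 2, 2; 1, 4, 4, 3; 1, 6, 6, 3],
  !![4, 4, 4, 0; 6, 4, 0, 4; 3, 0, 4, 3; 0, 3, 1, 4],
  !![5, 0, 6, 2; 0, 5, 3, 6; 0, 0, 3, 0; 0, 0, 0, 3],
  !![5, 1, 1, 6; 2, 2, 5, 6; 4, 2, 3, 0; 4, 3, 0, 4],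
  !![0, 1, 4, 6; 2, 0, 5, 3; 4, 6, 4, 0; 5, 3, 0, 3],
  !![6, 1, 5, 1; 5, 6, 5, 5; 6, 2, 4, 2; 3, 6, 3, 4],
  !![4, 0, 5, 4; 0, 4, 6, 5; 5, 3, 4, 0; 1, 5, 0, 4],
  !![2, 0, 0, 2; 0, 2, 3, 0; 3, 5, 1, 3; 4, 3, 1, 1],
  !![2, 6, 2, 2; 5, 5, 4, 5; 4, 3, 4, 1; 6, 3, 2, 3],
  !![4, 5, 0, 0; 3, 3, 0, 0; 4, 4, 5, 2; 1, 3, 4, 2],
  !![1, 0, 4, 6; 0, 1, 2, 4; 5, 3, 6, 0; 1, 5, 0, 6],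
  !![1, 3, 3, 4; 6, 6, 1, 4; 1, 1, 5, 4; 2, 6, 1, 2],
  !![3, 2, 1, 4; 4, 4, 1, 6; 6, 1, 3, 1; 2, 1, 2, 4],
  !![1, 0, 4, 1; 0, 1, 5, 4; 0, 6, 3, 3; 2, 0, 1, 3],
  !![2, 4, 1, 3; 1, 5, 6, 6; 4, 6, 1, 6; 5, 3, 5, 6],
  !![5, 5, 5, 0; 4, 5, 0, 5; 3, 5, 3, 2; 4, 3, 3, 3],
  !![5, 0, 0, 5; 0, 5, 4, 0; 4, 2, 6, 4; 3, 4, 6, 6],
  !![5, 1, 5, 5; 2, 2, 3, 2; 3, 4, 3, 6; 1, 4, 5, 4],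
  !![0, 5, 6, 2; 3, 0, 4, 1; 1, 3, 5, 2; 6, 6, 4, 2],
  !![2, 5, 4, 5; 4, 2, 4, 4; 2, 0, 4, 2; 0, 2, 3, 4],
  !![2, 1, 1, 3; 5, 2, 1, 1; 6, 0, 6, 6; 0, 6, 2, 6],
  !![3, 0, 4, 6; 0, 4, 5, 3; 6, 2, 0, 0; 4, 1, 0, 0],
  !![0, 0, 6, 4; 0, 0, 6, 6; 3, 5, 4, 3; 4, 3, 1, 4],
  !![0, 0, 3, 1; 0, 0, 2, 4; 1, 5, 0, 1; 3, 6, 2, 0],
  !![1, 6, 6, 0; 2, 1, 0, 6; 1, 4, 5, 1; 6, 1, 5, 5],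
  !![3, 3, 3, 0; 1, 3, 0, 3; 4, 0, 3, 4; 0, 4, 6, 3],
  !![6, 5, 3, 2; 3, 1, 4, 4; 3, 2, 4, 3; 4, 4, 6, 3],
  !![3, 2, 2, 0; 3, 3, 0, 2; 4, 2, 5, 5; 3, 4, 4, 5],
  !![5, 4, 2, 6; 1, 2, 5, 5; 4, 2, 2, 5; 4, 3, 3, 5],
  !![1, 0, 2, 3; 0, 6, 6, 5; 2, 3, 0, 3; 6, 5, 6, 0],
  !![1, 4, 6, 4; 6, 1, 6, 6; 2, 3, 3, 0; 1, 2, 0, 3],
  !![3, 0, 1, 3; 0, 3, 1, 1; 5, 4, 1, 4; 6, 5, 6, 1],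
  !![3, 2, 4, 6; 4, 4, 5, 3; 2, 5, 2, 4; 3, 5, 1, 5],
  !![2, 0, 5, 4; 0, 5, 1, 2; 5, 4, 0, 5; 1, 2, 3, 0],
  !![0, 0, 5, 1; 0, 0, 5, 5; 5, 6, 6, 0; 2, 5, 0, 6],
  !![3, 2, 0, 0; 4, 4, 0, 0; 3, 3, 2, 5; 6, 4, 3, 5],
  !![0, 2, 6, 4; 4, 0, 1, 1; 1, 5, 2, 5; 3, 6, 3, 5],
  !![1, 3, 2, 5; 6, 6, 3, 5; 6, 2, 6, 0; 4, 1, 0, 1],
  !![5, 0, 4, 6; 0, 5, 2, 4; 4, 1, 1, 0; 5, 4, 0, 1],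
  !![6, 6, 6, 4; 2, 6, 6, 6; 1, 0, 2, 1; 0, 1, 5, 2],
  !![5, 3, 3, 1; 6, 2, 2, 4; 6, 4, 6, 1; 1, 1, 2, 1],
  !![3, 1, 2, 2; 2, 4, 4, 5; 4, 5, 6, 1; 3, 3, 2, 1],
  !![2, 6, 0, 3; 2, 2, 1, 0; 5, 6, 2, 5; 2, 5, 4, 2],
  !![0, 0, 2, 6; 0, 0, 2, 2; 2, 1, 1, 0; 5, 2, 0, 1],
  !![6, 5, 2, 1; 3, 1, 2, 5; 5, 4, 5, 0; 1, 2, 0, 2],
  !![1, 3, 5, 6; 6, 6, 5, 2; 0, 0, 6, 1; 0, 0, 2, 1],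
  !![0, 4, 5, 1; 1, 0, 2, 2; 5, 1, 2, 5; 2, 2, 3, 5],
  !![3, 5, 5, 1; 4, 3, 5, 5; 6, 2, 1, 6; 3, 6, 2, 1],
  !![2, 6, 6, 1; 5, 5, 2, 1; 3, 5, 4, 0; 3, 4, 0, 3],
  !![3, 0, 5, 4; 0, 3, 6, 5; 5, 3, 3, 0; 1, 5, 0, 3],
  !![6, 4, 0, 2; 6, 6, 3, 0; 3, 5, 5, 0; 4, 3, 0, 5],
  !![0, 4, 2, 3; 1, 0, 6, 5; 4, 4, 1, 2; 1, 3, 4, 6],
  !![3, 0, 6, 2; 0, 4, 4, 1; 4, 6, 0, 0; 5, 3, 0, 0],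
  !![3, 5, 4, 5; 4, 3, 4, 4; 2, 0, 5, 2; 0, 2, 3, 5],
  !![4, 3, 3, 0; 1, 4, 0, 3; 4, 0, 4, 4; 0, 4, 6, 4],
  !![0, 1, 3, 2; 2, 0, 4, 4; 1, 1, 3, 4; 2, 6, 1, 4],
  !![2, 6, 6, 0; 2, 2, 0, 6; 1, 4, 6, 1; 6, 1, 5, 6],
  !![1, 5, 6, 4; 3, 6, 1, 1; 6, 4, 1, 6; 1, 1, 5, 6],
  !![3, 6, 1, 4; 5, 4, 1, 6; 5, 1, 4, 3; 2, 2, 6, 3],
  !![4, 4, 4, 1; 6, 4, 5, 4; 0, 6, 6, 0; 2, 0, 0, 6],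
  !![1, 0, 5, 1; 0, 1, 5, 5; 5, 6, 0, 0; 2, 5, 0, 0],
  !![1, 3, 6, 2; 6, 6, 4, 1; 2, 5, 6, 0; 3, 5, 0, 1],
  !![2, 6, 4, 3; 5, 5, 6, 3; 2, 2, 4, 1; 4, 5, 2, 3],
  !![3, 0, 1, 5; 0, 3, 4, 1; 0, 0, 5, 0; 0, 0, 0, 5],
  !![4, 0, 2, 3; 0, 4, 1, 2; 2, 4, 4, 0; 6, 2, 0, 4],
  !![4, 6, 5, 5; 5, 3, 3, 2; 3, 2, 1, 6; 4, 4, 5, 6],
  !![2, 3, 5, 1; 6, 5, 2, 2; 3, 5, 5, 2; 3, 4, 4, 2],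
  !![6, 4, 4, 0; 6, 6, 0, 4; 4, 2, 1, 3; 3, 4, 1, 1],
  !![6, 2, 2, 1; 4, 1, 2, 5; 4, 4, 6, 2; 1, 3, 4, 1],
  !![4, 5, 1, 2; 4, 4, 3, 1; 2, 1, 6, 6; 5, 2, 2, 6],
  !![5, 0, 0, 0; 0, 5, 0, 0; 6, 5, 3, 0; 4, 6, 0, 3],
  !![5, 1, 0, 0; 2, 2, 0, 0; 2, 3, 4, 3; 6, 5, 6, 3],
  !![3, 0, 0, 3; 0, 3, 1, 0; 0, 4, 4, 0; 6, 0, 0, 4],
  !![2, 0, 3, 1; 0, 2, 5, 3; 3, 6, 6, 0; 2, 3, 0, 6],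
  !![3, 2, 2, 5; 4, 4, 3, 5; 4, 6, 2, 4; 5, 3, 1, 5],
  !![5, 1, 0, 4; 5, 5, 6, 0; 2, 1, 5, 2; 5, 2, 3, 5],
  !![2, 1, 6, 4; 5, 2, 6, 6; 4, 6, 5, 6; 2, 4, 2, 5],
  !![3, 0, 3, 1; 0, 4, 2, 4; 3, 1, 0, 6; 2, 4, 5, 0],
  !![5, 1, 4, 2; 2, 2, 4, 3; 1, 6, 3, 0; 5, 6, 0, 4],
  !![4, 0, 2, 4; 0, 4, 6, 2; 6, 3, 6, 4; 1, 6, 6, 6],
  !![6, 5, 5, 4; 3, 1, 1, 2; 2, 1, 5, 0; 2, 5, 0, 2],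
  !![4, 5, 5, 2; 3, 3, 4, 2; 3, 1, 5, 3; 2, 4, 6, 2],
  !![1, 6, 2, 6; 2, 1, 2, 2; 1, 5, 3, 5; 4, 1, 4, 3],
  !![6, 1, 1, 0; 5, 6, 0, 1; 6, 3, 2, 6; 1, 6, 2, 2],
  !![3, 2, 0, 1; 3, 3, 5, 0; 2, 1, 4, 5; 5, 2, 4, 4],
  !![3, 2, 6, 1; 4, 4, 2, 1; 1, 4, 3, 1; 1, 6, 2, 4],
  !![5, 0, 4, 5; 0, 5, 4, 4; 0, 2, 6, 3; 3, 0, 1, 6],
  !![5, 2, 3, 2; 3, 5, 3, 3; 5, 0, 3, 5; 0, 5, 4, 3],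
  !![0, 3, 5, 4; 6, 0, 1, 2; 3, 3, 6, 5; 6, 4, 3, 1],
  !![2, 0, 3, 2; 0, 2, 3, 3; 0, 5, 1, 4; 4, 0, 6, 1],
  !![2, 6, 5, 4; 5, 5, 1, 2; 0, 0, 3, 4; 0, 0, 1, 4],
  !![5, 0, 6, 5; 0, 5, 4, 6; 6, 2, 2, 0; 3, 6, 0, 2],
  !![1, 4, 3, 2; 6, 1, 3, 3; 3, 0, 6, 3; 0, 3, 1, 6],
  !![4, 2, 2, 6; 3, 4, 2, 2; 1, 5, 6, 1; 4, 1, 5, 6],
  !![6, 0, 1, 5; 0, 1, 3, 6; 6, 2, 0, 5; 4, 1, 3, 0],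
  !![5, 6, 2, 6; 2, 5, 2, 2; 0, 3, 5, 5; 1, 0, 4, 5],
  !![1, 3, 1, 1; 6, 6, 2, 6; 3, 4, 5, 4; 1, 4, 1, 2],
  !![6, 4, 1, 5; 1, 1, 3, 6; 5, 2, 1, 0; 4, 2, 0, 6],
  !![3, 0, 5, 3; 0, 3, 1, 5; 1, 4, 1, 3; 6, 1, 1, 1],
  !![5, 0, 5, 4; 0, 2, 1, 2; 3, 1, 0, 3; 2, 4, 6, 0],
  !![0, 4, 4, 4; 1, 0, 1, 3; 2, 3, 1, 2; 6, 5, 4, 6],
  !![3, 4, 0, 6; 6, 3, 2, 0; 3, 1, 1, 0; 5, 3, 0, 1],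
  !![1, 2, 5, 6; 4, 6, 5, 2; 2, 3, 2, 0; 6, 5, 0, 5],
  !![2, 5, 0, 4; 4, 2, 6, 0; 2, 1, 2, 6; 5, 2, 2, 2],
  !![1, 3, 0, 0; 6, 6, 0, 0; 5, 6, 6, 1; 5, 2, 2, 1],
  !![2, 3, 6, 6; 6, 5, 5, 1; 6, 6, 5, 3; 5, 1, 6, 2],
  !![4, 6, 6, 3; 5, 3, 6, 1; 6, 3, 1, 0; 6, 1, 0, 6],
  !![5, 1, 3, 6; 5, 5, 2, 3; 1, 4, 2, 6; 6, 1, 2, 2],
  !![4, 3, 1, 3; 1, 4, 1, 1; 4, 2, 0, 0; 3, 4, 0, 0],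
  !![3, 2, 3, 3; 4, 4, 6, 4; 0, 0, 2, 5; 0, 0, 3, 5],
  !![1, 0, 0, 1; 0, 1, 5, 0; 4, 6, 3, 4; 2, 4, 6, 3],
  !![4, 2, 5, 1; 3, 4, 5, 5; 0, 1, 3, 5; 5, 0, 4, 3],
  !![6, 0, 6, 2; 0, 1, 4, 1; 1, 5, 0, 5; 3, 6, 3, 0],
  !![5, 0, 3, 1; 0, 2, 2, 4; 5, 4, 0, 3; 1, 2, 6, 0],
  !![4, 4, 4, 5; 6, 4, 4, 4; 1, 4, 0, 0; 6, 1, 0, 0],
  !![3, 2, 6, 5; 3, 3, 4, 6; 5, 6, 1, 1; 2, 5, 5, 1],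
  !![5, 4, 4, 2; 1, 2, 4, 3; 2, 6, 2, 5; 5, 5, 3, 5],
  !![1, 6, 0, 2; 2, 1, 3, 0; 1, 0, 6, 1; 0, 1, 5, 6],
  !![0, 0, 5, 4; 0, 0, 1, 2; 2, 3, 0, 0; 6, 5, 0, 0],
  !![0, 0, 1, 3; 0, 0, 1, 1; 4, 2, 3, 4; 3, 4, 6, 3],
  !![4, 0, 4, 6; 0, 3, 5, 3; 4, 6, 0, 1; 5, 3, 2, 0],
  !![2, 1, 5, 1; 5, 2, 5, 5; 0, 4, 2, 2; 6, 0, 3, 2],
  !![1, 2, 2, 3; 4, 6, 6, 5; 5, 6, 2, 0; 5, 2, 0, 5],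
  !![5, 1, 6, 1; 2, 2, 2, 1; 6, 1, 6, 5; 2, 1, 3, 1],
  !![2, 5, 5, 0; 4, 2, 0, 5; 2, 3, 5, 2; 1, 2, 3, 5],
  !![2, 0, 1, 2; 0, 2, 3, 1; 1, 5, 5, 0; 4, 1, 0, 5],
  !![4, 5, 3, 1; 3, 3, 2, 4; 5, 2, 5, 3; 4, 2, 6, 2],
  !![2, 4, 4, 6; 1, 5, 5, 3; 1, 3, 1, 6; 6, 6, 5, 6],
  !![6, 3, 4, 5; 1, 6, 4, 4; 4, 0, 1, 4; 0, 4, 6, 1],
  !![6, 4, 6, 6; 1, 1, 5, 1; 4, 3, 2, 3; 6, 3, 6, 5],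
  !![0, 5, 1, 3; 3, 0, 6, 6; 6, 2, 5, 2; 4, 1, 4, 2],
  !![6, 4, 3, 4; 1, 1, 1, 4; 3, 4, 2, 0; 1, 4, 0, 5],
  !![4, 5, 1, 6; 3, 3, 5, 6; 6, 3, 4, 6; 6, 1, 5, 3],
  !![6, 0, 2, 3; 0, 6, 1, 2; 3, 6, 1, 0; 2, 3, 0, 1],
  !![5, 5, 5, 3; 4, 5, 1, 5; 2, 0, 2, 2; 0, 2, 3, 2],
  !![0, 3, 2, 6; 6, 0, 5, 5; 2, 6, 5, 2; 5, 5, 4, 2],
  !![2, 0, 6, 2; 0, 2, 3, 6; 6, 5, 5, 0; 4, 6, 0, 5],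
  !![6, 6, 6, 0; 2, 6, 0, 6; 0, 2, 1, 1; 3, 0, 5, 1],
  !![5, 3, 6, 4; 6, 2, 1, 1; 3, 1, 6, 1; 2, 4, 2, 1],
  !![1, 2, 4, 5; 4, 6, 3, 3; 4, 5, 3, 4; 3, 3, 1, 4],
  !![1, 3, 3, 0; 1, 1, 0, 3; 3, 5, 6, 4; 4, 3, 6, 6],
  !![0, 3, 3, 3; 6, 0, 6, 4; 5, 4, 6, 5; 1, 2, 3, 1],
  !![1, 1, 1, 0; 5, 1, 0, 1; 0, 5, 6, 6; 4, 0, 2, 6],
  !![0, 0, 4, 6; 0, 0, 5, 3; 6, 2, 0, 6; 4, 1, 5, 0],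
  !![3, 1, 4, 5; 2, 4, 3, 3; 2, 2, 6, 1; 4, 5, 2, 1],
  !![5, 0, 1, 5; 0, 5, 4, 1; 1, 2, 2, 0; 3, 1, 0, 2],
  !![2, 2, 2, 4; 3, 2, 6, 2; 5, 0, 5, 5; 0, 5, 4, 5],
  !![4, 6, 3, 2; 5, 3, 4, 4; 5, 5, 1, 6; 3, 2, 5, 6],
  !![2, 3, 3, 5; 6, 5, 3, 4; 5, 1, 5, 2; 2, 2, 4, 2],
  !![1, 0, 5, 4; 0, 1, 6, 5; 4, 1, 6, 0; 5, 4, 0, 6],
  !![6, 4, 5, 2; 1, 1, 4, 2; 1, 5, 1, 0; 3, 6, 0, 6],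
  !![4, 0, 0, 4; 0, 4, 6, 0; 0, 3, 3, 0; 1, 0, 0, 3],
  !![0, 2, 1, 5; 4, 0, 3, 6; 6, 4, 2, 5; 1, 1, 3, 5],
  !![2, 2, 2, 6; 3, 2, 2, 2; 0, 3, 2, 1; 1, 0, 5, 2],
  !![0, 6, 6, 6; 5, 0, 5, 1; 4, 5, 4, 3; 3, 3, 6, 3],
  !![1, 1, 1, 2; 5, 1, 3, 1; 2, 1, 3, 2; 5, 2, 3, 3],
  !![2, 4, 3, 5; 1, 5, 3, 4; 3, 5, 2, 3; 3, 4, 6, 5],
  !![3, 2, 5, 2; 4, 4, 4, 2; 5, 2, 6, 2; 4, 2, 4, 1],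
  !![1, 0, 3, 1; 0, 1, 5, 3; 3, 6, 5, 0; 2, 3, 0, 5],
  !![4, 0, 0, 0; 0, 4, 0, 0; 6, 5, 2, 0; 4, 6, 0, 2],
  !![0, 5, 5, 5; 3, 0, 3, 2; 5, 5, 4, 6; 3, 2, 5, 3],
  !![4, 1, 2, 6; 2, 3, 5, 5; 6, 3, 3, 4; 6, 1, 1, 4],
  !![2, 0, 1, 5; 0, 2, 4, 1; 0, 0, 4, 0; 0, 0, 0, 4],
  !![3, 0, 2, 3; 0, 3, 1, 2; 2, 4, 3, 0; 6, 2, 0, 3],
  !![6, 3, 3, 2; 1, 6, 3, 3; 0, 5, 5, 0; 4, 0, 0, 5],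
  !![1, 5, 3, 3; 3, 6, 6, 4; 5, 6, 1, 5; 5, 2, 3, 6],
  !![1, 3, 4, 3; 6, 6, 6, 3; 4, 3, 5, 0; 6, 3, 0, 2],
  !![4, 5, 0, 6; 4, 4, 2, 0; 5, 6, 3, 2; 2, 5, 3, 3],
  !![1, 0, 6, 2; 0, 6, 4, 1; 1, 5, 0, 2; 3, 6, 4, 0],
  !![1, 3, 2, 4; 1, 1, 6, 2; 6, 3, 3, 0; 1, 6, 0, 3],
  !![6, 4, 5, 3; 6, 6, 1, 5; 1, 4, 4, 0; 6, 1, 0, 4],
  !![2, 0, 2, 3; 0, 5, 6, 5; 4, 6, 0, 4; 5, 3, 1, 0],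
  !![5, 6, 1, 3; 2, 5, 1, 1; 3, 1, 2, 1; 5, 3, 5, 2],
  !![6, 0, 2, 6; 0, 6, 2, 2; 2, 1, 0, 0; 5, 2, 0, 0],
  !![2, 6, 1, 6; 5, 5, 5, 6; 1, 6, 1, 2; 5, 6, 4, 6],
  !![5, 1, 3, 4; 2, 2, 1, 4; 5, 5, 3, 6; 3, 2, 5, 4],
  !![1, 4, 4, 5; 6, 1, 4, 4; 0, 2, 2, 0; 3, 0, 0, 2],
  !![5, 0, 2, 3; 0, 2, 6, 5; 2, 3, 0, 2; 6, 5, 4, 0],
  !![2, 6, 3, 5; 5, 5, 3, 4; 6, 1, 4, 0; 2, 1, 0, 3],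
  !![6, 0, 5, 4; 0, 1, 1, 2; 5, 4, 0, 4; 1, 2, 1, 0],
  !![2, 2, 2, 0; 3, 2, 0, 2; 4, 2, 4, 5; 3, 4, 4, 4],
  !![5, 6, 6, 4; 2, 5, 6, 6; 1, 0, 1, 1; 0, 1, 5, 1],
  !![4, 0, 3, 1; 0, 3, 2, 4; 1, 5, 0, 0; 3, 6, 0, 0],
  !![4, 5, 5, 0; 4, 4, 0, 5; 3, 5, 2, 2; 4, 3, 3, 2],
  !![1, 1, 1, 3; 5, 1, 1, 1; 6, 0, 5, 6; 0, 6, 2, 5],
  !![5, 2, 2, 0; 3, 5, 0, 2; 5, 4, 2, 5; 6, 5, 4, 2],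
  !![2, 0, 0, 0; 0, 2, 0, 0; 1, 2, 4, 0; 3, 1, 0, 4],
  !![6, 2, 4, 4; 4, 1, 1, 3; 2, 1, 6, 2; 2, 5, 4, 1],
  !![6, 1, 0, 5; 5, 6, 4, 0; 6, 0, 1, 6; 0, 6, 2, 1],
  !![4, 0, 6, 2; 0, 4, 3, 6; 0, 0, 2, 0; 0, 0, 0, 2],
  !![1, 5, 5, 6; 3, 6, 5, 2; 3, 3, 1, 5; 6, 4, 3, 6]]

/-- the order of `elt i` -/
def ordTab : Fin 240 → ℕ := ![1, 8, 10, 4, 8, 8, 5, 8, 3, 3, 12, 3, 12, 12, 10, 2, 12, 12, 5, 12, 4, 5, 4, 12, 5, 4, 4, 5, 4, 4, 5, 8, 5, 5, 4, 5, 12, 4, 5, 5, 12, 12, 6, 4, 6, 12, 4, 12, 5, 12, 6, 6, 12, 4, 5, 6, 5, 12, 12, 4, 8, 8, 10, 8, 6, 10, 12, 8, 3, 6, 8, 10, 8, 3, 3, 8, 6, 8, 8, 10, 10, 8, 8, 3, 12, 8, 8, 3, 6, 8, 8, 10, 6, 8, 12, 8, 10, 12, 3, 10, 8, 8, 6, 6, 12, 6, 12, 12, 5, 6, 8, 12, 6, 6, 8, 8, 4, 12, 5, 6, 4, 4, 6, 8, 5, 4, 4, 12, 5,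 8, 8, 10, 6, 4, 8, 10, 6, 8, 5, 4, 4, 4, 5, 4, 5, 8, 8, 10, 4, 8, 10, 8, 10, 12, 12, 12, 4, 10, 12, 10, 4, 4, 4, 10, 10, 8, 4, 4, 5, 4, 10, 8, 8, 4, 4, 8, 8, 4, 8, 8, 8, 8, 4, 4, 8, 4, 4, 8, 8, 4, 8, 4, 8, 8, 4, 4, 8, 8, 4, 8, 4, 8, 10, 12, 10, 12, 12, 3, 3, 12, 12, 3, 3, 10, 12, 8, 4, 4, 10, 5, 4, 4, 3, 8, 12, 5, 8, 12, 8, 3, 3, 8, 3, 3, 4, 3, 12, 4, 3, 12]

/-- `matA * elt i = elt (tabA i)` -/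
def tabA : Fin 240 → Fin 240 := ![1, 3, 5, 7, 9, 11, 13, 15, 17, 19, 21, 23, 25, 27, 29, 31, 33, 35, 37, 39, 41, 43, 6, 32, 47, 49, 51, 53, 55, 56, 58, 59, 61, 63, 65, 67, 69, 71, 10, 60, 74, 76, 78, 80, 82, 83, 44, 73, 86, 88, 90, 72, 14, 62, 95, 70, 97, 99, 68, 101, 103, 105, 107, 109, 111, 52, 18, 102, 115, 117, 119, 57, 122, 123, 114, 125, 127, 30, 113, 22, 104, 133, 112, 110, 136, 138, 140, 26, 106, 142, 144, 145, 146, 147, 92, 141, 149, 108, 126, 139, 152, 0, 154, 155, 157, 158, 160, 79, 34, 153, 164, 166, 167, 169, 170, 163, 172, 173, 45, 162, 38, 176, 161, 159, 178, 179, 42, 156, 181, 183, 24, 184, 130, 180, 186, 188, 77, 48, 75, 168, 100, 193, 190, 194, 40, 189, 118, 134, 182, 200, 201, 128, 199, 202, 150, 204, 206, 120, 2, 209, 210,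 211, 212, 84, 94, 213, 214, 208, 66, 207, 205, 195, 91, 203, 137, 216, 96, 196, 116, 135, 218, 191, 143, 197, 177, 148, 151, 222, 221, 223, 121, 93, 87, 131, 220, 165, 54, 225, 217, 174, 89, 8, 187, 230, 4, 50, 232, 228, 226, 132, 233, 192, 231, 129, 229, 219, 215, 185, 175, 81, 198, 85, 16, 124, 237, 171, 238, 20, 98, 224, 239, 235, 227, 12, 36, 28, 64, 236, 46, 234]

/-- `matB * elt i = elt (tabB i)` -/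
def tabB : Fin 240 → Fin 240 := ![2, 4, 6, 8, 10, 12, 14, 16, 18, 20, 22, 24, 26, 28, 30, 32, 34, 36, 38, 40, 42, 44, 45, 46, 48, 50, 52, 54, 41, 57, 15, 60, 62, 64, 66, 68, 70, 72, 73, 51, 75, 77, 79, 81, 69, 31, 84, 85, 87, 89, 91, 92, 93, 94, 9, 96, 98, 90, 100, 102, 104, 106, 108, 110, 112, 113, 114, 78, 116, 118, 120, 121, 111, 59, 124, 126, 128, 129, 130, 131, 132, 17, 134, 135, 137, 139, 127, 141, 76, 143, 7, 65, 138, 61, 1, 148, 150, 151, 25, 80, 149, 153, 99, 156, 53, 159, 161, 162, 163, 119, 165, 47, 168, 160, 101, 171, 55, 95, 174, 144, 175, 33, 177, 145, 56, 173, 180, 117, 182, 107, 178, 103, 3, 185, 187, 186, 189, 190, 191, 192, 21, 105, 35, 172, 195, 196, 197, 198, 199, 23, 136, 5, 122, 29, 203, 205, 207, 208, 167, 152, 74, 97,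 206, 0, 140, 82, 133, 58, 200, 215, 183, 13, 214, 166, 157, 154, 217, 11, 193, 37, 155, 63, 213, 219, 220, 221, 39, 146, 169, 212, 158, 204, 224, 201, 125, 218, 67, 226, 225, 227, 202, 228, 229, 231, 211, 188, 115, 27, 230, 179, 176, 83, 142, 233, 210, 19, 194, 223, 222, 109, 86, 234, 235, 236, 209, 88, 181, 239, 123, 238, 164, 43, 147, 232, 237, 170, 49, 216, 71, 184]

/-- `matAi * elt i = elt (tabAi i)` -/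
def tabAi : Fin 240 → Fin 240 := ![101, 0, 158, 1, 204, 2, 22, 3, 201, 4, 38, 5, 233, 6, 52, 7, 222, 8, 66, 9, 227, 10, 79, 11, 130, 12, 87, 13, 235, 14, 77, 15, 23, 16, 108, 17, 234, 18, 120, 19, 144, 20, 126, 21, 46, 118, 238, 24, 137, 25, 205, 26, 65, 27, 196, 28, 29, 71, 30, 31, 39, 32, 53, 33, 236, 34, 168, 35, 58, 36, 55, 37, 51, 47, 40, 138, 41, 136, 42, 107, 43, 219, 44, 45, 163, 221, 48, 192, 49, 200, 50, 172, 94, 191, 164, 54, 176, 56, 228, 57, 140, 59, 67, 60, 80, 61, 88, 62, 97, 63, 83, 64, 82, 78, 74, 68, 178, 69, 146, 70, 157, 190, 72, 73, 223, 75, 98, 76, 151, 213, 132, 193, 209, 81, 147, 179, 84, 174, 85, 99, 86, 95, 89, 182, 90, 91, 92, 93, 185, 96, 154, 186, 100, 109, 102, 103, 127, 104, 105, 123, 106, 122, 119, 115, 110,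 195, 111, 112, 139, 113, 114, 225, 116, 117, 199, 218, 121, 184, 124, 125, 133, 128, 148, 129, 131, 217, 134, 202, 135, 145, 142, 181, 211, 141, 143, 171, 177, 183, 220, 152, 149, 150, 153, 173, 155, 170, 156, 169, 167, 159, 160, 161, 162, 165, 166, 216, 175, 198, 180, 215, 194, 188, 187, 189, 229, 197, 208, 232, 207, 214, 203, 212, 206, 210, 239, 231, 237, 224, 226, 230]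

/-- `matBi * elt i = elt (tabBi i)` -/
def tabBi : Fin 240 → Fin 240 := ![163, 94, 0, 132, 1, 151, 2, 90, 3, 54, 4, 177, 5, 171, 6, 30, 7, 81, 8, 215, 9, 140, 10, 149, 11, 98, 12, 207, 13, 153, 14, 45, 15, 121, 16, 142, 17, 179, 18, 186, 19, 28, 20, 231, 21, 22, 23, 111, 24, 236, 25, 39, 26, 104, 27, 116, 124, 29, 167, 73, 31, 93, 32, 181, 33, 91, 34, 196, 35, 44, 36, 238, 37, 38, 160, 40, 88, 41, 67, 42, 99, 43, 165, 211, 46, 47, 220, 48, 225, 49, 57, 50, 51, 52, 53, 117, 55, 161, 56, 102, 58, 114, 59, 131, 60, 141, 61, 129, 62, 219, 63, 72, 64, 65, 66, 206, 68, 127, 69, 109, 70, 71, 152, 228, 74, 194, 75, 86, 76, 77, 78, 79, 80, 166, 82, 83, 150, 84, 92, 85, 164, 87, 212, 89, 119, 123, 187, 232, 95, 100, 96, 97, 159, 101, 175, 180, 103,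 174, 190, 105, 113, 106, 107, 108, 230, 110, 173, 158, 112, 188, 235, 115, 143, 125, 118, 120, 210, 122, 130, 209, 126, 226, 128, 170, 239, 133, 135, 134, 205, 136, 137, 138, 139, 178, 216, 144, 145, 146, 147, 148, 168, 193, 200, 154, 191, 155, 162, 156, 157, 224, 214, 204, 189, 182, 172, 169, 237, 176, 195, 183, 184, 185, 218, 217, 192, 198, 197, 199, 201, 202, 208, 203, 233, 213, 221, 222, 223, 234, 229, 227]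

/-! ## the group `K` -/

theorem matA_mul_matAi : matA * matAi = 1 := by decide
theorem matAi_mul_matA : matAi * matA = 1 := by decide
theorem matB_mul_matBi : matB * matBi = 1 := by decide
theorem matBi_mul_matB : matBi * matB = 1 := by decide

/-- the generator `a` as an element of `GL₄(7)` -/
def gA : GL4 := ⟨matA, matAi, matA_mul_matAi, matAi_mul_matA⟩

/-- the generator `b` as an element of `GL₄(7)` -/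
def gB : GL4 := ⟨matB, matBi, matB_mul_matBi, matBi_mul_matB⟩

/-- `K = ⟨a, b⟩ ≅ 2.S₅⁻` -/
def K : Subgroup GL4 := Subgroup.closure {gA, gB}

/-- the cyclotomic polynomial `Φ_m` (for the element orders `m` of `K`) evaluated at a matrix -/
def cyc (m : ℕ) (M : M4) : M4 :=
  if m = 1 then M - 1
  else if m = 2 then M + 1
  else if m = 3 then M ^ 2 + M + 1
  else if m = 4 then M ^ 2 + 1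
  else if m = 5 then M ^ 4 + M ^ 3 + M ^ 2 + M + 1
  else if m = 6 then M ^ 2 - M + 1
  else if m = 8 then M ^ 4 + 1
  else if m = 10 then M ^ 4 - M ^ 3 + M ^ 2 - M + 1
  else if m = 12 then M ^ 4 - M ^ 2 + 1
  else 1

/-- the element orders of `K` -/
def orders : Finset ℕ := {1, 2, 3, 4, 5, 6, 8, 10, 12}

/-- the spectrum of `A₁₀` -/
def spec : Set ℕ := {1, 2, 3, 4, 5, 6, 7, 8, 9, 10, 12, 15, 21}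

/-! ## the modules -/

/-- `GL₄(7)` acts on `V` -/
def actV (g : GL4) : V ≃+ V where
  toFun := fun v => (g : M4).mulVec v
  invFun := fun v => ((g⁻¹ : GL4) : M4).mulVec v
  left_inv := fun v => by
    show ((g⁻¹ : GL4) : M4).mulVec ((g : M4).mulVec v) = v
    rw [Matrix.mulVec_mulVec, ← Units.val_mul, inv_mul_cancel, Units.val_one, Matrix.one_mulVec]
  right_inv := fun v => by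
    show (g : M4).mulVec (((g⁻¹ : GL4) : M4).mulVec v) = v
    rw [Matrix.mulVec_mulVec, ← Units.val_mul, mul_inv_cancel, Units.val_one, Matrix.one_mulVec]
  map_add' := fun v w => Matrix.mulVec_add _ v w

theorem actV_apply (g : GL4) (v : V) : actV g v = (g : M4).mulVec v := rfl

theorem actV_one (v : V) : actV 1 v = v := by
  rw [actV_apply, Units.val_one, Matrix.one_mulVec]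

theorem actV_mul (g h : GL4) (v : V) : actV (g * h) v = actV g (actV h v) := by
  rw [actV_apply, actV_apply, actV_apply, Units.val_mul, Matrix.mulVec_mulVec]

/-- the odd functions `V → F₃` -/
def Qodd : AddSubgroup (V → ZMod 3) where
  carrier := {f | ∀ v, f (-v) = - f v}
  zero_mem' := fun v => by simp
  add_mem' := fun {f g} hf hg v => by
    show f (-v) + g (-v) = -(f v + g v)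
    rw [hf v, hg v, neg_add]
  neg_mem' := fun {f} hf v => by
    show -(f (-v)) = -(-(f v))
    rw [hf v]

theorem mem_Qodd {f : V → ZMod 3} : f ∈ Qodd ↔ ∀ v, f (-v) = - f v := Iff.rfl

/-- `GL₄(7)` acts on the odd functions by `(g • f) v = f (g⁻¹ v)` -/
def actQ (g : GL4) : ↥Qodd ≃+ ↥Qodd where
  toFun := fun f => ⟨fun v => f.1 (((g⁻¹ : GL4) : M4).mulVec v), fun v => by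
    show f.1 (((g⁻¹ : GL4) : M4).mulVec (-v)) = - f.1 (((g⁻¹ : GL4) : M4).mulVec v)
    rw [Matrix.mulVec_neg]; exact f.2 _⟩
  invFun := fun f => ⟨fun v => f.1 ((g : M4).mulVec v), fun v => by
    show f.1 ((g : M4).mulVec (-v)) = - f.1 ((g : M4).mulVec v)
    rw [Matrix.mulVec_neg]; exact f.2 _⟩
  left_inv := fun f => by
    apply Subtype.ext
    funext v
    show f.1 (((g⁻¹ : GL4) : M4).mulVec ((g : M4).mulVec v)) = f.1 v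
    rw [Matrix.mulVec_mulVec, ← Units.val_mul, inv_mul_cancel, Units.val_one, Matrix.one_mulVec]
  right_inv := fun f => by
    apply Subtype.ext
    funext v
    show f.1 ((g : M4).mulVec (((g⁻¹ : GL4) : M4).mulVec v)) = f.1 v
    rw [Matrix.mulVec_mulVec, ← Units.val_mul, mul_inv_cancel, Units.val_one, Matrix.one_mulVec]
  map_add' := fun f g' => by
    apply Subtype.ext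
    funext v
    rfl

theorem actQ_apply (g : GL4) (f : ↥Qodd) (v : V) :
    (actQ g f).1 v = f.1 (((g⁻¹ : GL4) : M4).mulVec v) := rfl

theorem actQ_one (f : ↥Qodd) : actQ 1 f = f := by
  apply Subtype.ext
  funext v
  rw [actQ_apply, inv_one, Units.val_one, Matrix.one_mulVec]

theorem actQ_mul (g h : GL4) (f : ↥Qodd) : actQ (g * h) f = actQ g (actQ h f) := by
  apply Subtype.ext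
  funext v
  rw [actQ_apply, actQ_apply, actQ_apply, _root_.mul_inv_rev, Units.val_mul, Matrix.mulVec_mulVec]

/-- the normal subgroup `N = V × Qodd` (additively) -/
abbrev Nn := V × ↥Qodd

/-- `GL₄(7)` acts on `N` -/
def actN (g : GL4) : Nn ≃+ Nn := AddEquiv.prodCongr (actV g) (actQ g)

theorem actN_apply (g : GL4) (x : Nn) : actN g x = (actV g x.1, actQ g x.2) := rfl

theorem actN_one (x : Nn) : actN 1 x = x := by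
  rw [actN_apply, actV_one, actQ_one]

theorem actN_mul (g h : GL4) (x : Nn) : actN (g * h) x = actN g (actN h x) := by
  rw [actN_apply, actN_apply, actN_apply, actV_mul, actQ_mul]

/-- the action of `K` on `Multiplicative N` -/
def phi : ↥K →* MulAut (Multiplicative Nn) where
  toFun k := AddEquiv.toMultiplicative (actN (k : GL4))
  map_one' := by
    ext x : 1
    show Multiplicative.ofAdd ((actN ((1 : ↥K) : GL4)) (Multiplicative.toAdd x)) = x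
    rw [Subgroup.coe_one, actN_one]; rfl
  map_mul' k l := by
    ext x : 1
    show Multiplicative.ofAdd ((actN ((k * l : ↥K) : GL4)) (Multiplicative.toAdd x)) =
      Multiplicative.ofAdd ((actN (k : GL4)) ((actN (l : GL4)) (Multiplicative.toAdd x)))
    rw [Subgroup.coe_mul, actN_mul]

theorem phi_apply (k : ↥K) (x : Multiplicative Nn) :
    phi k x = Multiplicative.ofAdd (actN (k : GL4) (Multiplicative.toAdd x)) := rfl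

/-- the group `G0 = (V × Qodd) ⋊ K` -/
abbrev G0 := Multiplicative Nn ⋊[phi] ↥K

end Cfsg.Agent.Lib.Helper05.A10Iso
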