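import Mathlib
import Cfsg.Agent.Lib.Helper05.A10Defs

/-!
# K-A10-B3 (keystone 348905): the table check `Phi_m(elt i) = 0` (parallel hand by the architect)
-/

set_option autoImplicit false

namespace Cfsg.Agent.Lib.Helper05.A10Iso

open Matrix

theorem cyc_elt : ∀ i : Fin 240, ordTab i ∈ orders ∧ cyc (ordTab i) (elt i) = 0 := by
  decide +kernel

end Cfsg.Agent.Lib.Helper05.A10Iso
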