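import Mathlib
import Cfsg.Agent.Lib.Helper05.A10Defs

/-!
# Glue for the pack K-A10 (S3489): the spectrum of `G0`, in hypothesis form over the leaves.
-/

set_option autoImplicit false

namespace Cfsg.Agent.Lib.Helper05.A10Iso

open Matrix

/-- the leaf statements, bundled -/
structure Leaves : Prop where
  hK : ∀ k ∈ K, ∃ m ∈ orders, cyc m ((k : GL4) : M4) = 0
  hW : ∀ m ∈ orders, ∃ k ∈ K, cyc m ((k : GL4) : M4) = 0
  hC1 : ∀ (g : GL4) (m : ℕ), m ∈ orders → cyc m (g : M4) = 0 → orderOf g = m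
  hC2 : ∀ (M : M4) (m : ℕ), m ∈ orders → m ≠ 1 → cyc m M = 0 → ∑ i ∈ Finset.range m, M ^ i = 0
  hC3 : ∀ (M : M4) (m : ℕ), m ∈ orders → Even m → cyc m M = 0 → M ^ (m / 2) = -1
  hC4 : ∀ (M : M4) (m : ℕ), m ∈ orders → m ≠ 1 → cyc m M = 0 → ∀ v : V, M.mulVec v = v → v = 0
  hD1 : ∀ (k : GL4) (h : ℕ), ((k ^ h : GL4) : M4) = -1 → ∀ f : ↥Qodd,
    ∑ i ∈ Finset.range (2 * h), actQ (k ^ i) f = 0
  hD2 : ∀ (k : GL4) (m : ℕ), 0 < m →
    (∀ i : ℕ, 0 < i → i < m → ∀ v : V, v ≠ 0 →
      ((k ^ i : GL4) : M4).mulVec v ≠ v ∧ ((k ^ i : GL4) : M4).mulVec v ≠ -v) →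
    ∃ f : ↥Qodd, ∑ i ∈ Finset.range m, actQ (k ^ i) f ≠ 0
  hE1 : ∀ (n : Multiplicative Nn) (g : ↥K),
    orderOf (⟨n, g⟩ : G0) =
      orderOf g * orderOf (∏ i ∈ Finset.range (orderOf g), phi (g ^ i) n)

/-- the norm of `n` under `k` -/
noncomputable def norm (k : ↥K) (n : Nn) : Nn :=
  ∑ i ∈ Finset.range (orderOf k), actN (((k : GL4)) ^ i) n

theorem prod_phi_eq (k : ↥K) (n : Multiplicative Nn) :
    ∏ i ∈ Finset.range (orderOf k), phi (k ^ i) n =
      Multiplicative.ofAdd (norm k (Multiplicative.toAdd n)) := by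
  unfold norm
  rw [ofAdd_sum]
  apply Finset.prod_congr rfl
  intro i _
  rw [phi_apply, Subgroup.coe_pow]

theorem orderOf_mk (L : Leaves) (n : Nn) (k : ↥K) :
    orderOf (⟨Multiplicative.ofAdd n, k⟩ : G0) = orderOf k * addOrderOf (norm k n) := by
  rw [L.hE1, prod_phi_eq, orderOf_ofAdd_eq_addOrderOf]
  rfl

theorem norm_fst (k : ↥K) (n : Nn) :
    (norm k n).1 = (∑ i ∈ Finset.range (orderOf k), (((k : GL4) : M4)) ^ i).mulVec n.1 := by
  unfold norm
  rw [Prod.fst_sum, Matrix.sum_mulVec]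
  apply Finset.sum_congr rfl
  intro i _
  rw [actN_apply, actV_apply, Units.val_pow_eq_pow_val]

theorem norm_snd (k : ↥K) (n : Nn) :
    (norm k n).2 = ∑ i ∈ Finset.range (orderOf k), actQ (((k : GL4)) ^ i) n.2 := by
  unfold norm
  rw [Prod.snd_sum]
  rfl

theorem seven_nsmul_V (v : V) : 7 • v = 0 := by
  funext i
  show 7 • v i = 0
  rw [nsmul_eq_mul]
  have : ((7 : ℕ) : ZMod 7) = 0 := by decide
  rw [this, zero_mul]

theorem three_nsmul_Q (q : ↥Qodd) : 3 • q = 0 := by
  apply Subtype.ext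
  funext v
  show 3 • q.1 v = 0
  rw [nsmul_eq_mul]
  have : ((3 : ℕ) : ZMod 3) = 0 := by decide
  rw [this, zero_mul]

theorem addOrderOf_V (v : V) : addOrderOf v = 1 ∨ addOrderOf v = 7 := by
  have h : addOrderOf v ∣ 7 := addOrderOf_dvd_of_nsmul_eq_zero (seven_nsmul_V v)
  exact (Nat.dvd_prime (by norm_num)).mp h

theorem addOrderOf_Q (q : ↥Qodd) : addOrderOf q = 1 ∨ addOrderOf q = 3 := by
  have h : addOrderOf q ∣ 3 := addOrderOf_dvd_of_nsmul_eq_zero (three_nsmul_Q q)
  exact (Nat.dvd_prime (by norm_num)).mp h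

theorem addOrderOf_N (n : Nn) :
    addOrderOf n = 1 ∨ addOrderOf n = 3 ∨ addOrderOf n = 7 ∨ addOrderOf n = 21 := by
  rw [Prod.addOrderOf]
  rcases addOrderOf_V n.1 with h1 | h1 <;> rcases addOrderOf_Q n.2 with h2 | h2 <;>
    rw [h1, h2] <;> decide

theorem orderOf_coe_K (k : ↥K) : orderOf (k : GL4) = orderOf k := Subgroup.orderOf_coe k

/-- `ω(G0) ⊆ spec` -/
theorem range_subset_spec (L : Leaves) : Set.range (orderOf : G0 → ℕ) ⊆ spec := by
  rintro _ ⟨x, rfl⟩
  obtain ⟨n', k⟩ := x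
  obtain ⟨m, hm, hcyc⟩ := L.hK (k : GL4) k.2
  have hord : orderOf k = m := by rw [← orderOf_coe_K]; exact L.hC1 _ m hm hcyc
  have hx : orderOf (⟨n', k⟩ : G0) = m * addOrderOf (norm k (Multiplicative.toAdd n')) := by
    have := orderOf_mk L (Multiplicative.toAdd n') k
    rw [hord] at this
    exact this
  rw [hx]
  set n := Multiplicative.toAdd n' with hn
  by_cases hm1 : m = 1
  · subst hm1
    rw [one_mul]
    rcases addOrderOf_N (norm k n) with h | h | h | h <;> rw [h] <;> simp [spec]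
  · have hV : (norm k n).1 = 0 := by
      rw [norm_fst, hord, L.hC2 _ m hm hm1 hcyc, Matrix.zero_mulVec]
    by_cases he : Even m
    · have hQ : (norm k n).2 = 0 := by
        rw [norm_snd, hord]
        have h2 : 2 * (m / 2) = m := Nat.two_mul_div_two_of_even he
        have hpow : ((((k : GL4)) ^ (m / 2) : GL4) : M4) = -1 := by
          rw [Units.val_pow_eq_pow_val]; exact L.hC3 _ m hm he hcyc
        have := L.hD1 (k : GL4) (m / 2) hpow n.2
        rw [h2] at this
        exact this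
      have hz : norm k n = 0 := Prod.ext hV hQ
      rw [hz, addOrderOf_zero, mul_one]
      simp only [orders, Finset.mem_insert, Finset.mem_singleton] at hm
      rcases hm with rfl | rfl | rfl | rfl | rfl | rfl | rfl | rfl | rfl <;> simp [spec]
    · have hN : addOrderOf (norm k n) = addOrderOf (norm k n).2 := by
        rw [Prod.addOrderOf, hV, addOrderOf_zero, Nat.lcm_one_left]
      rw [hN]
      simp only [orders, Finset.mem_insert, Finset.mem_singleton] at hm
      rcases hm with rfl | rfl | rfl | rfl | rfl | rfl | rfl | rfl | rfl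
      · exact absurd rfl hm1
      · exact absurd (by decide) he
      · rcases addOrderOf_Q (norm k n).2 with h | h <;> rw [h] <;> simp [spec]
      · exact absurd (by decide) he
      · rcases addOrderOf_Q (norm k n).2 with h | h <;> rw [h] <;> simp [spec]
      · exact absurd (by decide) he
      · exact absurd (by decide) he
      · exact absurd (by decide) he
      · exact absurd (by decide) he


/-! ## the other inclusion -/

theorem orderOf_inr (k : ↥K) : orderOf (SemidirectProduct.inr k : G0) = orderOf k :=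
  orderOf_injective (SemidirectProduct.inr : ↥K →* G0) SemidirectProduct.inr_injective k

theorem orderOf_inl (n : Nn) :
    orderOf (SemidirectProduct.inl (Multiplicative.ofAdd n) : G0) = addOrderOf n := by
  rw [orderOf_injective (SemidirectProduct.inl : Multiplicative Nn →* G0)
    SemidirectProduct.inl_injective, orderOf_ofAdd_eq_addOrderOf]

/-- a nonzero vector -/
def v0 : V := Pi.single 0 1

theorem v0_ne_zero : v0 ≠ 0 := by
  intro h
  have := congrFun h 0
  simp only [v0, Pi.single_eq_same, Pi.zero_apply] at this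
  exact absurd this (by decide)

theorem addOrderOf_v0 : addOrderOf v0 = 7 := by
  rcases addOrderOf_V v0 with h | h
  · exact absurd (AddMonoid.addOrderOf_eq_one_iff.mp h) v0_ne_zero
  · exact h

theorem addOrderOf_Q_of_ne {q : ↥Qodd} (hq : q ≠ 0) : addOrderOf q = 3 := by
  rcases addOrderOf_Q q with h | h
  · exact absurd (AddMonoid.addOrderOf_eq_one_iff.mp h) hq
  · exact h

/-- a nonzero odd function -/
theorem exists_q_ne_zero (L : Leaves) : ∃ q : ↥Qodd, q ≠ 0 := by
  obtain ⟨f, hf⟩ := L.hD2 1 1 Nat.one_pos (fun i hi hi' => absurd hi' (by omega))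
  refine ⟨f, fun h => hf ?_⟩
  rw [h]
  simp

/-- powers of a matrix of order `m` (prime to `j`) fixing `v` -/
theorem fix_of_pow_fix {M : M4} {m j : ℕ} (hM : M ^ m = 1) (hj : Nat.Coprime j m) (hm : 1 < m)
    {v : V} (hv : (M ^ j).mulVec v = v) : M.mulVec v = v := by
  obtain ⟨a, -, ha⟩ := Nat.exists_mul_mod_eq_one_of_coprime hj hm
  have h1 : ∀ t : ℕ, ((M ^ j) ^ t).mulVec v = v := by
    intro t
    induction t with
    | zero => simp
    | succ t ih => rw [pow_succ, ← Matrix.mulVec_mulVec, hv, ih]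
  have h2 : (M ^ j) ^ a = M := by
    rw [← pow_mul]
    have h3 : j * a = m * (j * a / m) + 1 := by
      have := Nat.div_add_mod (j * a) m
      omega
    rw [h3, pow_add, pow_mul, hM, one_pow, one_mul, pow_one]
  have := h1 a
  rwa [h2] at this

/-- the fixed-point-freeness hypothesis of D2 for elements of prime order `3`, `5` -/
theorem hfix_of_cyc (L : Leaves) (g : GL4) (m : ℕ) (hm : m = 3 ∨ m = 5)
    (hcyc : cyc m (g : M4) = 0) :
    ∀ i : ℕ, 0 < i → i < m → ∀ v : V, v ≠ 0 →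
      ((g ^ i : GL4) : M4).mulVec v ≠ v ∧ ((g ^ i : GL4) : M4).mulVec v ≠ -v := by
  have hmo : m ∈ orders := by rcases hm with rfl | rfl <;> decide
  have hm1 : m ≠ 1 := by rcases hm with rfl | rfl <;> decide
  have hmp : m.Prime := by rcases hm with rfl | rfl <;> norm_num
  have hodd : ¬ 2 ∣ m := by rcases hm with rfl | rfl <;> decide
  have hord : orderOf g = m := L.hC1 g m hmo hcyc
  have hM : ((g : M4)) ^ m = 1 := by
    rw [← Units.val_pow_eq_pow_val, ← hord, pow_orderOf_eq_one, Units.val_one]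
  intro i hi him v hv
  have hcop : Nat.Coprime i m :=
    (Nat.coprime_comm.mp ((Nat.Prime.coprime_iff_not_dvd hmp).mpr
      (fun hd => absurd (Nat.le_of_dvd hi hd) (by omega))))
  rw [Units.val_pow_eq_pow_val]
  constructor
  · intro h
    exact hv (L.hC4 _ m hmo hm1 hcyc v (fix_of_pow_fix hM hcop hmp.one_lt h))
  · intro h
    have h2 : (((g : M4)) ^ (2 * i)).mulVec v = v := by
      rw [two_mul, pow_add, ← Matrix.mulVec_mulVec, h, Matrix.mulVec_neg, h, neg_neg]
    have hcop2 : Nat.Coprime (2 * i) m := by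
      apply Nat.Coprime.mul_left _ hcop
      exact (Nat.coprime_comm.mp ((Nat.Prime.coprime_iff_not_dvd hmp).mpr
        (fun hd => hodd (by
          have := Nat.le_of_dvd (by norm_num) hd
          have h2 : 2 ≤ m := hmp.two_le
          have : m = 2 := by omega
          rw [this]))))
    exact hv (L.hC4 _ m hmo hm1 hcyc v (fix_of_pow_fix hM hcop2 hmp.one_lt h2))

/-- an element of order `3 m` for `m = 3, 5` -/
theorem exists_orderOf_three_mul (L : Leaves) (m : ℕ) (hm : m = 3 ∨ m = 5) :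
    ∃ x : G0, orderOf x = m * 3 := by
  have hmo : m ∈ orders := by rcases hm with rfl | rfl <;> decide
  have hm1 : m ≠ 1 := by rcases hm with rfl | rfl <;> decide
  obtain ⟨g, hgK, hcyc⟩ := L.hW m hmo
  have hord : orderOf g = m := L.hC1 g m hmo hcyc
  have hmpos : 0 < m := by rcases hm with rfl | rfl <;> norm_num
  obtain ⟨f, hf⟩ := L.hD2 g m hmpos (hfix_of_cyc L g m hm hcyc)
  let k : ↥K := ⟨g, hgK⟩
  have hordk : orderOf k = m := by rw [← orderOf_coe_K]; exact hord
  refine ⟨(⟨Multiplicative.ofAdd ((0, f) : Nn), k⟩ : G0), ?_⟩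
  rw [orderOf_mk L, hordk]
  congr 1
  have hV : (norm k ((0, f) : Nn)).1 = 0 := by
    rw [norm_fst, hordk]
    show (∑ i ∈ Finset.range m, (g : M4) ^ i).mulVec (0 : V) = 0
    rw [Matrix.mulVec_zero]
  have hQ : (norm k ((0, f) : Nn)).2 ≠ 0 := by
    rw [norm_snd, hordk]
    exact hf
  rw [Prod.addOrderOf, hV, addOrderOf_zero, Nat.lcm_one_left]
  exact addOrderOf_Q_of_ne hQ

/-- `spec ⊆ ω(G0)` -/
theorem spec_subset_range (L : Leaves) : spec ⊆ Set.range (orderOf : G0 → ℕ) := by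
  have hK : ∀ m ∈ orders, m ∈ Set.range (orderOf : G0 → ℕ) := by
    intro m hm
    obtain ⟨g, hgK, hcyc⟩ := L.hW m hm
    refine ⟨SemidirectProduct.inr (⟨g, hgK⟩ : ↥K), ?_⟩
    rw [orderOf_inr, ← orderOf_coe_K]
    exact L.hC1 g m hm hcyc
  obtain ⟨q, hq⟩ := exists_q_ne_zero L
  intro t ht
  simp only [spec, Set.mem_insert_iff, Set.mem_singleton_iff] at ht
  rcases ht with rfl | rfl | rfl | rfl | rfl | rfl | rfl | rfl | rfl | rfl | rfl | rfl | rfl
  · exact hK 1 (by decide)
  · exact hK 2 (by decide)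
  · exact hK 3 (by decide)
  · exact hK 4 (by decide)
  · exact hK 5 (by decide)
  · exact hK 6 (by decide)
  · refine ⟨SemidirectProduct.inl (Multiplicative.ofAdd ((v0, 0) : Nn)), ?_⟩
    rw [orderOf_inl, Prod.addOrderOf]
    show Nat.lcm (addOrderOf v0) (addOrderOf (0 : ↥Qodd)) = 7
    rw [addOrderOf_v0, addOrderOf_zero]
    rfl
  · exact hK 8 (by decide)
  · obtain ⟨x, hx⟩ := exists_orderOf_three_mul L 3 (Or.inl rfl)
    exact ⟨x, hx⟩
  · exact hK 10 (by decide)
  · exact hK 12 (by decide)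
  · obtain ⟨x, hx⟩ := exists_orderOf_three_mul L 5 (Or.inr rfl)
    exact ⟨x, hx⟩
  · refine ⟨SemidirectProduct.inl (Multiplicative.ofAdd ((v0, q) : Nn)), ?_⟩
    rw [orderOf_inl, Prod.addOrderOf]
    show Nat.lcm (addOrderOf v0) (addOrderOf q) = 21
    rw [addOrderOf_v0, addOrderOf_Q_of_ne hq]
    rfl

theorem range_eq_spec (L : Leaves) : Set.range (orderOf : G0 → ℕ) = spec :=
  Set.Subset.antisymm (range_subset_spec L) (spec_subset_range L)

end Cfsg.Agent.Lib.Helper05.A10Iso
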