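import Mathlib
import Cfsg.Agent.Lib.Helper05.A10Glue
import Cfsg.Agent.S3444

/-!
# K-A10 (S3489): from the leaves to the statement (hypothesis form).
-/

set_option autoImplicit false

namespace Cfsg.Agent.Lib.Helper05.A10Iso

open Matrix

instance : Finite G0 := Finite.of_equiv _ (SemidirectProduct.equivProd (φ := phi)).symm

/-- the kernel of the projection `G0 → K` is abelian -/
theorem ker_comm (a b : (SemidirectProduct.rightHom (φ := phi)).ker) : a * b = b * a := by
  obtain ⟨a, ha⟩ := a
  obtain ⟨b, hb⟩ := b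
  rw [MonoidHom.mem_ker] at ha hb
  have ha' : a.right = 1 := ha
  have hb' : b.right = 1 := hb
  apply Subtype.ext
  show a * b = b * a
  apply SemidirectProduct.ext
  · rw [SemidirectProduct.mul_left, SemidirectProduct.mul_left, ha', hb', map_one]
    show a.left * b.left = b.left * a.left
    exact mul_comm _ _
  · rw [SemidirectProduct.mul_right, SemidirectProduct.mul_right, ha', hb']

theorem ker_ne_bot : (SemidirectProduct.rightHom (φ := phi)).ker ≠ ⊥ := by
  intro h
  have hm : (SemidirectProduct.inl (Multiplicative.ofAdd ((v0, 0) : Nn)) : G0) ∈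
      (SemidirectProduct.rightHom (φ := phi)).ker := by
    rw [MonoidHom.mem_ker]
    exact SemidirectProduct.rightHom_inl _
  rw [h, Subgroup.mem_bot] at hm
  have h1 : orderOf (SemidirectProduct.inl (Multiplicative.ofAdd ((v0, 0) : Nn)) : G0) = 1 := by
    rw [hm, orderOf_one]
  rw [orderOf_inl, Prod.addOrderOf] at h1
  have h2 : Nat.lcm (addOrderOf v0) (addOrderOf (0 : ↥Qodd)) = 1 := h1
  rw [addOrderOf_v0, addOrderOf_zero] at h2
  exact absurd h2 (by decide)

/-- S3489 from the leaves -/
theorem unbounded_of_leaves (L : Leaves)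
    (hA : Set.range (orderOf : alternatingGroup (Fin 10) → ℕ) = spec) (N : ℕ) :
    ∃ (H : Type) (_ : Group H) (_ : Fintype H), N < Fintype.card H ∧
      Set.range (orderOf : H → ℕ) = Set.range (orderOf : alternatingGroup (Fin 10) → ℕ) := by
  have hs : Group.IsSolvable (SemidirectProduct.rightHom (φ := phi)).ker :=
    isSolvable_of_comm ker_comm
  obtain ⟨H, i1, i2, h1, h2⟩ :=
    Cfsg.Agent.S3444.result (G := G0) (SemidirectProduct.rightHom (φ := phi)).ker ker_ne_bot hs N
  exact ⟨H, i1, i2, h1, h2.trans ((range_eq_spec L).trans hA.symm)⟩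

end Cfsg.Agent.Lib.Helper05.A10Iso
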