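import Mathlib
import Cfsg.Prelude.Def_Blocks
import Cfsg.Agent.Lib.Helper82.ResidueField

/-!
# Lifting linear characters from the residue field (helper5)

A function `ν : G → ℂ` with values in the local ring at `M` which is multiplicative modulo the
local ideal is congruent to a genuine linear character `G →* ℂˣ` (with values roots of unity of
order prime to `p`).
-/

set_option autoImplicit false
set_option linter.unusedSectionVars false
set_option linter.unusedVariables false
set_option linter.style.haveILetI false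

namespace Cfsg.Agent.Lib.Helper05.LinLift

open Cfsg Cfsg.Agent.Lib.Helper82

theorem exists_lift {G : Type*} [Group G] [Finite G] {p : ℕ} [Fact p.Prime] {M : Ideal AlgInt}
    (hM : IsPModular p M) (ν : G → ℂ) (hνR : ∀ g, MemLocalRing M (ν g))
    (hmul : ∀ g h, MemLocalIdeal M (ν (g * h) - ν g * ν h)) (hone : MemLocalIdeal M (ν 1 - 1)) :
    ∃ lam : G →* ℂˣ, (∀ g, IsIntegral ℤ ((lam g : ℂˣ) : ℂ)) ∧
      (∀ g, MemLocalIdeal M (((lam g : ℂˣ) : ℂ) - ν g)) ∧
      (∀ g, MemLocalIdeal M (ν g - 1) → lam g = 1) := by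
  classical
  have hp : p.Prime := Fact.out
  have hMp : M.IsPrime := hM.2.1.isPrime
  haveI : CharP (LocalResidue M hMp) p := localResidue_charP hM
  -- the reduction of `ν`
  let νR : G → localSubring M hMp := fun g => ⟨ν g, (mem_localSubring_iff hMp).mpr (hνR g)⟩
  let r : G →* LocalResidue M hMp :=
    { toFun := fun g => residueMap M hMp (νR g)
      map_one' := by
        rw [← sub_eq_zero, ← map_one (residueMap M hMp), ← map_sub, residueMap_eq_zero_iff]
        exact hone
      map_mul' := by
        intro g h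
        rw [← map_mul, ← sub_eq_zero, ← map_sub, residueMap_eq_zero_iff]
        exact hmul g h }
  have hr : ∀ g, r g = residueMap M hMp (νR g) := fun g => rfl
  -- the `p'`-part of the group order
  obtain ⟨v, n', hn', hn⟩ := Nat.exists_eq_pow_mul_and_not_dvd (n := Nat.card G)
    Nat.card_pos.ne' p hp.ne_one
  have hn'0 : n' ≠ 0 := by
    rintro rfl
    exact hn' (dvd_zero p)
  haveI : NeZero n' := ⟨hn'0⟩
  have hrpow : ∀ g, (r g) ^ n' = 1 := by
    intro g
    have h1 : (r g) ^ (p ^ v * n') = 1 := by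
      rw [← hn, ← map_pow, pow_card_eq_one', map_one]
    have h2 : ((r g) ^ n' - 1) ^ p ^ v = 0 := by
      rw [sub_pow_char_pow, ← pow_mul, mul_comm, h1, one_pow, sub_self]
    exact sub_eq_zero.1 (pow_eq_zero_iff (pow_ne_zero _ hp.ne_zero) |>.1 h2)
  -- the primitive root of unity and its reduction
  set ζ : ℂ := Complex.exp (2 * Real.pi * Complex.I / n') with hζdef
  have hζ : IsPrimitiveRoot ζ n' := Complex.isPrimitiveRoot_exp n' hn'0
  have hζint : IsIntegral ℤ ζ := by
    refine IsIntegral.of_pow (Nat.pos_of_ne_zero hn'0) ?_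
    rw [hζ.pow_eq_one]; exact isIntegral_one
  let ζR : localSubring M hMp :=
    ⟨ζ, (mem_localSubring_iff hMp).mpr (memLocalRing_of_isIntegral hMp hζint)⟩
  set ζk := residueMap M hMp ζR with hζk
  have hζR1 : ζR ^ n' = 1 := by
    apply Subtype.ext
    show ζ ^ n' = 1
    exact hζ.pow_eq_one
  have hζk1 : ζk ^ n' = 1 := by rw [hζk, ← map_pow, hζR1, map_one]
  have hprimk : IsPrimitiveRoot ζk n' := by
    refine IsPrimitiveRoot.mk_of_lt ζk (Nat.pos_of_ne_zero hn'0) hζk1 ?_
    intro l hl0 hl h1
    have hξ1 : ζ ^ l ≠ 1 := hζ.pow_ne_one_of_pos_of_lt hl0.ne' hl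
    have hgeom : ∑ i ∈ Finset.range n', (ζ ^ l) ^ i = 0 := by
      have h2 := geom_sum_mul (ζ ^ l) n'
      rw [← pow_mul, mul_comm l n', pow_mul, hζ.pow_eq_one, one_pow, sub_self] at h2
      rcases mul_eq_zero.mp h2 with h3 | h3
      · exact h3
      · exact absurd (sub_eq_zero.mp h3) hξ1
    have hgeomR : ∑ i ∈ Finset.range n', (ζR ^ l) ^ i = 0 := by
      apply Subtype.ext
      have : ((∑ i ∈ Finset.range n', (ζR ^ l) ^ i : localSubring M hMp) : ℂ)
          = ∑ i ∈ Finset.range n', (ζ ^ l) ^ i := by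
        push_cast
        rfl
      rw [this, hgeom]
      rfl
    have h4 := congrArg (residueMap M hMp) hgeomR
    rw [map_sum, map_zero] at h4
    simp only [map_pow] at h4
    rw [← hζk, h1] at h4
    simp only [one_pow, Finset.sum_const, Finset.card_range, nsmul_eq_mul, mul_one] at h4
    have h5 := (CharP.cast_eq_zero_iff (LocalResidue M hMp) p n').mp h4
    exact hn' h5
  have hexi : ∀ g, ∃ i < n', ζk ^ i = r g := fun g => hprimk.eq_pow_of_pow_eq_one (hrpow g)
  choose i hi hir using hexi
  -- transfer of equalities of powers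
  have hmodk : ∀ a : ℕ, ζk ^ a = ζk ^ (a % n') := by
    intro a
    conv_lhs => rw [← Nat.div_add_mod a n', pow_add, pow_mul, hζk1, one_pow, one_mul]
  have hmodζ : ∀ a : ℕ, ζ ^ a = ζ ^ (a % n') := by
    intro a
    conv_lhs => rw [← Nat.div_add_mod a n', pow_add, pow_mul, hζ.pow_eq_one, one_pow, one_mul]
  have key : ∀ a b : ℕ, ζk ^ a = ζk ^ b → ζ ^ a = ζ ^ b := by
    intro a b h
    rw [hmodk a, hmodk b] at h
    have := hprimk.pow_inj (Nat.mod_lt a (Nat.pos_of_ne_zero hn'0))
      (Nat.mod_lt b (Nat.pos_of_ne_zero hn'0)) h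
    rw [hmodζ a, hmodζ b, this]
  let lam0 : G →* ℂ :=
    { toFun := fun g => ζ ^ i g
      map_one' := by
        have h1 : ζk ^ i 1 = ζk ^ 0 := by rw [hir, map_one, pow_zero]
        have := key _ _ h1
        rw [pow_zero] at this
        exact this
      map_mul' := by
        intro g h
        have h1 : ζk ^ i (g * h) = ζk ^ (i g + i h) := by
          rw [pow_add, hir, hir, hir, map_mul]
        have := key _ _ h1
        rw [pow_add] at this
        exact this }
  have hlam0 : ∀ g, lam0 g = ζ ^ i g := fun g => rfl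
  refine ⟨lam0.toHomUnits, ?_, ?_, ?_⟩
  · intro g
    rw [MonoidHom.coe_toHomUnits, hlam0]
    exact hζint.pow _
  · intro g
    rw [MonoidHom.coe_toHomUnits, hlam0]
    have h1 : residueMap M hMp (ζR ^ i g - νR g) = 0 := by
      rw [map_sub, map_pow, ← hζk, hir, hr, sub_self]
    rw [residueMap_eq_zero_iff] at h1
    exact h1
  · intro g hg
    apply Units.ext
    rw [MonoidHom.coe_toHomUnits, hlam0]
    have h1 : r g = 1 := by
      rw [hr, ← sub_eq_zero, ← map_one (residueMap M hMp), ← map_sub, residueMap_eq_zero_iff]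
      exact hg
    have h2 : ζk ^ i g = ζk ^ 0 := by rw [hir, h1, pow_zero]
    have := key _ _ h2
    rw [pow_zero] at this
    rw [this]
    rfl

end Cfsg.Agent.Lib.Helper05.LinLift
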