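import Mathlib
import Cfsg.Prelude.Def_Blocks
import Cfsg.Agent.Lib.Helper05.CharOrtho
import Cfsg.Agent.Lib.Helper82.Integral
import Cfsg.Agent.Lib.Helper21.Osima

/-!
# Relative central characters (helper5)

Let `χ` be a character of `G` whose restriction to a subgroup `N` is irreducible.  Then the
elements of the group algebra centralised by `N` (functions invariant under conjugation by `N`) act
as scalars in a representation affording `χ`; the scalar is `omega f χ`.  Consequences:
`omega (conv f h) χ = omega f χ * omega h χ` for `N`-invariant `h`, and `omega f χ` is an algebraic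
integer when `f` is `N`-invariant with algebraic integer values.
-/

set_option autoImplicit false
set_option linter.unusedSectionVars false
set_option linter.unusedVariables false
set_option linter.style.haveILetI false

namespace Cfsg.Agent.Lib.Helper05.RelCent

open Cfsg Representation Module
open Cfsg.Agent.Lib.Helper21 (omega conv)

/-- `f` is invariant under conjugation by the elements of `N` -/
def IsInv {G : Type*} [Group G] (N : Subgroup G) (f : G → ℂ) : Prop :=
  ∀ n ∈ N, ∀ g : G, f (n * g * n⁻¹) = f g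

section Rep

variable {G : Type*} [Group G] [Fintype G] {V : Type*} [AddCommGroup V] [Module ℂ V]
  [FiniteDimensional ℂ V]

/-- the commutant of `ρ` restricted to `N` consists of scalars -/
def ScalarComm (N : Subgroup G) (ρ : Representation ℂ G V) : Prop :=
  ∀ A : V →ₗ[ℂ] V, (∀ n : N, A ∘ₗ ρ (n : G) = ρ (n : G) ∘ₗ A) →
    ∃ c : ℂ, A = c • (LinearMap.id : V →ₗ[ℂ] V)

theorem scalarComm_of_restrict (N : Subgroup G) (ρ : Representation ℂ G V)
    (h : Cfsg.IsIrrCharacter N (fun n : N => ρ.character (n : G))) : ScalarComm N ρ := by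
  classical
  haveI : Fintype N := Fintype.ofFinite N
  let σ : Representation ℂ N V := ρ.comp N.subtype
  have hσ : σ.character = fun n : N => ρ.character (n : G) := rfl
  have h1 : Cfsg.classInner σ.character σ.character = 1 := by
    rw [hσ]; exact classInner_irr_self h
  rw [classInner_char_eq_finrank σ σ] at h1
  have h2 : finrank ℂ (IntertwiningMap σ σ) = 1 := by exact_mod_cast h1
  intro A hA
  let A' : IntertwiningMap σ σ := ⟨A, fun n => hA n⟩
  by_cases hid : (IntertwiningMap.id σ) = 0
  · refine ⟨0, ?_⟩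
    have h3 : (LinearMap.id : V →ₗ[ℂ] V) = 0 := by
      have := congrArg IntertwiningMap.toLinearMap hid
      simpa using this
    rw [zero_smul]
    calc A = A ∘ₗ LinearMap.id := rfl
      _ = 0 := by rw [h3, LinearMap.comp_zero]
  · obtain ⟨c, hc⟩ := (finrank_eq_one_iff_of_nonzero' (IntertwiningMap.id σ) hid).mp h2 A'
    refine ⟨c, ?_⟩
    have := congrArg IntertwiningMap.toLinearMap hc
    rw [IntertwiningMap.toLinearMap_smul] at this
    exact this.symm

theorem sum_smul_comm (N : Subgroup G) (ρ : Representation ℂ G V) (f : G → ℂ) (hf : IsInv N f)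
    (n : N) :
    (∑ g : G, f g • ρ g) ∘ₗ ρ (n : G) = ρ (n : G) ∘ₗ (∑ g : G, f g • ρ g) := by
  simp only [← Module.End.mul_eq_comp, Finset.sum_mul, Finset.mul_sum]
  rw [← Equiv.sum_comp (MulAut.conj (n : G)).toEquiv]
  refine Finset.sum_congr rfl fun g _ => ?_
  simp only [MulEquiv.toEquiv_eq_coe, EquivLike.coe_coe, MulAut.conj_apply, hf n n.2]
  rw [smul_mul_assoc, mul_smul_comm, ← map_mul, ← map_mul]
  congr 2
  group

/-- Schur: `N`-invariant functions act as scalars -/
theorem sum_smul_eq (N : Subgroup G) (ρ : Representation ℂ G V) (hS : ScalarComm N ρ)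
    (h1 : ρ.character 1 ≠ 0) (f : G → ℂ) (hf : IsInv N f) :
    (∑ g : G, f g • ρ g) = (omega f ρ.character) • (LinearMap.id : V →ₗ[ℂ] V) := by
  obtain ⟨c, hc⟩ := hS _ (sum_smul_comm N ρ f hf)
  have h2 := congrArg (LinearMap.trace ℂ V) hc
  rw [map_sum, map_smul] at h2
  simp only [map_smul, smul_eq_mul] at h2
  have h3 : LinearMap.trace ℂ V LinearMap.id = ρ.character 1 := by
    rw [char_one]; exact LinearMap.trace_id ℂ V
  rw [h3] at h2
  rw [hc]
  congr 1
  unfold omega
  rw [eq_div_iff h1]
  exact h2.symm

theorem omega_conv_rep (N : Subgroup G) (ρ : Representation ℂ G V) (hS : ScalarComm N ρ)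
    (h1 : ρ.character 1 ≠ 0) (f h : G → ℂ) (hh : IsInv N h) :
    omega (conv f h) ρ.character = omega f ρ.character * omega h ρ.character := by
  have hL : ∑ z : G, conv f h z * ρ.character z
      = ∑ x : G, f x * ∑ y : G, h y * ρ.character (x * y) := by
    simp only [conv, Finset.sum_mul]
    rw [Finset.sum_comm]
    apply Finset.sum_congr rfl
    intro x _
    rw [Finset.mul_sum]
    rw [← Equiv.sum_comp (Equiv.mulLeft x)]
    apply Finset.sum_congr rfl
    intro y _
    simp only [Equiv.coe_mulLeft, inv_mul_cancel_left]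
    ring
  have hR : ∀ x : G, ∑ y : G, h y * ρ.character (x * y)
      = omega h ρ.character * ρ.character x := by
    intro x
    have e1 : ∑ y : G, h y * ρ.character (x * y)
        = LinearMap.trace ℂ V (ρ x ∘ₗ ∑ y : G, h y • ρ y) := by
      rw [← Module.End.mul_eq_comp, Finset.mul_sum, map_sum]
      apply Finset.sum_congr rfl
      intro y _
      rw [mul_smul_comm, map_smul, smul_eq_mul, ← map_mul]
      rfl
    rw [e1, sum_smul_eq N ρ hS h1 h hh, LinearMap.comp_smul, map_smul, smul_eq_mul,
      LinearMap.comp_id]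
    rfl
  unfold omega at *
  rw [hL]
  simp_rw [hR]
  have : ∑ x : G, f x * ((∑ g : G, h g * ρ.character g) / ρ.character 1 * ρ.character x)
      = (∑ g : G, h g * ρ.character g) / ρ.character 1 * ∑ x : G, f x * ρ.character x := by
    rw [Finset.mul_sum]
    apply Finset.sum_congr rfl
    intro x _
    ring
  rw [this]
  ring

theorem isIntegral_omega_rep (N : Subgroup G) (ρ : Representation ℂ G V) (hS : ScalarComm N ρ)
    (h1 : ρ.character 1 ≠ 0) (f : G → ℂ) (hf : IsInv N f) (hint : ∀ g, IsIntegral ℤ (f g)) :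
    IsIntegral ℤ (omega f ρ.character) := by
  have h2 := Cfsg.Agent.Lib.Helper82.isIntegral_sum_smul ρ f hint
  rw [sum_smul_eq N ρ hS h1 f hf] at h2
  have hnt : Nontrivial V := by
    by_contra h
    rw [not_nontrivial_iff_subsingleton] at h
    apply h1
    rw [char_one]
    have : finrank ℂ V = 0 := finrank_zero_of_subsingleton
    rw [this]; simp
  have hinj : Function.Injective (algebraMap ℂ (Module.End ℂ V)) :=
    FaithfulSMul.algebraMap_injective ℂ (Module.End ℂ V)
  rw [← isIntegral_algebraMap_iff hinj]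
  rw [Algebra.algebraMap_eq_smul_one]
  exact h2

end Rep

section Char

variable {G : Type*} [Group G] [Fintype G]

/-- multiplicativity of the relative central character -/
theorem omega_conv_rel {χ : G → ℂ} (hχ : IsCharacter G χ) (N : Subgroup G)
    (hN : IsIrrCharacter N (fun n : N => χ n)) (f h : G → ℂ) (hh : IsInv N h) :
    omega (conv f h) χ = omega f χ * omega h χ := by
  obtain ⟨n, ρ, rfl⟩ := hχ
  have h1 : ρ.character 1 ≠ 0 := by
    have := Cfsg.Agent.Lib.Helper82.IsIrrCharacter.apply_one_ne_zero hN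
    simpa using this
  exact omega_conv_rep N ρ (scalarComm_of_restrict N ρ hN) h1 f h hh

/-- integrality of the relative central character -/
theorem isIntegral_omega_rel {χ : G → ℂ} (hχ : IsCharacter G χ) (N : Subgroup G)
    (hN : IsIrrCharacter N (fun n : N => χ n)) (f : G → ℂ) (hf : IsInv N f)
    (hint : ∀ g, IsIntegral ℤ (f g)) : IsIntegral ℤ (omega f χ) := by
  obtain ⟨n, ρ, rfl⟩ := hχ
  have h1 : ρ.character 1 ≠ 0 := by
    have := Cfsg.Agent.Lib.Helper82.IsIrrCharacter.apply_one_ne_zero hN
    simpa using this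
  exact isIntegral_omega_rep N ρ (scalarComm_of_restrict N ρ hN) h1 f hf hint

end Char

section Orb

variable {G : Type*} [Group G]

open Classical in
/-- indicator function of the `N`-orbit of `g` under conjugation -/
noncomputable def orb (N : Subgroup G) (g : G) : G → ℂ :=
  fun x => if ∃ n ∈ N, n * g * n⁻¹ = x then 1 else 0

theorem orb_isInv (N : Subgroup G) (g : G) : IsInv N (orb N g) := by
  classical
  intro m hm x
  unfold orb
  have : (∃ n ∈ N, n * g * n⁻¹ = m * x * m⁻¹) ↔ (∃ n ∈ N, n * g * n⁻¹ = x) := by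
    constructor
    · rintro ⟨n, hn, h⟩
      refine ⟨m⁻¹ * n, N.mul_mem (N.inv_mem hm) hn, ?_⟩
      calc m⁻¹ * n * g * (m⁻¹ * n)⁻¹ = m⁻¹ * (n * g * n⁻¹) * m := by group
        _ = m⁻¹ * (m * x * m⁻¹) * m := by rw [h]
        _ = x := by group
    · rintro ⟨n, hn, h⟩
      refine ⟨m * n, N.mul_mem hm hn, ?_⟩
      calc m * n * g * (m * n)⁻¹ = m * (n * g * n⁻¹) * m⁻¹ := by group
        _ = m * x * m⁻¹ := by rw [h]
  simp only [this]

theorem orb_isIntegral (N : Subgroup G) (g x : G) : IsIntegral ℤ (orb N g x) := by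
  classical
  unfold orb
  split_ifs
  · exact isIntegral_one
  · exact isIntegral_zero

theorem orb_self (N : Subgroup G) (g : G) : orb N g g = 1 := by
  classical
  unfold orb
  rw [if_pos ⟨1, N.one_mem, by simp⟩]

open Classical in
theorem orb_one (N : Subgroup G) (x : G) : orb N 1 x = if x = 1 then 1 else 0 := by
  unfold orb
  have : (∃ n ∈ N, n * (1 : G) * n⁻¹ = x) ↔ x = 1 := by
    constructor
    · rintro ⟨n, _, h⟩
      rw [← h]; simp
    · intro h
      exact ⟨1, N.one_mem, by simp [h]⟩
  simp only [this]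

/-- the orbit of `g` lies in the coset of `g` -/
theorem orb_supp (N : Subgroup G) [N.Normal] (g x : G) (h : orb N g x ≠ 0) :
    (x : G ⧸ N) = (g : G ⧸ N) := by
  classical
  unfold orb at h
  by_cases hx : ∃ n ∈ N, n * g * n⁻¹ = x
  · obtain ⟨n, hn, rfl⟩ := hx
    rw [QuotientGroup.eq]
    have : (n * g * n⁻¹)⁻¹ * g = n * (g⁻¹ * n⁻¹ * g) := by group
    rw [this]
    refine N.mul_mem hn ?_
    have h2 := (inferInstance : N.Normal).conj_mem n⁻¹ (N.inv_mem hn) g⁻¹
    simpa using h2
  · rw [if_neg hx] at h
    exact absurd rfl h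

/-- the size of the `N`-orbit of `g` -/
noncomputable def orbCard (N : Subgroup G) (g : G) : ℕ :=
  Nat.card {x : G // ∃ n ∈ N, n * g * n⁻¹ = x}

theorem sum_orb [Fintype G] (N : Subgroup G) (g : G) : ∑ x : G, orb N g x = (orbCard N g : ℂ) := by
  classical
  unfold orb orbCard
  rw [Nat.card_eq_fintype_card, Fintype.card_subtype]
  convert Finset.sum_boole (R := ℂ) (fun x : G => ∃ n ∈ N, n * g * n⁻¹ = x) Finset.univ using 2
  congr

theorem orbCard_eq_relIndex (N : Subgroup G) (g : G) :
    orbCard N g = (Subgroup.centralizer ({g} : Set G)).relIndex N := by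
  classical
  letI act : MulAction N G :=
    MulAction.compHom G ((ConjAct.toConjAct (G := G)).toMonoidHom.comp N.subtype)
  have hsmul : ∀ (n : N) (x : G), n • x = (n : G) * x * (n : G)⁻¹ := by
    intro n x
    show (ConjAct.toConjAct (n : G)) • x = _
    rw [ConjAct.smul_def]; simp
  have h1 := MulAction.index_stabilizer (G := N) (x := g)
  have h2 : MulAction.stabilizer N g = (Subgroup.centralizer ({g} : Set G)).subgroupOf N := by
    ext n
    rw [MulAction.mem_stabilizer_iff, hsmul, Subgroup.mem_subgroupOf,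
      Subgroup.mem_centralizer_singleton_iff]
    constructor
    · intro h
      calc (n : G) * g = ((n : G) * g * (n : G)⁻¹) * n := by group
        _ = g * n := by rw [h]
    · intro h
      rw [h]; group
  have h3 : (MulAction.orbit N g : Set G) = {x : G | ∃ n ∈ N, n * g * n⁻¹ = x} := by
    ext x
    rw [MulAction.mem_orbit_iff, Set.mem_ofPred_eq]
    constructor
    · rintro ⟨n, hn⟩
      exact ⟨n, n.2, by rw [← hn, hsmul]⟩
    · rintro ⟨n, hn, h⟩
      exact ⟨⟨n, hn⟩, by rw [hsmul]; exact h⟩
  unfold orbCard Subgroup.relIndex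
  rw [← h2, h1, h3]
  exact (Nat.card_coe_set_eq _)

/-- orbits of elements centralising a Sylow `p`-subgroup of `N` have size prime to `p` -/
theorem not_dvd_orbCard [Finite G] {p : ℕ} [Fact p.Prime] (N : Subgroup G) (P : Sylow p N) (g : G)
    (hg : g ∈ Subgroup.centralizer (((P : Subgroup N).map N.subtype : Subgroup G) : Set G)) :
    ¬ p ∣ orbCard N g := by
  rw [orbCard_eq_relIndex]
  have hle : (P : Subgroup N).map N.subtype ≤ Subgroup.centralizer ({g} : Set G) := by
    intro x hx
    rw [Subgroup.mem_centralizer_singleton_iff]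
    rw [Subgroup.mem_centralizer_iff] at hg
    exact hg x hx
  have h1 := Subgroup.relIndex_dvd_of_le_left N hle
  have h2 : ((P : Subgroup N).map N.subtype).relIndex N = (P : Subgroup N).index := by
    unfold Subgroup.relIndex Subgroup.subgroupOf
    rw [Subgroup.comap_map_eq_self_of_injective N.subtype_injective]
  rw [h2] at h1
  intro h
  exact P.not_dvd_index (h.trans h1)

end Orb

end Cfsg.Agent.Lib.Helper05.RelCent
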