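import Mathlib
import Cfsg.Prelude.Def_Blocks
import Cfsg.Agent.Lib.Helper05.RelCent
import Cfsg.Agent.Lib.Helper05.LinLift
import Cfsg.Agent.Lib.Helper05.CharDecomp
import Cfsg.Agent.Lib.Helper21.OsimaApps
import Cfsg.Agent.Lib.Helper80.GlaubSub
import Cfsg.Agent.Lib.Helper83.CharMisc
import Cfsg.Agent.S0173

/-!
# Extensions in the principal block (helper5)

`N ⊴ G`, `P` a Sylow `p`-subgroup of `N`, `G = N C_G(P)`.  If a character `χ` of `G` restricts to an
irreducible character of the principal block of `N`, then a twist `λχ` of `χ` by a linear character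
`λ` of `G/N` has the property that its relative central character is congruent to the augmentation
on all `N`-invariant elements of the integral group ring.
-/

set_option autoImplicit false
set_option linter.unusedSectionVars false
set_option linter.unusedVariables false
set_option linter.style.haveILetI false

namespace Cfsg.Agent.Lib.Helper05.PrincExt

open Cfsg Cfsg.Agent.Lib.Helper82 Cfsg.Agent.Lib.Helper05.RelCent
open Cfsg.Agent.Lib.Helper21 (omega conv)

section General

variable {G : Type*} [Group G] [Fintype G]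

theorem sum_eq_sum_subgroup (N : Subgroup G) [Fintype N] (F : G → ℂ)
    (hF : ∀ g, g ∉ N → F g = 0) : ∑ g, F g = ∑ n : N, F n := by
  classical
  rw [← Finset.sum_subtype (Finset.univ.filter (· ∈ N)) (by simp) F]
  symm
  apply Finset.sum_subset (Finset.filter_subset _ _)
  intro g _ hg
  apply hF
  simpa using hg

theorem sum_conv (f h : G → ℂ) : ∑ z, conv f h z = (∑ x, f x) * ∑ y, h y := by
  simp only [conv]
  rw [Finset.sum_comm, Finset.sum_mul]
  apply Finset.sum_congr rfl
  intro x _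
  rw [← Finset.mul_sum]
  congr 1
  exact Equiv.sum_comp (Equiv.mulLeft x⁻¹) h

theorem conv_isInv (N : Subgroup G) {f h : G → ℂ} (hf : IsInv N f) (hh : IsInv N h) :
    IsInv N (conv f h) := by
  intro n hn g
  simp only [conv]
  rw [← Equiv.sum_comp (MulAut.conj n).toEquiv]
  apply Finset.sum_congr rfl
  intro x _
  simp only [MulEquiv.toEquiv_eq_coe, MulEquiv.coe_toEquiv, MulAut.conj_apply]
  rw [hf n hn x]
  have : (n * x * n⁻¹)⁻¹ * (n * g * n⁻¹) = n * (x⁻¹ * g) * n⁻¹ := by group
  rw [this, hh n hn]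

theorem conv_isIntegral {f h : G → ℂ} (hf : ∀ x, IsIntegral ℤ (f x))
    (hh : ∀ x, IsIntegral ℤ (h x)) (z : G) : IsIntegral ℤ (conv f h z) := by
  simp only [conv]
  exact IsIntegral.sum _ (fun x _ => (hf x).mul (hh _))

/-- `f` is supported on the coset `q` of `N` -/
def SuppOn (N : Subgroup G) (q : G ⧸ N) (f : G → ℂ) : Prop := ∀ x, f x ≠ 0 → (x : G ⧸ N) = q

theorem conv_suppOn (N : Subgroup G) [N.Normal] {q q' : G ⧸ N} {f h : G → ℂ}
    (hf : SuppOn N q f) (hh : SuppOn N q' h) : SuppOn N (q * q') (conv f h) := by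
  intro z hz
  simp only [conv] at hz
  obtain ⟨x, _, hx⟩ := Finset.exists_ne_zero_of_sum_ne_zero hz
  have h1 : f x ≠ 0 := left_ne_zero_of_mul hx
  have h2 : h (x⁻¹ * z) ≠ 0 := right_ne_zero_of_mul hx
  have e1 := hf x h1
  have e2 := hh _ h2
  rw [← e1, ← e2, ← QuotientGroup.mk_mul]
  congr 1
  group

theorem orb_suppOn (N : Subgroup G) [N.Normal] (g : G) : SuppOn N (g : G ⧸ N) (orb N g) :=
  fun x hx => orb_supp N g x hx

theorem omega_sub_sum_mem {M : Ideal AlgInt} (hMp : M.IsPrime) (N : Subgroup G) {χ : G → ℂ}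
    (hχN : IsIrrCharacter N (fun n : N => χ n))
    (hθ : SameBlock M (fun _ : N => (1 : ℂ)) (fun n : N => χ n))
    (f : G → ℂ) (hf : IsInv N f) (hfR : ∀ g, MemLocalRing M (f g))
    (hsupp : ∀ g, g ∉ N → f g = 0) :
    MemLocalIdeal M (omega f χ - ∑ g, f g) := by
  classical
  haveI : Fintype N := Fintype.ofFinite N
  haveI : Fintype (IrrCharacter N) := by
    haveI := Cfsg.Agent.Lib.Helper05.finite_irrCharacter (G := N)
    exact Fintype.ofFinite _
  let f' : N → ℂ := fun n => f n
  have hf' : IsClassFunction N f' := fun g h => hf h h.2 g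
  let θ₁ : IrrCharacter N := ⟨fun n => χ n, hχN⟩
  let θ₀ : IrrCharacter N := ⟨fun _ => 1, Cfsg.Agent.Lib.Helper05.isIrrCharacter_one⟩
  have h1 := Cfsg.Agent.Lib.Helper21.omega_sub_memLocalIdeal hMp hf' (fun n => hfR n)
    (χ := θ₁) (ψ := θ₀) (sameBlock_symm hθ)
  have e1 : omega f' (θ₁ : N → ℂ) = omega f χ := by
    unfold omega
    rw [sum_eq_sum_subgroup N (fun g => f g * χ g) (by intro g hg; rw [hsupp g hg, zero_mul])]
    rfl
  have e0 : omega f' (θ₀ : N → ℂ) = ∑ g, f g := by
    unfold omega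
    rw [sum_eq_sum_subgroup N f hsupp]
    simp [θ₀, f']
  rwa [e1, e0] at h1

/-- the key congruence -/
theorem star {M : Ideal AlgInt} (hMp : M.IsPrime) (N : Subgroup G) [N.Normal] {χ : G → ℂ}
    (hχc : IsCharacter G χ) (hχN : IsIrrCharacter N (fun n : N => χ n))
    (hθ : SameBlock M (fun _ : N => (1 : ℂ)) (fun n : N => χ n))
    (q : G ⧸ N) (f : G → ℂ) (hf : IsInv N f) (hfI : ∀ x, IsIntegral ℤ (f x)) (hs : SuppOn N q f)
    (y : G) (hy : (y : G ⧸ N) = q⁻¹) :
    MemLocalIdeal M (omega f χ * omega (orb N y) χ - (∑ x, f x) * (orbCard N y : ℂ)) := by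
  have hsupp : ∀ g, g ∉ N → conv f (orb N y) g = 0 := by
    intro g hg
    by_contra hne
    have := conv_suppOn N hs (orb_suppOn N y) g hne
    rw [hy, mul_inv_cancel] at this
    exact hg ((QuotientGroup.eq_one_iff g).mp this)
  have h1 := omega_sub_sum_mem hMp N hχN hθ (conv f (orb N y))
    (conv_isInv N hf (orb_isInv N y))
    (fun g => memLocalRing_of_isIntegral hMp (conv_isIntegral hfI (orb_isIntegral N y) g)) hsupp
  rw [omega_conv_rel hχc N hχN f (orb N y) (orb_isInv N y), sum_conv, sum_orb] at h1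
  exact h1

end General

/-- **Core theorem.**  A twist of `χ` by a linear character of `G/N` has relative central character
congruent to the augmentation. -/
theorem exists_twist {G : Type*} [Group G] [Fintype G] (p : ℕ) [Fact p.Prime] (M : Ideal AlgInt)
    (hM : IsPModular p M) (N : Subgroup G) [N.Normal] (P : Sylow p N)
    (hcov : N ⊔ Subgroup.centralizer (((P : Subgroup N).map N.subtype : Subgroup G) : Set G) = ⊤)
    (χ : G → ℂ) (hχc : IsCharacter G χ) (hχN : IsIrrCharacter N (fun n : N => χ n))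
    (hθ : SameBlock M (fun _ : N => (1 : ℂ)) (fun n : N => χ n)) :
    ∃ lam : G →* ℂˣ, (∀ n ∈ N, lam n = 1) ∧
      ∀ (f : G → ℂ), IsInv N f → (∀ x, IsIntegral ℤ (f x)) →
        MemLocalIdeal M (omega f (fun g => ((lam g : ℂˣ) : ℂ) * χ g) - ∑ x, f x) := by
  classical
  haveI : Fintype (G ⧸ N) := Fintype.ofFinite _
  have hMp : M.IsPrime := hM.2.1.isPrime
  have hp : p.Prime := Fact.out
  set C := Subgroup.centralizer (((P : Subgroup N).map N.subtype : Subgroup G) : Set G) with hC
  have hχ1 : χ 1 ≠ 0 := by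
    have := Cfsg.Agent.Lib.Helper82.IsIrrCharacter.apply_one_ne_zero hχN
    simpa using this
  -- representatives of the cosets in `C`
  have hrep : ∀ q : G ⧸ N, ∃ y ∈ C, (y : G ⧸ N) = q⁻¹ := by
    intro q
    obtain ⟨g, rfl⟩ := QuotientGroup.mk_surjective q
    have hg : g⁻¹ ∈ N ⊔ C := by rw [hcov]; trivial
    rw [← SetLike.mem_coe, Subgroup.normal_mul] at hg
    obtain ⟨n, hn, c, hc, hnc⟩ := Set.mem_mul.mp hg
    refine ⟨c, hc, ?_⟩
    have : c = n⁻¹ * g⁻¹ := by rw [← hnc]; group
    rw [this, QuotientGroup.mk_mul, (QuotientGroup.eq_one_iff n⁻¹).mpr (N.inv_mem hn), one_mul,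
      QuotientGroup.mk_inv]
  choose y hyC hyq using hrep
  have hunit : ∀ g ∈ C, ¬ MemLocalIdeal M ((orbCard N g : ℕ) : ℂ) := by
    intro g hg
    rw [memLocalIdeal_natCast_iff hM]
    exact not_dvd_orbCard N P g hg
  have hc0 : ∀ g ∈ C, ((orbCard N g : ℕ) : ℂ) ≠ 0 := by
    intro g hg h0
    apply hunit g hg
    rw [h0]; exact memLocalIdeal_zero hMp
  have hμint : ∀ g : G, IsIntegral ℤ (omega (orb N g) χ) := fun g =>
    isIntegral_omega_rel hχc N hχN _ (orb_isInv N g) (orb_isIntegral N g)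
  have hμR : ∀ g : G, MemLocalRing M (omega (orb N g) χ) := fun g =>
    memLocalRing_of_isIntegral hMp (hμint g)
  set ν : G ⧸ N → ℂ := fun q => omega (orb N (y q)) χ / (orbCard N (y q) : ℂ) with hν
  have hcinvR : ∀ g ∈ C, MemLocalRing M ((orbCard N g : ℂ))⁻¹ := fun g hg =>
    memLocalRing_inv (memLocalRing_natCast hMp _) (hunit g hg)
  have hνR : ∀ q, MemLocalRing M (ν q) := by
    intro q
    rw [hν]
    simp only [div_eq_mul_inv]
    exact memLocalRing_mul hMp (hμR _) (hcinvR _ (hyC q))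
  -- (★')
  have star' : ∀ (q : G ⧸ N) (f : G → ℂ), IsInv N f → (∀ x, IsIntegral ℤ (f x)) → SuppOn N q f →
      MemLocalIdeal M (omega f χ * ν q - ∑ x, f x) := by
    intro q f hf hfI hs
    have h1 := star hMp N hχc hχN hθ q f hf hfI hs (y q) (hyq q)
    have h2 := memLocalIdeal_mul_right hMp h1 (hcinvR _ (hyC q))
    have h3 : (omega f χ * omega (orb N (y q)) χ - (∑ x, f x) * (orbCard N (y q) : ℂ)) *
        ((orbCard N (y q) : ℂ))⁻¹ = omega f χ * ν q - ∑ x, f x := by
      rw [hν]
      have := hc0 _ (hyC q)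
      field_simp
    rw [h3] at h2
    exact h2
  -- test functions with unit augmentation
  have hyinvC : ∀ q, (y q)⁻¹ ∈ C := fun q => C.inv_mem (hyC q)
  have hyinvq : ∀ q : G ⧸ N, (((y q)⁻¹ : G) : G ⧸ N) = q := by
    intro q
    rw [QuotientGroup.mk_inv, hyq, inv_inv]
  have hΛ : ∀ q : G ⧸ N, MemLocalIdeal M
      (omega (orb N (y q)⁻¹) χ * ν q - (orbCard N (y q)⁻¹ : ℂ)) := by
    intro q
    have h1 := star' q (orb N (y q)⁻¹) (orb_isInv N _) (orb_isIntegral N _)
      (by have := orb_suppOn N (y q)⁻¹; rwa [hyinvq q] at this)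
    rw [sum_orb] at h1
    exact h1
  have hΛunit : ∀ q : G ⧸ N, ¬ MemLocalIdeal M (omega (orb N (y q)⁻¹) χ) := by
    intro q hcon
    have h1 := memLocalIdeal_mul_right hMp hcon (hνR q)
    have h2 := memLocalIdeal_sub hMp h1 (hΛ q)
    rw [sub_sub_cancel] at h2
    exact hunit _ (hyinvC q) h2
  -- multiplicativity of `ν`
  have hνmul : ∀ a b : G ⧸ N, MemLocalIdeal M (ν (a * b) - ν a * ν b) := by
    intro a b
    set f₁ := orb N (y a)⁻¹ with hf₁
    set f₂ := orb N (y b)⁻¹ with hf₂
    set Λ₁ := omega f₁ χ with hΛ₁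
    set Λ₂ := omega f₂ χ with hΛ₂
    set c₁ : ℂ := (orbCard N (y a)⁻¹ : ℂ) with hc₁
    set c₂ : ℂ := (orbCard N (y b)⁻¹ : ℂ) with hc₂
    have hs₁ : SuppOn N a f₁ := by have := orb_suppOn N (y a)⁻¹; rwa [hyinvq a] at this
    have hs₂ : SuppOn N b f₂ := by have := orb_suppOn N (y b)⁻¹; rwa [hyinvq b] at this
    have h3 := star' (a * b) (conv f₁ f₂) (conv_isInv N (orb_isInv N _) (orb_isInv N _))
      (conv_isIntegral (orb_isIntegral N _) (orb_isIntegral N _)) (conv_suppOn N hs₁ hs₂)
    rw [omega_conv_rel hχc N hχN f₁ f₂ (orb_isInv N _), sum_conv, sum_orb, sum_orb] at h3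
    have h1 : MemLocalIdeal M (Λ₁ * ν a - c₁) := hΛ a
    have h2 : MemLocalIdeal M (Λ₂ * ν b - c₂) := hΛ b
    have hΛ₁R : MemLocalRing M Λ₁ := hμR _
    have hΛ₂R : MemLocalRing M Λ₂ := hμR _
    have hc₁R : MemLocalRing M c₁ := memLocalRing_natCast hMp _
    -- Λ₁Λ₂(ν(ab) - ν a ν b) ∈ 𝔪
    have h4 : MemLocalIdeal M (Λ₁ * (Λ₂ * (ν (a * b) - ν a * ν b))) := by
      have e : Λ₁ * (Λ₂ * (ν (a * b) - ν a * ν b))
          = (Λ₁ * Λ₂ * ν (a * b) - c₁ * c₂)
            - ((Λ₁ * ν a - c₁) * (Λ₂ * ν b) + c₁ * (Λ₂ * ν b - c₂)) := by ring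
      rw [e]
      refine memLocalIdeal_sub hMp h3 (memLocalIdeal_add hMp ?_ ?_)
      · exact memLocalIdeal_mul_right hMp h1 (memLocalRing_mul hMp hΛ₂R (hνR b))
      · exact memLocalIdeal_mul_left hMp hc₁R h2
    have hXR : MemLocalRing M (ν (a * b) - ν a * ν b) :=
      memLocalRing_sub hMp (hνR _) (memLocalRing_mul hMp (hνR a) (hνR b))
    rcases memLocalIdeal_of_mul_memLocalIdeal hMp hΛ₁R (memLocalRing_mul hMp hΛ₂R hXR) h4 with h | h
    · exact absurd h (hΛunit a)
    · rcases memLocalIdeal_of_mul_memLocalIdeal hMp hΛ₂R hXR h with h' | h'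
      · exact absurd h' (hΛunit b)
      · exact h'
  -- `ν 1 ≡ 1`
  have hν1 : MemLocalIdeal M (ν 1 - 1) := by
    have h1 := star' 1 (orb N 1) (orb_isInv N _) (orb_isIntegral N _)
      (by have := orb_suppOn N (1 : G); rwa [QuotientGroup.mk_one] at this)
    have e1 : omega (orb N (1 : G)) χ = 1 := by
      unfold omega
      simp only [orb_one, ite_mul, one_mul, zero_mul, Finset.sum_ite_eq', Finset.mem_univ, if_true]
      exact div_self hχ1
    have e2 : ∑ x : G, orb N (1 : G) x = 1 := by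
      simp only [orb_one, Finset.sum_ite_eq', Finset.mem_univ, if_true]
    rw [e1, e2, one_mul] at h1
    exact h1
  -- the lift
  obtain ⟨lam', hlamI, hlamν, hlam1⟩ := LinLift.exists_lift hM ν hνR hνmul hν1
  refine ⟨lam'.comp (QuotientGroup.mk' N), ?_, ?_⟩
  · intro n hn
    rw [MonoidHom.comp_apply, QuotientGroup.mk'_apply, (QuotientGroup.eq_one_iff n).mpr hn, map_one]
  · intro f hf hfI
    set χ' : G → ℂ := fun g => ((lam'.comp (QuotientGroup.mk' N) g : ℂˣ) : ℂ) * χ g with hχ'
    have hχ'1 : χ' 1 = χ 1 := by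
      rw [hχ']; simp
    -- the case of a function supported on a coset
    have hcoset : ∀ (q : G ⧸ N) (f : G → ℂ), IsInv N f → (∀ x, IsIntegral ℤ (f x)) →
        SuppOn N q f → MemLocalIdeal M (omega f χ' - ∑ x, f x) := by
      intro q f hf hfI hs
      have e1 : omega f χ' = ((lam' q : ℂˣ) : ℂ) * omega f χ := by
        unfold omega
        rw [hχ'1, ← mul_div_assoc, Finset.mul_sum]
        congr 1
        apply Finset.sum_congr rfl
        intro x _
        by_cases hx : f x = 0
        · rw [hx]; ring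
        · have := hs x hx
          rw [hχ']
          simp only [MonoidHom.comp_apply, QuotientGroup.mk'_apply]
          rw [this]; ring
      rw [e1]
      have hωR : MemLocalRing M (omega f χ) :=
        memLocalRing_of_isIntegral hMp (isIntegral_omega_rel hχc N hχN f hf hfI)
      have e2 : ((lam' q : ℂˣ) : ℂ) * omega f χ - ∑ x, f x
          = (((lam' q : ℂˣ) : ℂ) - ν q) * omega f χ + (omega f χ * ν q - ∑ x, f x) := by ring
      rw [e2]
      exact memLocalIdeal_add hMp (memLocalIdeal_mul_right hMp (hlamν q) hωR)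
        (star' q f hf hfI hs)
    -- decomposition into cosets
    set F : G ⧸ N → G → ℂ := fun q x => if (x : G ⧸ N) = q then f x else 0 with hFdef
    have hFsum : f = ∑ q : G ⧸ N, F q := by
      funext x
      rw [Finset.sum_apply]
      simp only [hFdef, Finset.sum_ite_eq, Finset.mem_univ, if_true]
    have hFinv : ∀ q, IsInv N (F q) := by
      intro q n hn x
      simp only [hFdef]
      have : ((n * x * n⁻¹ : G) : G ⧸ N) = (x : G ⧸ N) := by
        rw [QuotientGroup.mk_mul, QuotientGroup.mk_mul, (QuotientGroup.eq_one_iff n).mpr hn,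
          QuotientGroup.mk_inv, (QuotientGroup.eq_one_iff n).mpr hn]
        simp
      rw [this, hf n hn x]
    have hFI : ∀ q x, IsIntegral ℤ (F q x) := by
      intro q x
      simp only [hFdef]
      split_ifs
      · exact hfI x
      · exact isIntegral_zero
    have hFs : ∀ q, SuppOn N q (F q) := by
      intro q x hx
      simp only [hFdef] at hx
      by_contra hne
      rw [if_neg hne] at hx
      exact hx rfl
    have e3 : omega f χ' - ∑ x, f x = ∑ q : G ⧸ N, (omega (F q) χ' - ∑ x, F q x) := by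
      rw [Finset.sum_sub_distrib]
      congr 1
      · conv_lhs => rw [hFsum]
        exact Cfsg.Agent.Lib.Helper21.omega_sum _ _ _
      · conv_lhs => rw [hFsum]
        simp only [Finset.sum_apply]
        exact Finset.sum_comm
    rw [e3]
    exact memLocalIdeal_sum hMp _ _ (fun q _ => hcoset q (F q) (hFinv q) (hFI q) (hFs q))

section Central

variable {G : Type*} [Group G] [Fintype G]

theorem omega_orb (J : Subgroup G) (g : G) {χ : G → ℂ} (hχ : IsClassFunction G χ) :
    omega (orb J g) χ = (orbCard J g : ℂ) * χ g / χ 1 := by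
  classical
  unfold omega
  congr 1
  rw [← sum_orb, Finset.sum_mul]
  apply Finset.sum_congr rfl
  intro x _
  unfold orb
  by_cases hx : ∃ n ∈ J, n * g * n⁻¹ = x
  · rw [if_pos hx]
    obtain ⟨n, _, rfl⟩ := hx
    rw [hχ]
  · rw [if_neg hx]; ring

theorem orbCard_eq_index_sub (J : Subgroup G) (g : G) (hg : g ∈ J) :
    orbCard J g = (Subgroup.centralizer ({(⟨g, hg⟩ : J)} : Set J)).index := by
  rw [orbCard_eq_relIndex]
  unfold Subgroup.relIndex
  congr 1
  ext x
  rw [Subgroup.mem_subgroupOf, Subgroup.mem_centralizer_singleton_iff,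
    Subgroup.mem_centralizer_singleton_iff]
  constructor
  · intro h
    exact Subtype.ext h
  · intro h
    exact congrArg Subtype.val h

theorem centralChar_sub (J : Subgroup G) (g : G) (hg : g ∈ J) {χ : G → ℂ}
    (hχ : IsClassFunction G χ) :
    centralChar (fun j : J => χ j) ⟨g, hg⟩ = omega (orb J g) χ := by
  rw [omega_orb J g hχ, orbCard_eq_index_sub J g hg]
  rfl

theorem centralChar_one_sub (J : Subgroup G) (g : G) (hg : g ∈ J) :
    centralChar (fun _ : J => (1 : ℂ)) ⟨g, hg⟩ = ∑ x, orb J g x := by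
  rw [sum_orb, orbCard_eq_index_sub J g hg]
  unfold centralChar
  simp

theorem centralChar_top (g : G) {χ : G → ℂ} (hχ : IsClassFunction G χ) :
    centralChar χ g = omega (orb ⊤ g) χ := by
  rw [omega_orb ⊤ g hχ, orbCard_eq_relIndex, Subgroup.relIndex_top_right]
  rfl

theorem centralChar_one_top (g : G) :
    centralChar (fun _ : G => (1 : ℂ)) g = ∑ x, orb ⊤ g x := by
  rw [sum_orb, orbCard_eq_relIndex, Subgroup.relIndex_top_right]
  unfold centralChar
  simp

theorem orb_isInv_of_le {N J : Subgroup G} (h : N ≤ J) (g : G) : IsInv N (orb J g) :=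
  fun n hn x => orb_isInv J g n (h hn) x

end Central

/-- **Extension in the principal block.**  If `G = N C_G(P)` for a Sylow `p`-subgroup `P` of the
normal subgroup `N`, then every irreducible character of the principal block of `N` which extends to
`G` has an extension lying in the principal block of every intermediate subgroup. -/
theorem exists_principal_extension {G : Type*} [Group G] [Finite G] (p : ℕ) [Fact p.Prime]
    (M : Ideal AlgInt) (hM : IsPModular p M) (N : Subgroup G) [N.Normal] (P : Sylow p N)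
    (hcov : N ⊔ Subgroup.centralizer (((P : Subgroup N).map N.subtype : Subgroup G) : Set G) = ⊤)
    (θ : IrrCharacter N) (hθ : θ ∈ principalBlock M N)
    (hext : ∃ ψ : IrrCharacter G, ∀ x : N, (ψ : G → ℂ) x = (θ : N → ℂ) x) :
    ∃ χ : IrrCharacter G, χ ∈ principalBlock M G ∧ (∀ x : N, (χ : G → ℂ) x = (θ : N → ℂ) x) ∧
      ∀ J : Subgroup G, N ≤ J → ∃ ξ : IrrCharacter J, ξ ∈ principalBlock M J ∧
        ∀ y : J, (ξ : J → ℂ) y = (χ : G → ℂ) y := by
  classical
  haveI : Fintype G := Fintype.ofFinite G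
  have hMp : M.IsPrime := hM.2.1.isPrime
  obtain ⟨ψ, hψ⟩ := hext
  have hχc : IsCharacter G (ψ : G → ℂ) := Cfsg.Agent.Lib.Helper82.IsIrrCharacter.isCharacter ψ.2
  have hres : (fun n : N => (ψ : G → ℂ) n) = (θ : N → ℂ) := funext hψ
  have hχN : IsIrrCharacter N (fun n : N => (ψ : G → ℂ) n) := by rw [hres]; exact θ.2
  have hθ' : SameBlock M (fun _ : N => (1 : ℂ)) (fun n : N => (ψ : G → ℂ) n) := by
    rw [hres]; exact hθ
  obtain ⟨lam, hlamN, hcong⟩ := exists_twist p M hM N P hcov (ψ : G → ℂ) hχc hχN hθ'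
  set χ' : G → ℂ := fun g => ((lam g : ℂˣ) : ℂ) * (ψ : G → ℂ) g with hχ'
  have hlamirr := Cfsg.Agent.Lib.Helper05.isIrrCharacter_of_hom lam
  have hχ'irr : IsIrrCharacter G χ' :=
    Cfsg.Agent.Lib.Helper83.isIrrCharacter_mul_linear
      (Cfsg.Agent.Lib.Helper82.IsIrrCharacter.isCharacter hlamirr) (by simp) ψ.2
  have hχ'c : IsCharacter G χ' := Cfsg.Agent.Lib.Helper82.IsIrrCharacter.isCharacter hχ'irr
  have hχ'cl : IsClassFunction G χ' := Cfsg.Agent.Lib.Helper82.IsCharacter.isClassFunction hχ'c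
  have hχ'N : ∀ x : N, χ' x = (θ : N → ℂ) x := by
    intro x
    show ((lam (x : G) : ℂˣ) : ℂ) * (ψ : G → ℂ) x = (θ : N → ℂ) x
    rw [hlamN x x.2, ← hψ x]
    simp
  refine ⟨⟨χ', hχ'irr⟩, ?_, hχ'N, ?_⟩
  · -- membership in the principal block of `G`
    show SameBlock M (fun _ : G => (1 : ℂ)) χ'
    intro g
    rw [centralChar_one_top, centralChar_top g hχ'cl]
    have := hcong (orb ⊤ g) (orb_isInv_of_le le_top g) (orb_isIntegral ⊤ g)
    have h2 := memLocalIdeal_neg this
    rwa [neg_sub] at h2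
  · intro J hNJ
    haveI : Fintype J := Fintype.ofFinite J
    haveI : Fintype (N.subgroupOf J) := Fintype.ofFinite _
    have hJc : IsCharacter J (fun j : J => χ' j) :=
      Cfsg.Agent.Lib.Helper05.isCharacter_restrict J hχ'c
    have hNJirr : IsIrrCharacter (N.subgroupOf J) (fun h : N.subgroupOf J => χ' ((h : J) : G)) := by
      have h1 := Cfsg.Agent.S0173.isIrrCharacter_comp_mulEquiv
        (Subgroup.subgroupOfEquivOfLe hNJ) θ.2
      have h2 : (fun h : N.subgroupOf J => (θ : N → ℂ) (Subgroup.subgroupOfEquivOfLe hNJ h))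
          = (fun h : N.subgroupOf J => χ' ((h : J) : G)) := by
        funext h
        rw [← hχ'N]
        rfl
      rw [h2] at h1
      exact h1
    have hJirr : IsIrrCharacter J (fun j : J => χ' j) :=
      Cfsg.Agent.Lib.Helper80.isIrrCharacter_of_restrict_irr (N.subgroupOf J) hJc hNJirr
    refine ⟨⟨fun j : J => χ' j, hJirr⟩, ?_, fun y => rfl⟩
    show SameBlock M (fun _ : J => (1 : ℂ)) (fun j : J => χ' j)
    rintro ⟨g, hg⟩
    rw [centralChar_one_sub J g hg, centralChar_sub J g hg hχ'cl]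
    have := hcong (orb J g) (orb_isInv_of_le hNJ g) (orb_isIntegral J g)
    have h2 := memLocalIdeal_neg this
    rwa [neg_sub] at h2

end Cfsg.Agent.Lib.Helper05.PrincExt
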