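import Mathlib
import Cfsg.Prelude.Def_Blocks
import Cfsg.Agent.Lib.Helper05.PrincExt
import Cfsg.Agent.Lib.Helper05.CharOrtho

/-!
# Invariance of principal block characters (helper5)

`N ⊴ G`, `θ` an irreducible character in the principal block of `N`, `x ∈ G` such that the `N`-orbits
of `x` and `x⁻¹` have size prime to `p`.  Then `θ` is invariant under conjugation by `x`.
-/

set_option autoImplicit false
set_option linter.unusedSectionVars false
set_option linter.unusedVariables false
set_option linter.style.haveILetI false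

namespace Cfsg.Agent.Lib.Helper05.ADInv

open Cfsg Cfsg.Agent.Lib.Helper82 Cfsg.Agent.Lib.Helper05.RelCent
open Cfsg.Agent.Lib.Helper05.PrincExt
open Cfsg.Agent.Lib.Helper21 (omega conv)

variable {G : Type*} [Group G] [Fintype G]

/-- extension by zero of a function on a subgroup -/
noncomputable def ext0 (N : Subgroup G) (θ : N → ℂ) : G → ℂ := by
  classical exact fun g => if h : g ∈ N then θ ⟨g, h⟩ else 0

theorem ext0_coe (N : Subgroup G) (θ : N → ℂ) (n : N) : ext0 N θ (n : G) = θ n := by
  unfold ext0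
  rw [dif_pos n.2]

theorem ext0_mem (N : Subgroup G) (θ : N → ℂ) (g : G) (hg : g ∈ N) : ext0 N θ g = θ ⟨g, hg⟩ := by
  unfold ext0
  rw [dif_pos hg]

theorem ext0_not_mem (N : Subgroup G) (θ : N → ℂ) (g : G) (hg : g ∉ N) : ext0 N θ g = 0 := by
  unfold ext0
  rw [dif_neg hg]

theorem ext0_restrict (N : Subgroup G) (θ : N → ℂ) : (fun n : N => ext0 N θ (n : G)) = θ :=
  funext (ext0_coe N θ)

theorem ext0_isInv (N : Subgroup G) (θ : N → ℂ) (hθ : IsClassFunction N θ) :
    IsInv N (ext0 N θ) := by
  intro n hn g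
  by_cases hg : g ∈ N
  · have h1 : n * g * n⁻¹ ∈ N := N.mul_mem (N.mul_mem hn hg) (N.inv_mem hn)
    rw [ext0_mem N θ _ h1, ext0_mem N θ _ hg]
    have := hθ ⟨g, hg⟩ ⟨n, hn⟩
    rw [← this]
    rfl
  · have h1 : n * g * n⁻¹ ∉ N := by
      intro h
      apply hg
      have : g = n⁻¹ * (n * g * n⁻¹) * n := by group
      rw [this]
      exact N.mul_mem (N.mul_mem (N.inv_mem hn) h) hn
    rw [ext0_not_mem N θ _ h1, ext0_not_mem N θ _ hg]

/-- the twisted class sum of an irreducible representation not isomorphic to its twist has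
trace zero -/
theorem twisted_sum_eq_zero (N : Subgroup G) [N.Normal] [Fintype N] {d : ℕ}
    (ρ : Representation ℂ N (Fin d → ℂ)) (hρ : ρ.IsIrreducible) (x : G)
    (hne : (fun n : N => ρ.character (MulAut.conjNormal x n)) ≠ ρ.character) :
    ∑ n : N, orb N x ((n : G) * x) * ρ.character n = 0 := by
  classical
  let c : N ≃* N := MulAut.conjNormal x
  let ρ' : Representation ℂ N (Fin d → ℂ) := MonoidHom.comp ρ c.toMonoidHom
  have hρ' : ∀ n, ρ' n = ρ (c n) := fun _ => rfl
  have hirr : IsIrrCharacter N ρ.character := ⟨d, ρ, hρ, rfl⟩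
  have hirr' : IsIrrCharacter N ρ'.character :=
    Cfsg.Agent.S0173.isIrrCharacter_comp_mulEquiv c hirr
  have hne' : ρ.character ≠ ρ'.character := fun h => hne h.symm
  have h0 := Cfsg.Agent.Lib.Helper05.classInner_irr_ne hirr hirr' hne'
  rw [Cfsg.Agent.Lib.Helper05.classInner_char_eq_finrank ρ ρ'] at h0
  have h0' : Module.finrank ℂ (Representation.IntertwiningMap ρ' ρ) = 0 := by exact_mod_cast h0
  have hsub : ∀ T : Representation.IntertwiningMap ρ' ρ, T = 0 :=
    finrank_zero_iff_forall_zero.mp h0'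
  set a : N → ℂ := fun n => orb N x ((n : G) * x) with ha
  let T : Module.End ℂ (Fin d → ℂ) := ∑ n : N, a n • ρ n
  have hT : ∀ s : N, T * ρ' s = ρ s * T := by
    intro s
    have hcs : ((c s : N) : G) = x * s * x⁻¹ := MulAut.conjNormal_apply x s
    rw [hρ']
    simp only [T, Finset.sum_mul, Finset.mul_sum, smul_mul_assoc, mul_smul_comm, ← map_mul]
    let b : N → ℂ := fun m => orb N x ((m : G) * x * (s : G)⁻¹)
    have e1 : ∀ n : N, a n = b (n * c s) := by
      intro n
      simp only [ha, b]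
      congr 1
      rw [Subgroup.coe_mul, hcs]
      group
    have e2 : ∀ n : N, a n = b (s * n) := by
      intro n
      simp only [ha, b]
      have h1 := orb_isInv N x (s : G) s.2 ((n : G) * x)
      rw [← h1]
      congr 1
      rw [Subgroup.coe_mul]
      group
    calc ∑ n : N, a n • ρ (n * c s) = ∑ n : N, b (n * c s) • ρ (n * c s) := by
          apply Finset.sum_congr rfl; intro n _; rw [e1]
      _ = ∑ m : N, b m • ρ m := Equiv.sum_comp (Equiv.mulRight (c s)) (fun m => b m • ρ m)
      _ = ∑ n : N, b (s * n) • ρ (s * n) :=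
          (Equiv.sum_comp (Equiv.mulLeft s) (fun m => b m • ρ m)).symm
      _ = ∑ n : N, a n • ρ (s * n) := by
          apply Finset.sum_congr rfl; intro n _; rw [e2]
  let T' : Representation.IntertwiningMap ρ' ρ := ⟨T, fun s => hT s⟩
  have hT0 : T = 0 := by
    have := hsub T'
    have h2 := congrArg Representation.IntertwiningMap.toLinearMap this
    exact h2
  have htr := congrArg (LinearMap.trace ℂ (Fin d → ℂ)) hT0
  simp only [T, map_sum, map_smul, smul_eq_mul, map_zero] at htr
  exact htr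

/-- the class function `conv (orb x) (orb x⁻¹)` paired with an `N`-invariant function `χ` -/
theorem sum_conv_orb_mul (N : Subgroup G) (x : G) (χ : G → ℂ) (hχ : IsInv N χ) :
    ∑ g, conv (orb N x) (orb N x⁻¹) g * χ g
      = (orbCard N x⁻¹ : ℂ) * ∑ g, orb N x (g * x) * χ g := by
  classical
  set S' : ℂ := ∑ y, orb N x y * χ (y * x⁻¹) with hS'
  have hS'eq : S' = ∑ g, orb N x (g * x) * χ g := by
    rw [hS', ← Equiv.sum_comp (Equiv.mulRight x)]
    apply Finset.sum_congr rfl
    intro g _
    simp only [Equiv.coe_mulRight, mul_inv_cancel_right]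
  have hw : ∀ w : G, ∑ y, orb N x y * orb N x⁻¹ w * χ (y * w) = orb N x⁻¹ w * S' := by
    intro w
    by_cases h : ∃ u ∈ N, u * x⁻¹ * u⁻¹ = w
    · obtain ⟨u, hu, rfl⟩ := h
      have h1 : orb N x⁻¹ (u * x⁻¹ * u⁻¹) = 1 := by
        unfold orb
        rw [if_pos ⟨u, hu, rfl⟩]
      rw [h1, one_mul, hS', ← Equiv.sum_comp (MulAut.conj u).toEquiv]
      apply Finset.sum_congr rfl
      intro y _
      simp only [MulEquiv.toEquiv_eq_coe, MulEquiv.coe_toEquiv, MulAut.conj_apply, mul_one]
      rw [orb_isInv N x u hu y]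
      have e : u * y * u⁻¹ * (u * x⁻¹ * u⁻¹) = u * (y * x⁻¹) * u⁻¹ := by group
      rw [e, hχ u hu]
    · have h1 : orb N x⁻¹ w = 0 := by
        unfold orb
        rw [if_neg h]
      rw [h1, zero_mul]
      apply Finset.sum_eq_zero
      intro y _
      ring
  calc ∑ g, conv (orb N x) (orb N x⁻¹) g * χ g
      = ∑ g, ∑ y, orb N x y * orb N x⁻¹ (y⁻¹ * g) * χ g := by
        apply Finset.sum_congr rfl
        intro g _
        simp only [conv]
        rw [Finset.sum_mul]
    _ = ∑ y, ∑ g, orb N x y * orb N x⁻¹ (y⁻¹ * g) * χ g := Finset.sum_comm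
    _ = ∑ y, ∑ w, orb N x y * orb N x⁻¹ w * χ (y * w) := by
        apply Finset.sum_congr rfl
        intro y _
        rw [← Equiv.sum_comp (Equiv.mulLeft y)]
        apply Finset.sum_congr rfl
        intro w _
        simp only [Equiv.coe_mulLeft, inv_mul_cancel_left]
    _ = ∑ w, ∑ y, orb N x y * orb N x⁻¹ w * χ (y * w) := Finset.sum_comm
    _ = ∑ w, orb N x⁻¹ w * S' := Finset.sum_congr rfl (fun w _ => hw w)
    _ = (orbCard N x⁻¹ : ℂ) * ∑ g, orb N x (g * x) * χ g := by
        rw [← Finset.sum_mul, sum_orb, hS'eq]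

/-- **Invariance.**  An irreducible character in the principal block of the normal subgroup `N` is
invariant under every `x` such that the `N`-orbits of `x` and `x⁻¹` have size prime to `p`. -/
theorem invariant_of_principal (p : ℕ) [Fact p.Prime] (M : Ideal AlgInt) (hM : IsPModular p M)
    (N : Subgroup G) [N.Normal] (θ : N → ℂ) (hθ : IsIrrCharacter N θ)
    (hb : SameBlock M (fun _ : N => (1 : ℂ)) θ) (x : G)
    (hx : ¬ p ∣ orbCard N x) (hx' : ¬ p ∣ orbCard N x⁻¹) (n : N) :
    θ (MulAut.conjNormal x n) = θ n := by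
  classical
  haveI : Fintype N := Fintype.ofFinite N
  have hMp : M.IsPrime := hM.2.1.isPrime
  have hp : p.Prime := Fact.out
  revert n
  by_contra hcon
  have hne : (fun n : N => θ (MulAut.conjNormal x n)) ≠ θ := by
    intro h
    apply hcon
    intro n
    exact congrFun h n
  have hθcl : IsClassFunction N θ :=
    Cfsg.Agent.Lib.Helper82.IsCharacter.isClassFunction
      (Cfsg.Agent.Lib.Helper82.IsIrrCharacter.isCharacter hθ)
  have hS : ∑ n : N, orb N x ((n : G) * x) * θ n = 0 := by
    obtain ⟨d, ρ, hρ, rfl⟩ := hθ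
    exact twisted_sum_eq_zero N ρ hρ x hne
  set χ : G → ℂ := ext0 N θ with hχ
  have hχinv : IsInv N χ := ext0_isInv N θ hθcl
  have hχres : (fun n : N => χ (n : G)) = θ := ext0_restrict N θ
  set f : G → ℂ := conv (orb N x) (orb N x⁻¹) with hf
  have hsupp : ∀ g, g ∉ N → f g = 0 := by
    intro g hg
    by_contra hne0
    have := conv_suppOn N (orb_suppOn N x) (orb_suppOn N x⁻¹) g hne0
    rw [QuotientGroup.mk_inv, mul_inv_cancel] at this
    exact hg ((QuotientGroup.eq_one_iff g).mp this)
  have h1 := omega_sub_sum_mem hMp N (χ := χ) (by rw [hχres]; exact hθ) (by rw [hχres]; exact hb) f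
    (conv_isInv N (orb_isInv N x) (orb_isInv N x⁻¹))
    (fun g => memLocalRing_of_isIntegral hMp
      (conv_isIntegral (orb_isIntegral N x) (orb_isIntegral N x⁻¹) g)) hsupp
  have h2 : omega f χ = 0 := by
    unfold omega
    rw [hf, sum_conv_orb_mul N x χ hχinv]
    rw [sum_eq_sum_subgroup N (fun g => orb N x (g * x) * χ g)
      (by intro g hg; rw [hχ, ext0_not_mem N θ g hg, mul_zero])]
    have : ∑ n : N, orb N x ((n : G) * x) * χ (n : G) = 0 := by
      rw [← hS]
      apply Finset.sum_congr rfl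
      intro n _
      rw [hχ, ext0_coe]
    rw [this, mul_zero, zero_div]
  rw [h2, hf, sum_conv, sum_orb, sum_orb, zero_sub] at h1
  have h3 := memLocalIdeal_neg h1
  rw [neg_neg, ← Nat.cast_mul, memLocalIdeal_natCast_iff hM] at h3
  rcases (Nat.Prime.dvd_mul hp).mp h3 with h | h
  · exact hx h
  · exact hx' h

end Cfsg.Agent.Lib.Helper05.ADInv
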