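import Mathlib
import Cfsg.Prelude.Def_Blocks
import Cfsg.Agent.Lib.Helper05.PrincExt

/-!
# Extensions in the principal block, general form (helper5)

The same as `PrincExt`, with the Sylow subgroup replaced by an arbitrary subgroup `C` with `G = N C`
all of whose elements have `N`-orbits of size prime to `p`.
-/

set_option autoImplicit false
set_option linter.unusedSectionVars false
set_option linter.unusedVariables false
set_option linter.style.haveILetI false

namespace Cfsg.Agent.Lib.Helper05.PrincExtGen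

open Cfsg Cfsg.Agent.Lib.Helper82 Cfsg.Agent.Lib.Helper05.RelCent
open Cfsg.Agent.Lib.Helper05.PrincExt
open Cfsg.Agent.Lib.Helper21 (omega conv)

/-- **Core theorem.**  A twist of `χ` by a linear character of `G/N` has relative central character
congruent to the augmentation. -/
theorem exists_twist_gen {G : Type*} [Group G] [Fintype G] (p : ℕ) [Fact p.Prime] (M : Ideal AlgInt)
    (hM : IsPModular p M) (N : Subgroup G) [N.Normal] (C : Subgroup G)
    (hcov : N ⊔ C = ⊤) (hCp : ∀ g ∈ C, ¬ p ∣ orbCard N g)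
    (χ : G → ℂ) (hχc : IsCharacter G χ) (hχN : IsIrrCharacter N (fun n : N => χ n))
    (hθ : SameBlock M (fun _ : N => (1 : ℂ)) (fun n : N => χ n)) :
    ∃ lam : G →* ℂˣ, (∀ n ∈ N, lam n = 1) ∧
      ∀ (f : G → ℂ), IsInv N f → (∀ x, IsIntegral ℤ (f x)) →
        MemLocalIdeal M (omega f (fun g => ((lam g : ℂˣ) : ℂ) * χ g) - ∑ x, f x) := by
  classical
  haveI : Fintype (G ⧸ N) := Fintype.ofFinite _
  have hMp : M.IsPrime := hM.2.1.isPrime
  have hp : p.Prime := Fact.out
  have hχ1 : χ 1 ≠ 0 := by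
    have := Cfsg.Agent.Lib.Helper82.IsIrrCharacter.apply_one_ne_zero hχN
    simpa using this
  -- representatives of the cosets in `C`
  have hrep : ∀ q : G ⧸ N, ∃ y ∈ C, (y : G ⧸ N) = q⁻¹ := by
    intro q
    obtain ⟨g, rfl⟩ := QuotientGroup.mk_surjective q
    have hg : g⁻¹ ∈ N ⊔ C := by rw [hcov]; trivial
    rw [← SetLike.mem_coe, Subgroup.normal_mul] at hg
    obtain ⟨n, hn, c, hc, hnc⟩ := Set.mem_mul.mp hg
    refine ⟨c, hc, ?_⟩
    have : c = n⁻¹ * g⁻¹ := by rw [← hnc]; group
    rw [this, QuotientGroup.mk_mul, (QuotientGroup.eq_one_iff n⁻¹).mpr (N.inv_mem hn), one_mul,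
      QuotientGroup.mk_inv]
  choose y hyC hyq using hrep
  have hunit : ∀ g ∈ C, ¬ MemLocalIdeal M ((orbCard N g : ℕ) : ℂ) := by
    intro g hg
    rw [memLocalIdeal_natCast_iff hM]
    exact hCp g hg
  have hc0 : ∀ g ∈ C, ((orbCard N g : ℕ) : ℂ) ≠ 0 := by
    intro g hg h0
    apply hunit g hg
    rw [h0]; exact memLocalIdeal_zero hMp
  have hμint : ∀ g : G, IsIntegral ℤ (omega (orb N g) χ) := fun g =>
    isIntegral_omega_rel hχc N hχN _ (orb_isInv N g) (orb_isIntegral N g)
  have hμR : ∀ g : G, MemLocalRing M (omega (orb N g) χ) := fun g =>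
    memLocalRing_of_isIntegral hMp (hμint g)
  set ν : G ⧸ N → ℂ := fun q => omega (orb N (y q)) χ / (orbCard N (y q) : ℂ) with hν
  have hcinvR : ∀ g ∈ C, MemLocalRing M ((orbCard N g : ℂ))⁻¹ := fun g hg =>
    memLocalRing_inv (memLocalRing_natCast hMp _) (hunit g hg)
  have hνR : ∀ q, MemLocalRing M (ν q) := by
    intro q
    rw [hν]
    simp only [div_eq_mul_inv]
    exact memLocalRing_mul hMp (hμR _) (hcinvR _ (hyC q))
  -- (★')
  have star' : ∀ (q : G ⧸ N) (f : G → ℂ), IsInv N f → (∀ x, IsIntegral ℤ (f x)) → SuppOn N q f →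
      MemLocalIdeal M (omega f χ * ν q - ∑ x, f x) := by
    intro q f hf hfI hs
    have h1 := star hMp N hχc hχN hθ q f hf hfI hs (y q) (hyq q)
    have h2 := memLocalIdeal_mul_right hMp h1 (hcinvR _ (hyC q))
    have h3 : (omega f χ * omega (orb N (y q)) χ - (∑ x, f x) * (orbCard N (y q) : ℂ)) *
        ((orbCard N (y q) : ℂ))⁻¹ = omega f χ * ν q - ∑ x, f x := by
      rw [hν]
      have := hc0 _ (hyC q)
      field_simp
    rw [h3] at h2
    exact h2
  -- test functions with unit augmentation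
  have hyinvC : ∀ q, (y q)⁻¹ ∈ C := fun q => C.inv_mem (hyC q)
  have hyinvq : ∀ q : G ⧸ N, (((y q)⁻¹ : G) : G ⧸ N) = q := by
    intro q
    rw [QuotientGroup.mk_inv, hyq, inv_inv]
  have hΛ : ∀ q : G ⧸ N, MemLocalIdeal M
      (omega (orb N (y q)⁻¹) χ * ν q - (orbCard N (y q)⁻¹ : ℂ)) := by
    intro q
    have h1 := star' q (orb N (y q)⁻¹) (orb_isInv N _) (orb_isIntegral N _)
      (by have := orb_suppOn N (y q)⁻¹; rwa [hyinvq q] at this)
    rw [sum_orb] at h1
    exact h1
  have hΛunit : ∀ q : G ⧸ N, ¬ MemLocalIdeal M (omega (orb N (y q)⁻¹) χ) := by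
    intro q hcon
    have h1 := memLocalIdeal_mul_right hMp hcon (hνR q)
    have h2 := memLocalIdeal_sub hMp h1 (hΛ q)
    rw [sub_sub_cancel] at h2
    exact hunit _ (hyinvC q) h2
  -- multiplicativity of `ν`
  have hνmul : ∀ a b : G ⧸ N, MemLocalIdeal M (ν (a * b) - ν a * ν b) := by
    intro a b
    set f₁ := orb N (y a)⁻¹ with hf₁
    set f₂ := orb N (y b)⁻¹ with hf₂
    set Λ₁ := omega f₁ χ with hΛ₁
    set Λ₂ := omega f₂ χ with hΛ₂
    set c₁ : ℂ := (orbCard N (y a)⁻¹ : ℂ) with hc₁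
    set c₂ : ℂ := (orbCard N (y b)⁻¹ : ℂ) with hc₂
    have hs₁ : SuppOn N a f₁ := by have := orb_suppOn N (y a)⁻¹; rwa [hyinvq a] at this
    have hs₂ : SuppOn N b f₂ := by have := orb_suppOn N (y b)⁻¹; rwa [hyinvq b] at this
    have h3 := star' (a * b) (conv f₁ f₂) (conv_isInv N (orb_isInv N _) (orb_isInv N _))
      (conv_isIntegral (orb_isIntegral N _) (orb_isIntegral N _)) (conv_suppOn N hs₁ hs₂)
    rw [omega_conv_rel hχc N hχN f₁ f₂ (orb_isInv N _), sum_conv, sum_orb, sum_orb] at h3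
    have h1 : MemLocalIdeal M (Λ₁ * ν a - c₁) := hΛ a
    have h2 : MemLocalIdeal M (Λ₂ * ν b - c₂) := hΛ b
    have hΛ₁R : MemLocalRing M Λ₁ := hμR _
    have hΛ₂R : MemLocalRing M Λ₂ := hμR _
    have hc₁R : MemLocalRing M c₁ := memLocalRing_natCast hMp _
    -- Λ₁Λ₂(ν(ab) - ν a ν b) ∈ 𝔪
    have h4 : MemLocalIdeal M (Λ₁ * (Λ₂ * (ν (a * b) - ν a * ν b))) := by
      have e : Λ₁ * (Λ₂ * (ν (a * b) - ν a * ν b))
          = (Λ₁ * Λ₂ * ν (a * b) - c₁ * c₂)
            - ((Λ₁ * ν a - c₁) * (Λ₂ * ν b) + c₁ * (Λ₂ * ν b - c₂)) := by ring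
      rw [e]
      refine memLocalIdeal_sub hMp h3 (memLocalIdeal_add hMp ?_ ?_)
      · exact memLocalIdeal_mul_right hMp h1 (memLocalRing_mul hMp hΛ₂R (hνR b))
      · exact memLocalIdeal_mul_left hMp hc₁R h2
    have hXR : MemLocalRing M (ν (a * b) - ν a * ν b) :=
      memLocalRing_sub hMp (hνR _) (memLocalRing_mul hMp (hνR a) (hνR b))
    rcases memLocalIdeal_of_mul_memLocalIdeal hMp hΛ₁R (memLocalRing_mul hMp hΛ₂R hXR) h4 with h | h
    · exact absurd h (hΛunit a)
    · rcases memLocalIdeal_of_mul_memLocalIdeal hMp hΛ₂R hXR h with h' | h'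
      · exact absurd h' (hΛunit b)
      · exact h'
  -- `ν 1 ≡ 1`
  have hν1 : MemLocalIdeal M (ν 1 - 1) := by
    have h1 := star' 1 (orb N 1) (orb_isInv N _) (orb_isIntegral N _)
      (by have := orb_suppOn N (1 : G); rwa [QuotientGroup.mk_one] at this)
    have e1 : omega (orb N (1 : G)) χ = 1 := by
      unfold omega
      simp only [orb_one, ite_mul, one_mul, zero_mul, Finset.sum_ite_eq', Finset.mem_univ, if_true]
      exact div_self hχ1
    have e2 : ∑ x : G, orb N (1 : G) x = 1 := by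
      simp only [orb_one, Finset.sum_ite_eq', Finset.mem_univ, if_true]
    rw [e1, e2, one_mul] at h1
    exact h1
  -- the lift
  obtain ⟨lam', hlamI, hlamν, hlam1⟩ := LinLift.exists_lift hM ν hνR hνmul hν1
  refine ⟨lam'.comp (QuotientGroup.mk' N), ?_, ?_⟩
  · intro n hn
    rw [MonoidHom.comp_apply, QuotientGroup.mk'_apply, (QuotientGroup.eq_one_iff n).mpr hn, map_one]
  · intro f hf hfI
    set χ' : G → ℂ := fun g => ((lam'.comp (QuotientGroup.mk' N) g : ℂˣ) : ℂ) * χ g with hχ'
    have hχ'1 : χ' 1 = χ 1 := by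
      rw [hχ']; simp
    -- the case of a function supported on a coset
    have hcoset : ∀ (q : G ⧸ N) (f : G → ℂ), IsInv N f → (∀ x, IsIntegral ℤ (f x)) →
        SuppOn N q f → MemLocalIdeal M (omega f χ' - ∑ x, f x) := by
      intro q f hf hfI hs
      have e1 : omega f χ' = ((lam' q : ℂˣ) : ℂ) * omega f χ := by
        unfold omega
        rw [hχ'1, ← mul_div_assoc, Finset.mul_sum]
        congr 1
        apply Finset.sum_congr rfl
        intro x _
        by_cases hx : f x = 0
        · rw [hx]; ring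
        · have := hs x hx
          rw [hχ']
          simp only [MonoidHom.comp_apply, QuotientGroup.mk'_apply]
          rw [this]; ring
      rw [e1]
      have hωR : MemLocalRing M (omega f χ) :=
        memLocalRing_of_isIntegral hMp (isIntegral_omega_rel hχc N hχN f hf hfI)
      have e2 : ((lam' q : ℂˣ) : ℂ) * omega f χ - ∑ x, f x
          = (((lam' q : ℂˣ) : ℂ) - ν q) * omega f χ + (omega f χ * ν q - ∑ x, f x) := by ring
      rw [e2]
      exact memLocalIdeal_add hMp (memLocalIdeal_mul_right hMp (hlamν q) hωR)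
        (star' q f hf hfI hs)
    -- decomposition into cosets
    set F : G ⧸ N → G → ℂ := fun q x => if (x : G ⧸ N) = q then f x else 0 with hFdef
    have hFsum : f = ∑ q : G ⧸ N, F q := by
      funext x
      rw [Finset.sum_apply]
      simp only [hFdef, Finset.sum_ite_eq, Finset.mem_univ, if_true]
    have hFinv : ∀ q, IsInv N (F q) := by
      intro q n hn x
      simp only [hFdef]
      have : ((n * x * n⁻¹ : G) : G ⧸ N) = (x : G ⧸ N) := by
        rw [QuotientGroup.mk_mul, QuotientGroup.mk_mul, (QuotientGroup.eq_one_iff n).mpr hn,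
          QuotientGroup.mk_inv, (QuotientGroup.eq_one_iff n).mpr hn]
        simp
      rw [this, hf n hn x]
    have hFI : ∀ q x, IsIntegral ℤ (F q x) := by
      intro q x
      simp only [hFdef]
      split_ifs
      · exact hfI x
      · exact isIntegral_zero
    have hFs : ∀ q, SuppOn N q (F q) := by
      intro q x hx
      simp only [hFdef] at hx
      by_contra hne
      rw [if_neg hne] at hx
      exact hx rfl
    have e3 : omega f χ' - ∑ x, f x = ∑ q : G ⧸ N, (omega (F q) χ' - ∑ x, F q x) := by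
      rw [Finset.sum_sub_distrib]
      congr 1
      · conv_lhs => rw [hFsum]
        exact Cfsg.Agent.Lib.Helper21.omega_sum _ _ _
      · conv_lhs => rw [hFsum]
        simp only [Finset.sum_apply]
        exact Finset.sum_comm
    rw [e3]
    exact memLocalIdeal_sum hMp _ _ (fun q _ => hcoset q (F q) (hFinv q) (hFI q) (hFs q))

/-- **Extension in the principal block.**  If `G = N C_G(P)` for a Sylow `p`-subgroup `P` of the
normal subgroup `N`, then every irreducible character of the principal block of `N` which extends to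
`G` has an extension lying in the principal block of every intermediate subgroup. -/
theorem exists_principal_extension_gen {G : Type*} [Group G] [Finite G] (p : ℕ) [Fact p.Prime]
    (M : Ideal AlgInt) (hM : IsPModular p M) (N : Subgroup G) [N.Normal] (C : Subgroup G)
    (hcov : N ⊔ C = ⊤) (hCp : ∀ g ∈ C, ¬ p ∣ Cfsg.Agent.Lib.Helper05.RelCent.orbCard N g)
    (θ : IrrCharacter N) (hθ : θ ∈ principalBlock M N)
    (hext : ∃ ψ : IrrCharacter G, ∀ x : N, (ψ : G → ℂ) x = (θ : N → ℂ) x) :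
    ∃ χ : IrrCharacter G, χ ∈ principalBlock M G ∧ (∀ x : N, (χ : G → ℂ) x = (θ : N → ℂ) x) ∧
      ∀ J : Subgroup G, N ≤ J → ∃ ξ : IrrCharacter J, ξ ∈ principalBlock M J ∧
        ∀ y : J, (ξ : J → ℂ) y = (χ : G → ℂ) y := by
  classical
  haveI : Fintype G := Fintype.ofFinite G
  have hMp : M.IsPrime := hM.2.1.isPrime
  obtain ⟨ψ, hψ⟩ := hext
  have hχc : IsCharacter G (ψ : G → ℂ) := Cfsg.Agent.Lib.Helper82.IsIrrCharacter.isCharacter ψ.2
  have hres : (fun n : N => (ψ : G → ℂ) n) = (θ : N → ℂ) := funext hψ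
  have hχN : IsIrrCharacter N (fun n : N => (ψ : G → ℂ) n) := by rw [hres]; exact θ.2
  have hθ' : SameBlock M (fun _ : N => (1 : ℂ)) (fun n : N => (ψ : G → ℂ) n) := by
    rw [hres]; exact hθ
  obtain ⟨lam, hlamN, hcong⟩ := exists_twist_gen p M hM N C hcov hCp (ψ : G → ℂ) hχc hχN hθ'
  set χ' : G → ℂ := fun g => ((lam g : ℂˣ) : ℂ) * (ψ : G → ℂ) g with hχ'
  have hlamirr := Cfsg.Agent.Lib.Helper05.isIrrCharacter_of_hom lam
  have hχ'irr : IsIrrCharacter G χ' :=
    Cfsg.Agent.Lib.Helper83.isIrrCharacter_mul_linear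
      (Cfsg.Agent.Lib.Helper82.IsIrrCharacter.isCharacter hlamirr) (by simp) ψ.2
  have hχ'c : IsCharacter G χ' := Cfsg.Agent.Lib.Helper82.IsIrrCharacter.isCharacter hχ'irr
  have hχ'cl : IsClassFunction G χ' := Cfsg.Agent.Lib.Helper82.IsCharacter.isClassFunction hχ'c
  have hχ'N : ∀ x : N, χ' x = (θ : N → ℂ) x := by
    intro x
    show ((lam (x : G) : ℂˣ) : ℂ) * (ψ : G → ℂ) x = (θ : N → ℂ) x
    rw [hlamN x x.2, ← hψ x]
    simp
  refine ⟨⟨χ', hχ'irr⟩, ?_, hχ'N, ?_⟩
  · -- membership in the principal block of `G`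
    show SameBlock M (fun _ : G => (1 : ℂ)) χ'
    intro g
    rw [centralChar_one_top, centralChar_top g hχ'cl]
    have := hcong (orb ⊤ g) (orb_isInv_of_le le_top g) (orb_isIntegral ⊤ g)
    have h2 := memLocalIdeal_neg this
    rwa [neg_sub] at h2
  · intro J hNJ
    haveI : Fintype J := Fintype.ofFinite J
    haveI : Fintype (N.subgroupOf J) := Fintype.ofFinite _
    have hJc : IsCharacter J (fun j : J => χ' j) :=
      Cfsg.Agent.Lib.Helper05.isCharacter_restrict J hχ'c
    have hNJirr : IsIrrCharacter (N.subgroupOf J) (fun h : N.subgroupOf J => χ' ((h : J) : G)) := by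
      have h1 := Cfsg.Agent.S0173.isIrrCharacter_comp_mulEquiv
        (Subgroup.subgroupOfEquivOfLe hNJ) θ.2
      have h2 : (fun h : N.subgroupOf J => (θ : N → ℂ) (Subgroup.subgroupOfEquivOfLe hNJ h))
          = (fun h : N.subgroupOf J => χ' ((h : J) : G)) := by
        funext h
        rw [← hχ'N]
        rfl
      rw [h2] at h1
      exact h1
    have hJirr : IsIrrCharacter J (fun j : J => χ' j) :=
      Cfsg.Agent.Lib.Helper80.isIrrCharacter_of_restrict_irr (N.subgroupOf J) hJc hNJirr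
    refine ⟨⟨fun j : J => χ' j, hJirr⟩, ?_, fun y => rfl⟩
    show SameBlock M (fun _ : J => (1 : ℂ)) (fun j : J => χ' j)
    rintro ⟨g, hg⟩
    rw [centralChar_one_sub J g hg, centralChar_sub J g hg hχ'cl]
    have := hcong (orb J g) (orb_isInv_of_le hNJ g) (orb_isIntegral J g)
    have h2 := memLocalIdeal_neg this
    rwa [neg_sub] at h2

end Cfsg.Agent.Lib.Helper05.PrincExtGen
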