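import Mathlib
import Cfsg.Prelude.Def_Blocks
import Cfsg.Agent.Lib.Helper05.PrincExtGen
import Cfsg.Agent.Lib.Helper05.ADInv
import Cfsg.Agent.Lib.Helper79.ExtendCyclic
import Cfsg.Agent.Lib.Helper22.Covering
import Cfsg.Agent.S0888

/-!
# Extension of principal block characters (Alperin–Dade, character form) (helper5)

`N ⊴ G`, `D ≤ N` of index prime to `p` in `G`, `G = N C_G(D)`.  Every irreducible character of the
principal block of `N` extends to an irreducible character in the principal block of `G`.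
-/

set_option autoImplicit false
set_option linter.unusedSectionVars false
set_option linter.unusedVariables false
set_option linter.style.haveILetI false

namespace Cfsg.Agent.Lib.Helper05.ADTower

open Cfsg Cfsg.Agent.Lib.Helper82 Cfsg.Agent.Lib.Helper05.RelCent

universe u

/-- the standing hypotheses: `D ≤ N`, `p ∤ |G : D|`, `G = N C_G(D)` -/
def Hyp (p : ℕ) {G : Type*} [Group G] (N D : Subgroup G) : Prop :=
  D ≤ N ∧ ¬ p ∣ D.index ∧ N ⊔ Subgroup.centralizer (D : Set G) = ⊤

/-- every character in the principal block of `N` extends to the principal block of `G` -/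
def ExtProp (M : Ideal AlgInt) {G : Type*} [Group G] (N : Subgroup G) : Prop :=
  ∀ θ : IrrCharacter N, θ ∈ principalBlock M N →
    ∃ χ : IrrCharacter G, χ ∈ principalBlock M G ∧ ∀ n : N, (χ : G → ℂ) n = (θ : N → ℂ) n

section Basic

variable {G : Type*} [Group G] {p : ℕ}

theorem Hyp.mono {N D H : Subgroup G} (h : Hyp p N D) (hNH : N ≤ H) : Hyp p H D := by
  refine ⟨h.1.trans hNH, h.2.1, ?_⟩
  rw [eq_top_iff, ← h.2.2]
  exact sup_le_sup_right hNH _

theorem Hyp.sub {N D : Subgroup G} [N.Normal] (h : Hyp p N D) (H : Subgroup G) (hNH : N ≤ H) :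
    Hyp p (N.subgroupOf H) (D.subgroupOf H) := by
  refine ⟨Subgroup.subgroupOf_mono H h.1, ?_, ?_⟩
  · intro hdvd
    apply h.2.1
    have h1 : (D.subgroupOf H).index = D.relIndex H := rfl
    rw [h1] at hdvd
    exact hdvd.trans (Subgroup.relIndex_dvd_index_of_le (h.1.trans hNH))
  · rw [eq_top_iff]
    intro y _
    have hy : (y : G) ∈ N ⊔ Subgroup.centralizer (D : Set G) := by rw [h.2.2]; trivial
    rw [← SetLike.mem_coe, Subgroup.normal_mul] at hy
    obtain ⟨n, hn, c, hc, hnc⟩ := Set.mem_mul.mp hy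
    have hcH : c ∈ H := by
      have : c = n⁻¹ * (y : G) := by rw [← hnc]; group
      rw [this]
      exact H.mul_mem (H.inv_mem (hNH hn)) y.2
    have e : y = (⟨n, hNH hn⟩ : H) * ⟨c, hcH⟩ := Subtype.ext hnc.symm
    rw [e]
    apply Subgroup.mul_mem_sup
    · exact Subgroup.mem_subgroupOf.mpr hn
    · rw [Subgroup.mem_centralizer_iff]
      intro d hd
      apply Subtype.ext
      exact Subgroup.mem_centralizer_iff.mp hc (d : G) (Subgroup.mem_subgroupOf.mp hd)

theorem Hyp.le_centralizer {N D : Subgroup G} (h : Hyp p N D) {g : G}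
    (hg : g ∈ Subgroup.centralizer (D : Set G)) : D ≤ Subgroup.centralizer ({g} : Set G) := by
  intro d hd
  rw [Subgroup.mem_centralizer_singleton_iff]
  exact Subgroup.mem_centralizer_iff.mp hg d hd

theorem Hyp.not_dvd_orbCard {N D : Subgroup G} (h : Hyp p N D) {g : G}
    (hg : g ∈ Subgroup.centralizer (D : Set G)) : ¬ p ∣ orbCard N g := by
  rw [orbCard_eq_relIndex]
  intro hdvd
  apply h.2.1
  exact (hdvd.trans (Subgroup.relIndex_dvd_of_le_left N (h.le_centralizer hg))).trans
    (Subgroup.relIndex_dvd_index_of_le h.1)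

theorem Hyp.not_dvd_class {N D : Subgroup G} (h : Hyp p N D) {g : G}
    (hg : g ∈ Subgroup.centralizer (D : Set G)) :
    ¬ p ∣ (Subgroup.centralizer ({g} : Set G)).index := by
  intro hdvd
  apply h.2.1
  exact hdvd.trans (Subgroup.index_dvd_of_le (h.le_centralizer hg))

end Basic

/-- transport of a principal block character along an isomorphism -/
theorem exists_transport {H K : Type*} [Group H] [Group K] (e : H ≃* K) (M : Ideal AlgInt)
    (θ : IrrCharacter K) (hθ : θ ∈ principalBlock M K) :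
    ∃ θ' : IrrCharacter H, θ' ∈ principalBlock M H ∧
      ∀ h : H, (θ' : H → ℂ) h = (θ : K → ℂ) (e h) := by
  refine ⟨⟨fun h => (θ : K → ℂ) (e h), Cfsg.Agent.S0173.isIrrCharacter_comp_mulEquiv e θ.2⟩,
    ?_, fun h => rfl⟩
  show SameBlock M (fun _ : H => (1 : ℂ)) (fun h => (θ : K → ℂ) (e h))
  intro h
  have h1 := Cfsg.Agent.Lib.Helper22.centralChar_comp_mulEquiv e (θ : K → ℂ) h
  have h2 := Cfsg.Agent.Lib.Helper22.centralChar_comp_mulEquiv e (fun _ : K => (1 : ℂ)) h
  rw [h1]
  have h3 : centralChar (fun _ : H => (1 : ℂ)) h = centralChar (fun _ : K => (1 : ℂ)) (e h) := h2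
  rw [h3]
  exact hθ (e h)

/-- the extension property passes from the pair `(N.subgroupOf H, H)` to characters of `N` -/
theorem extProp_sub {G : Type*} [Group G] {M : Ideal AlgInt} {N H : Subgroup G} (hNH : N ≤ H)
    (hE : ExtProp M (N.subgroupOf H)) (θ : IrrCharacter N) (hθ : θ ∈ principalBlock M N) :
    ∃ χ : IrrCharacter H, χ ∈ principalBlock M H ∧
      ∀ n : N, (χ : H → ℂ) ⟨n, hNH n.2⟩ = (θ : N → ℂ) n := by
  obtain ⟨θ', hθ', hθ'eq⟩ := exists_transport (Subgroup.subgroupOfEquivOfLe hNH) M θ hθ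
  obtain ⟨χ, hχ, hχeq⟩ := hE θ' hθ'
  refine ⟨χ, hχ, fun n => ?_⟩
  have h1 := hχeq ⟨⟨n, hNH n.2⟩, Subgroup.mem_subgroupOf.mpr n.2⟩
  rw [hθ'eq] at h1
  exact h1

section Inv

variable {G : Type*} [Group G] [Finite G]

/-- invariance of principal block characters under the whole group -/
theorem invariant_all (p : ℕ) [Fact p.Prime] (M : Ideal AlgInt) (hM : IsPModular p M)
    (N : Subgroup G) [hN : N.Normal] (D : Subgroup G) (h : Hyp p N D) (θ : N → ℂ)
    (hθ : IsIrrCharacter N θ) (hb : SameBlock M (fun _ : N => (1 : ℂ)) θ) (g : G) (n : N) :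
    θ (MulAut.conjNormal g n) = θ n := by
  classical
  haveI : Fintype G := Fintype.ofFinite G
  have hθcl : IsClassFunction N θ :=
    Cfsg.Agent.Lib.Helper82.IsCharacter.isClassFunction
      (Cfsg.Agent.Lib.Helper82.IsIrrCharacter.isCharacter hθ)
  have hg : g ∈ N ⊔ Subgroup.centralizer (D : Set G) := by rw [h.2.2]; trivial
  rw [← SetLike.mem_coe, Subgroup.normal_mul] at hg
  obtain ⟨n₀, hn₀, c, hc, rfl⟩ := Set.mem_mul.mp hg
  rw [map_mul, MulAut.mul_apply]
  have e1 : ∀ m : N, MulAut.conjNormal n₀ m = (⟨n₀, hn₀⟩ : N) * m * (⟨n₀, hn₀⟩ : N)⁻¹ := by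
    intro m
    apply Subtype.ext
    rw [MulAut.conjNormal_apply]
    rfl
  rw [e1, hθcl]
  exact Cfsg.Agent.Lib.Helper05.ADInv.invariant_of_principal p M hM N θ hθ hb c
    (h.not_dvd_orbCard hc) (h.not_dvd_orbCard (Subgroup.inv_mem _ hc)) n

/-- **Cyclic step.** -/
theorem cyclic_step (p : ℕ) [Fact p.Prime] (M : Ideal AlgInt) (hM : IsPModular p M)
    (N : Subgroup G) [hN : N.Normal] (hcyc : IsCyclic (G ⧸ N)) (D : Subgroup G) (h : Hyp p N D) :
    ExtProp M N := by
  intro θ hθ
  obtain ⟨d, ρ, hρ, hθeq⟩ := θ.2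
  haveI := hρ
  have hinv : ∀ (g : G) (n : N), ρ.character (MulAut.conjNormal g n) = ρ.character n := by
    intro g n
    rw [hθeq]
    exact invariant_all p M hM N D h (θ : N → ℂ) θ.2 hθ g n
  obtain ⟨σ, hσ, hσN⟩ := Cfsg.Agent.Lib.Helper79.exists_irreducible_extension N ρ hcyc hinv
  let ψ : IrrCharacter G := ⟨σ.character, ⟨d, σ, hσ, rfl⟩⟩
  have hψ : ∀ x : N, (ψ : G → ℂ) x = (θ : N → ℂ) x := by
    intro x
    show σ.character (x : G) = (θ : N → ℂ) x
    rw [← hθeq]
    unfold Representation.character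
    rw [hσN x]
  obtain ⟨χ, hχ, hχN, -⟩ := Cfsg.Agent.Lib.Helper05.PrincExtGen.exists_principal_extension_gen
    p M hM N (Subgroup.centralizer (D : Set G)) h.2.2 (fun g hg => h.not_dvd_orbCard hg) θ hθ
    ⟨ψ, hψ⟩
  exact ⟨χ, hχ, hχN⟩

end Inv

/-- **Tower.**  If `G/N` is a `q`-group then principal block characters of `N` extend to the
principal block of `G`. -/
theorem tower (p : ℕ) [Fact p.Prime] (M : Ideal AlgInt) (hM : IsPModular p M) (q : ℕ)
    [hq : Fact q.Prime] : ∀ (k : ℕ) (G : Type u) [Group G] [Finite G] (N : Subgroup G) [N.Normal]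
    (hidx : N.index = q ^ k) (D : Subgroup G) (h : Hyp p N D), ExtProp M N := by
  intro k
  induction k with
  | zero =>
    intro G _ _ N _ hidx D h
    have : Subsingleton (G ⧸ N) := by
      have : Nat.card (G ⧸ N) = 1 := by rw [← Subgroup.index_eq_card, hidx, pow_zero]
      exact (Nat.card_eq_one_iff_unique.mp this).1
    exact cyclic_step p M hM N isCyclic_of_subsingleton D h
  | succ k ih =>
    intro G _ _ N _ hidx D h
    have hcard : Nat.card (G ⧸ N) = q ^ (k + 1) := by rw [← Subgroup.index_eq_card, hidx]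
    obtain ⟨K, hK⟩ := Sylow.exists_subgroup_card_pow_prime q (n := k) (G := G ⧸ N)
      (by rw [hcard]; exact pow_dvd_pow q (Nat.le_succ k))
    have hKidx : K.index = q := by
      have := K.card_mul_index
      rw [hK, hcard, pow_succ] at this
      exact Nat.eq_of_mul_eq_mul_left (pow_pos hq.out.pos k) this
    haveI hKn : K.Normal := by
      apply Subgroup.normal_of_index_eq_minFac_card
      rw [hKidx, hcard, Nat.Prime.pow_minFac hq.out (Nat.succ_ne_zero k)]
    set H : Subgroup G := K.comap (QuotientGroup.mk' N) with hH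
    haveI : H.Normal := by rw [hH]; infer_instance
    have hNH : N ≤ H := by
      intro n hn
      rw [hH, Subgroup.mem_comap, QuotientGroup.mk'_apply, (QuotientGroup.eq_one_iff n).mpr hn]
      exact K.one_mem
    have hHidx : H.index = q := by
      rw [hH, Subgroup.index_comap_of_surjective K (QuotientGroup.mk'_surjective N), hKidx]
    have hrel : N.relIndex H = q ^ k := by
      have := Subgroup.relIndex_mul_index hNH
      rw [hHidx, hidx, pow_succ] at this
      exact Nat.eq_of_mul_eq_mul_right hq.out.pos this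
    have hE1 : ExtProp M (N.subgroupOf H) :=
      ih ↥H (N.subgroupOf H) hrel (D.subgroupOf H) (h.sub H hNH)
    have hcyc : IsCyclic (G ⧸ H) :=
      isCyclic_of_prime_card (p := q) (by rw [← Subgroup.index_eq_card, hHidx])
    have hE2 : ExtProp M H := cyclic_step p M hM H hcyc D (h.mono hNH)
    intro θ hθ
    obtain ⟨χ₁, hχ₁, hχ₁eq⟩ := extProp_sub hNH hE1 θ hθ
    obtain ⟨χ, hχ, hχeq⟩ := hE2 χ₁ hχ₁
    refine ⟨χ, hχ, fun n => ?_⟩
    rw [← hχ₁eq n]
    exact hχeq ⟨n, hNH n.2⟩

/-- every principal block character of `N` extends to `G` -/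
theorem exists_extension {G : Type u} [Group G] [Finite G] (p : ℕ) [Fact p.Prime]
    (M : Ideal AlgInt) (hM : IsPModular p M) (N : Subgroup G) [hN : N.Normal] (D : Subgroup G)
    (h : Hyp p N D) (θ : IrrCharacter N) (hθ : θ ∈ principalBlock M N) :
    ∃ ψ : IrrCharacter G, ∀ n : N, (ψ : G → ℂ) n = (θ : N → ℂ) n := by
  have hinv : ∀ (g : G) (n : N),
      (θ : N → ℂ) ⟨g * n * g⁻¹, hN.conj_mem (n : G) n.2 g⟩ = (θ : N → ℂ) n := by
    intro g n
    have := invariant_all p M hM N D h (θ : N → ℂ) θ.2 hθ g n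
    rw [← this]
    congr 1
  have hsyl : ∀ q : ℕ, q.Prime → ∃ (Q : Subgroup G) (hNQ : N ≤ Q) (η : Q → ℂ),
      Nat.Coprime Q.index q ∧ (∃ k : ℕ, N.relIndex Q = q ^ k) ∧ IsIrrCharacter Q η ∧
        ∀ n : N, η ⟨(n : G), hNQ n.2⟩ = (θ : N → ℂ) n := by
    intro q hq
    haveI : Fact q.Prime := ⟨hq⟩
    obtain ⟨S⟩ : Nonempty (Sylow q (G ⧸ N)) := inferInstance
    set Q : Subgroup G := (S : Subgroup (G ⧸ N)).comap (QuotientGroup.mk' N) with hQ
    have hNQ : N ≤ Q := by
      intro n hn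
      rw [hQ, Subgroup.mem_comap, QuotientGroup.mk'_apply, (QuotientGroup.eq_one_iff n).mpr hn]
      exact Subgroup.one_mem _
    have hQidx : Q.index = (S : Subgroup (G ⧸ N)).index :=
      Subgroup.index_comap_of_surjective _ (QuotientGroup.mk'_surjective N)
    have hnd : ¬ q ∣ Q.index := by rw [hQidx]; exact S.not_dvd_index
    obtain ⟨k, hk⟩ := IsPGroup.iff_card.mp S.2
    have hrel : N.relIndex Q = q ^ k := by
      have h1 := Subgroup.relIndex_mul_index hNQ
      have h2 := (S : Subgroup (G ⧸ N)).card_mul_index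
      have h3 : N.index = Nat.card (G ⧸ N) := rfl
      rw [hQidx, h3, ← h2, hk] at h1
      exact Nat.eq_of_mul_eq_mul_right (Nat.pos_of_ne_zero Subgroup.index_ne_zero_of_finite) h1
    have hE : ExtProp M (N.subgroupOf Q) :=
      tower p M hM q k ↥Q (N.subgroupOf Q) hrel (D.subgroupOf Q) (h.sub Q hNQ)
    obtain ⟨χ, hχ, hχeq⟩ := extProp_sub hNQ hE θ hθ
    exact ⟨Q, hNQ, (χ : Q → ℂ), ((Nat.Prime.coprime_iff_not_dvd hq).mpr hnd).symm, ⟨k, hrel⟩,
      χ.2, hχeq⟩
  obtain ⟨χ, hχ, hχN⟩ := Cfsg.Agent.S0888.result N (θ : N → ℂ) θ.2 hinv hsyl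
  exact ⟨⟨χ, hχ⟩, hχN⟩

/-- **Alperin–Dade, existence.**  Every principal block character of `N` extends to a principal
block character of `G`. -/
theorem extProp_of_hyp {G : Type u} [Group G] [Finite G] (p : ℕ) [Fact p.Prime]
    (M : Ideal AlgInt) (hM : IsPModular p M) (N : Subgroup G) [hN : N.Normal] (D : Subgroup G)
    (h : Hyp p N D) : ExtProp M N := by
  intro θ hθ
  obtain ⟨χ, hχ, hχN, -⟩ := Cfsg.Agent.Lib.Helper05.PrincExtGen.exists_principal_extension_gen
    p M hM N (Subgroup.centralizer (D : Set G)) h.2.2 (fun g hg => h.not_dvd_orbCard hg) θ hθ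
    (exists_extension p M hM N D h θ hθ)
  exact ⟨χ, hχ, hχN⟩

end Cfsg.Agent.Lib.Helper05.ADTower
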