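import Mathlib
import Cfsg.Prelude.Def_Blocks
import Cfsg.Agent.Lib.Helper05.PrincExt
import Cfsg.Agent.Lib.Helper05.CharOrtho
import Cfsg.Agent.Lib.Helper85.Gallagher

/-!
# Uniqueness of the extension in the principal block (helper5)

`N ⊴ G` of index prime to `p`, `G = N C` with all elements of `C` having class size prime to `p`.
If `χ₀, χ` are irreducible characters in the principal block of `G`, `χ₀` restricts irreducibly to `N`
and `χ` lies over `χ₀|_N`, then `χ = χ₀`.
-/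

set_option autoImplicit false
set_option linter.unusedSectionVars false
set_option linter.unusedVariables false
set_option linter.style.haveILetI false

namespace Cfsg.Agent.Lib.Helper05.ADUnique

open Cfsg Cfsg.Agent.Lib.Helper82

variable {G : Type*} [Group G] [Fintype G]

theorem ratio_sub_one {p : ℕ} [Fact p.Prime] {M : Ideal AlgInt} (hM : IsPModular p M)
    {χ : G → ℂ} (hχ : IsIrrCharacter G χ) (hb : SameBlock M (fun _ : G => (1 : ℂ)) χ) (x : G)
    (hx : ¬ p ∣ (Subgroup.centralizer ({x} : Set G)).index) :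
    MemLocalRing M (χ x / χ 1) ∧ MemLocalIdeal M (χ x / χ 1 - 1) := by
  have hMp : M.IsPrime := hM.2.1.isPrime
  set k : ℂ := ((Subgroup.centralizer ({x} : Set G)).index : ℂ) with hk
  have hkI : ¬ MemLocalIdeal M k := by
    rw [hk, memLocalIdeal_natCast_iff hM]
    exact hx
  have hk0 : k ≠ 0 := by
    intro h
    apply hkI
    rw [h]
    exact memLocalIdeal_zero hMp
  have hkinv : MemLocalRing M k⁻¹ := memLocalRing_inv (memLocalRing_natCast hMp _) hkI
  have h1 := hb x
  have e1 : centralChar (fun _ : G => (1 : ℂ)) x = k := by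
    unfold centralChar
    simp [hk]
  have e2 : centralChar χ x = k * (χ x / χ 1) := by
    unfold centralChar
    rw [mul_div_assoc]
  have hcc : MemLocalRing M (centralChar χ x) :=
    memLocalRing_of_isIntegral hMp (IsIrrCharacter.isIntegral_centralChar hχ x)
  have ha : χ x / χ 1 = k⁻¹ * centralChar χ x := by
    rw [e2, ← mul_assoc, inv_mul_cancel₀ hk0, one_mul]
  refine ⟨by rw [ha]; exact memLocalRing_mul hMp hkinv hcc, ?_⟩
  rw [e1, e2] at h1
  have h2 := memLocalIdeal_neg (memLocalIdeal_mul_left hMp hkinv h1)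
  have e3 : -(k⁻¹ * (k - k * (χ x / χ 1))) = χ x / χ 1 - 1 := by
    field_simp
    ring
  rwa [e3] at h2

/-- **Uniqueness.** -/
theorem eq_of_principal_over (p : ℕ) [Fact p.Prime] (M : Ideal AlgInt) (hM : IsPModular p M)
    (N : Subgroup G) [N.Normal] [Fintype N] (hidx : ¬ p ∣ N.index) (C : Subgroup G)
    (hcov : N ⊔ C = ⊤)
    (hCp : ∀ g ∈ C, ¬ p ∣ (Subgroup.centralizer ({g} : Set G)).index)
    (χ₀ χ : G → ℂ) (hχ₀ : IsIrrCharacter G χ₀) (hχ : IsIrrCharacter G χ)
    (hχ₀N : IsIrrCharacter N (fun n : N => χ₀ n))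
    (hb₀ : SameBlock M (fun _ : G => (1 : ℂ)) χ₀) (hb : SameBlock M (fun _ : G => (1 : ℂ)) χ)
    (hover : classInner (fun n : N => χ n) (fun n : N => χ₀ n) ≠ 0) : χ = χ₀ := by
  classical
  haveI : Fintype (G ⧸ N) := Fintype.ofFinite _
  have hMp : M.IsPrime := hM.2.1.isPrime
  obtain ⟨β, hβ⟩ := (Cfsg.Agent.Lib.Helper85.gallagher N hχ₀ hχ₀N).2 χ hχ hover
  have hrep : ∀ q : G ⧸ N, ∃ y ∈ C, (y : G ⧸ N) = q := by
    intro q
    obtain ⟨g, rfl⟩ := QuotientGroup.mk_surjective q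
    have hg : g ∈ N ⊔ C := by rw [hcov]; trivial
    rw [← SetLike.mem_coe, Subgroup.normal_mul] at hg
    obtain ⟨n, hn, c, hc, hnc⟩ := Set.mem_mul.mp hg
    refine ⟨c, hc, ?_⟩
    have : c = n⁻¹ * g := by rw [← hnc]; group
    rw [this, QuotientGroup.mk_mul, (QuotientGroup.eq_one_iff n⁻¹).mpr (N.inv_mem hn), one_mul]
  have hβ1 : (β : G ⧸ N → ℂ) 1 ≠ 0 := IsIrrCharacter.apply_one_ne_zero β.2
  have hχ₀1 : χ₀ 1 ≠ 0 := IsIrrCharacter.apply_one_ne_zero hχ₀
  have hr : ∀ q : G ⧸ N, MemLocalIdeal M ((β : G ⧸ N → ℂ) q / (β : G ⧸ N → ℂ) 1 - 1) := by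
    intro q
    obtain ⟨x, hxC, rfl⟩ := hrep q
    obtain ⟨ha₀R, ha₀⟩ := ratio_sub_one hM hχ₀ hb₀ x (hCp x hxC)
    obtain ⟨haR, ha⟩ := ratio_sub_one hM hχ hb x (hCp x hxC)
    set a₀ := χ₀ x / χ₀ 1 with ha₀def
    set a := χ x / χ 1 with hadef
    have ha₀I : ¬ MemLocalIdeal M a₀ := by
      intro h
      apply not_memLocalIdeal_one hMp
      have := memLocalIdeal_sub hMp h ha₀
      rwa [sub_sub_cancel] at this
    have ha₀0 : a₀ ≠ 0 := by
      intro h
      apply ha₀I
      rw [h]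
      exact memLocalIdeal_zero hMp
    have hinv : MemLocalRing M a₀⁻¹ := memLocalRing_inv ha₀R ha₀I
    have hx0 : χ₀ x ≠ 0 := by
      intro h
      apply ha₀0
      rw [ha₀def, h, zero_div]
    have e : (β : G ⧸ N → ℂ) (x : G ⧸ N) / (β : G ⧸ N → ℂ) 1 - 1 = (a - a₀) * a₀⁻¹ := by
      rw [hadef, ha₀def, hβ]
      simp only [QuotientGroup.mk_one]
      field_simp
    rw [e]
    apply memLocalIdeal_mul_right hMp _ hinv
    have := memLocalIdeal_sub hMp ha ha₀
    have e2 : a - 1 - (a₀ - 1) = a - a₀ := by ring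
    rwa [e2] at this
  have hβtriv : (β : G ⧸ N → ℂ) = fun _ => (1 : ℂ) := by
    by_contra hne
    have h0 := Cfsg.Agent.Lib.Helper05.classInner_irr_ne β.2
      (Cfsg.Agent.Lib.Helper05.isIrrCharacter_one (G := G ⧸ N)) hne
    unfold classInner at h0
    have hcard : (Nat.card (G ⧸ N) : ℂ) ≠ 0 := by
      exact_mod_cast Nat.card_pos.ne'
    have hsum : ∑ q : G ⧸ N, (β : G ⧸ N → ℂ) q = 0 := by
      rcases mul_eq_zero.mp h0 with h | h
      · exact absurd (inv_eq_zero.mp h) hcard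
      · simpa using h
    have h1 := memLocalIdeal_sum hMp Finset.univ _ (fun q _ => hr q)
    rw [Finset.sum_sub_distrib, ← Finset.sum_div, hsum, zero_div, zero_sub] at h1
    have h2 := memLocalIdeal_neg h1
    rw [neg_neg] at h2
    simp only [Finset.sum_const, Finset.card_univ, nsmul_eq_mul, mul_one] at h2
    rw [memLocalIdeal_natCast_iff hM, ← Nat.card_eq_fintype_card, ← Subgroup.index_eq_card] at h2
    exact hidx h2
  rw [hβ]
  funext g
  rw [hβtriv, one_mul]

end Cfsg.Agent.Lib.Helper05.ADUnique
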