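import Mathlib
import Cfsg.Prelude.Def_GeometricClasses
import Cfsg.Agent.Lib.Helper61.AschDefs

/-!
Keystone K-S5630-E2 (architect helper61): commuting copies of `M_m(F)` generating `M_n(F)` have a simultaneous
tensor basis.
-/

set_option autoImplicit false

namespace Cfsg.Agent.Lib.Helper05.Asch

open scoped Matrix Kronecker TensorProduct

variable {F : Type*} [Field F]

/-- The matrix on `Fin t → Fin m` of `1 ⊗ … ⊗ x ⊗ … ⊗ 1` (`x` in position `i`); verbatim copy of the definition in
helper61's specification. -/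
def pureAt (m t : ℕ) (i : Fin t) (x : Matrix (Fin m) (Fin m) F) : Matrix (Fin t → Fin m) (Fin t → Fin m) F :=
  fun u v => if ∀ j, j ≠ i → u j = v j then x (u i) (v i) else 0

section combine

variable {C : Type*} [Ring C] [Algebra F C] {I J : Type*} [Fintype I] [DecidableEq I] [Fintype J] [DecidableEq J]

/-- two commuting algebra maps from matrix algebras combine to one from the Kronecker product -/
noncomputable def combine (α : Matrix I I F →ₐ[F] C) (β : Matrix J J F →ₐ[F] C)
    (h : ∀ x y, Commute (α x) (β y)) : Matrix (I × J) (I × J) F →ₐ[F] C :=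
  (Algebra.TensorProduct.lift α β h).comp (Matrix.kroneckerAlgEquiv I J F).symm.toAlgHom

theorem combine_kronecker (α : Matrix I I F →ₐ[F] C) (β : Matrix J J F →ₐ[F] C)
    (h : ∀ x y, Commute (α x) (β y)) (x : Matrix I I F) (y : Matrix J J F) :
    combine α β h (x ⊗ₖ y) = α x * β y := by
  simp [combine]

theorem combine_mem (α : Matrix I I F →ₐ[F] C) (β : Matrix J J F →ₐ[F] C)
    (h : ∀ x y, Commute (α x) (β y)) (S : Subalgebra F C) (hα : ∀ x, α x ∈ S) (hβ : ∀ y, β y ∈ S)
    (z : Matrix (I × J) (I × J) F) : combine α β h z ∈ S := by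
  unfold combine
  simp only [AlgHom.coe_comp, Function.comp_apply]
  generalize ((Matrix.kroneckerAlgEquiv I J F).symm.toAlgHom z) = w
  induction w using TensorProduct.induction_on with
  | zero => simp
  | tmul x y => simpa using S.mul_mem (hα x) (hβ y)
  | add a b ha hb => simpa using S.add_mem ha hb

end combine

/-- splitting off the first coordinate -/
def splitEquiv (m t : ℕ) : (Fin (t + 1) → Fin m) ≃ Fin m × (Fin t → Fin m) where
  toFun u := (u 0, fun j => u j.succ)
  invFun p := Fin.cons p.1 p.2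
  left_inv u := by
    funext j
    refine Fin.cases ?_ (fun j => ?_) j <;> simp
  right_inv p := by
    ext <;> simp

theorem reindex_pureAt_zero (m t : ℕ) (x : Matrix (Fin m) (Fin m) F) :
    Matrix.reindex (splitEquiv m t) (splitEquiv m t) (pureAt m (t + 1) 0 x) =
      x ⊗ₖ (1 : Matrix (Fin t → Fin m) (Fin t → Fin m) F) := by
  ext ⟨a, u⟩ ⟨b, v⟩
  simp only [Matrix.reindex_apply, Matrix.submatrix_apply, pureAt, splitEquiv, Equiv.coe_fn_symm_mk,
    Fin.cons_zero, Matrix.kroneckerMap_apply, Matrix.one_apply]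
  by_cases huv : u = v
  · subst huv
    rw [if_pos, if_pos rfl, mul_one]
    intro j hj
    obtain ⟨k, rfl⟩ := Fin.exists_succ_eq.mpr hj
    simp
  · rw [if_neg, if_neg huv, mul_zero]
    intro h
    apply huv
    funext k
    have := h k.succ (Fin.succ_ne_zero k)
    simpa using this

theorem reindex_pureAt_succ (m t : ℕ) (j : Fin t) (x : Matrix (Fin m) (Fin m) F) :
    Matrix.reindex (splitEquiv m t) (splitEquiv m t) (pureAt m (t + 1) j.succ x) =
      (1 : Matrix (Fin m) (Fin m) F) ⊗ₖ pureAt m t j x := by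
  ext ⟨a, u⟩ ⟨b, v⟩
  simp only [Matrix.reindex_apply, Matrix.submatrix_apply, pureAt, splitEquiv, Equiv.coe_fn_symm_mk,
    Fin.cons_succ, Matrix.kroneckerMap_apply, Matrix.one_apply]
  by_cases hab : a = b
  · subst hab
    rw [if_pos rfl, one_mul]
    by_cases h : ∀ l, l ≠ j → u l = v l
    · rw [if_pos h, if_pos]
      intro l
      refine Fin.cases ?_ (fun l => ?_) l
      · simp
      · intro hl
        simpa using h l (fun h' => hl (by rw [h']))
    · rw [if_neg h, if_neg]
      intro h'
      apply h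
      intro l hl
      have := h' l.succ (fun h'' => hl (Fin.succ_injective _ h''))
      simpa using this
  · rw [if_neg hab, zero_mul, if_neg]
    intro h
    apply hab
    have := h 0 (Fin.succ_ne_zero j).symm
    simpa using this

/-- the algebra of matrices over a one point index type maps to any algebra -/
noncomputable def baseHom (m : ℕ) (C : Type*) [Ring C] [Algebra F C] :
    Matrix (Fin 0 → Fin m) (Fin 0 → Fin m) F →ₐ[F] C where
  toFun z := algebraMap F C (z default default)
  map_one' := by simp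
  map_mul' z w := by
    rw [← map_mul]
    congr 1
    rw [Matrix.mul_apply, Fintype.sum_eq_single default]
    intro b hb
    exact absurd (Subsingleton.elim b default) hb
  map_zero' := by simp
  map_add' z w := by simp
  commutes' r := by simp [Matrix.algebraMap_matrix_apply]

/-- commuting algebra maps from `M_m(F)` assemble to an algebra map from `M_{m^t}(F)` -/
theorem exists_algHom (m : ℕ) {C : Type*} [Ring C] [Algebra F C] :
    ∀ (t : ℕ) (φ : Fin t → (Matrix (Fin m) (Fin m) F →ₐ[F] C)),
      (∀ i j, i ≠ j → ∀ x y, φ i x * φ j y = φ j y * φ i x) →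
      ∃ Φ : Matrix (Fin t → Fin m) (Fin t → Fin m) F →ₐ[F] C,
        (∀ i x, Φ (pureAt m t i x) = φ i x) ∧
        ∀ z, Φ z ∈ Algebra.adjoin F (⋃ i, Set.range (φ i)) := by
  intro t
  induction t with
  | zero =>
    intro φ _
    refine ⟨baseHom m C, fun i => i.elim0, fun z => ?_⟩
    exact Subalgebra.algebraMap_mem _ _
  | succ t ih =>
    intro φ hφ
    obtain ⟨Φ', hΦ', hmem'⟩ := ih (fun j => φ j.succ)
      (fun i j hij x y => hφ i.succ j.succ (fun h => hij (Fin.succ_injective _ h)) x y)
    have hle : Algebra.adjoin F (⋃ j : Fin t, Set.range (φ j.succ)) ≤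
        Algebra.adjoin F (⋃ i, Set.range (φ i)) := by
      apply Algebra.adjoin_mono
      intro c hc
      obtain ⟨j, hj⟩ := Set.mem_iUnion.mp hc
      exact Set.mem_iUnion.mpr ⟨j.succ, hj⟩
    have hcomm : ∀ x y, Commute (φ 0 x) (Φ' y) := by
      intro x y
      have h1 : Algebra.adjoin F (⋃ j : Fin t, Set.range (φ j.succ)) ≤
          Subalgebra.centralizer F {φ 0 x} := by
        apply Algebra.adjoin_le
        intro c hc
        obtain ⟨j, y', rfl⟩ := Set.mem_iUnion.mp hc
        rw [SetLike.mem_coe, Subalgebra.mem_centralizer_iff]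
        intro g hg
        rw [Set.mem_singleton_iff] at hg
        subst hg
        exact hφ 0 j.succ (Fin.succ_ne_zero j).symm x y'
      have := h1 (hmem' y)
      rw [Subalgebra.mem_centralizer_iff] at this
      exact this _ rfl
    refine ⟨(combine (φ 0) Φ' hcomm).comp
      (Matrix.reindexAlgEquiv F F (splitEquiv m t)).toAlgHom, ?_, ?_⟩
    · intro i x
      refine Fin.cases ?_ (fun j => ?_) i
      · change combine (φ 0) Φ' hcomm (Matrix.reindex (splitEquiv m t) (splitEquiv m t)
          (pureAt m (t + 1) 0 x)) = _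
        rw [reindex_pureAt_zero, combine_kronecker, map_one, mul_one]
      · change combine (φ 0) Φ' hcomm (Matrix.reindex (splitEquiv m t) (splitEquiv m t)
          (pureAt m (t + 1) j.succ x)) = _
        rw [reindex_pureAt_succ, combine_kronecker, map_one, one_mul, hΦ']
    · intro z
      simp only [AlgHom.coe_comp, Function.comp_apply]
      apply combine_mem
      · intro x
        exact Algebra.subset_adjoin (Set.mem_iUnion.mpr ⟨0, x, rfl⟩)
      · intro y
        exact hle (hmem' y)

/-- an algebra isomorphism between matrix algebras over a field is induced by a linear isomorphism of the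
underlying spaces (Skolem--Noether for split algebras, from Mathlib's version for endomorphism algebras) -/
theorem exists_linearEquiv_of_algEquiv {U W : Type*} [Fintype U] [DecidableEq U] [Fintype W] [DecidableEq W]
    (Ψ : Matrix U U F ≃ₐ[F] Matrix W W F) :
    ∃ T : (U → F) ≃ₗ[F] (W → F), ∀ (A : Matrix U U F) (w : U → F), (Ψ A) *ᵥ (T w) = T (A *ᵥ w) := by
  let f : Module.End F (U → F) ≃ₐ[F] Module.End F (W → F) :=
    (Matrix.toLinAlgEquiv' (R := F) (n := U)).symm.trans (Ψ.trans (Matrix.toLinAlgEquiv' (R := F) (n := W)))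
  obtain ⟨T, hT⟩ := f.eq_linearEquivConjAlgEquiv
  refine ⟨T, fun A w => ?_⟩
  have h1 : f (Matrix.toLinAlgEquiv' A) = Matrix.toLinAlgEquiv' (Ψ A) := by
    simp [f]
  have h2 := congrArg (fun g : Module.End F (W → F) => g (T w)) (h1.symm.trans (by rw [hT]))
  simpa [LinearEquiv.conjAlgEquiv_apply] using h2

theorem exists_tensor_basis {n : ℕ} (m t : ℕ) (hn : 0 < n) (hm : 0 < m)
    (φ : Fin t → (Matrix (Fin m) (Fin m) F →ₐ[F] Matrix (Fin n) (Fin n) F))
    (hcomm : ∀ i j, i ≠ j → ∀ x y, φ i x * φ j y = φ j y * φ i x)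
    (hgen : Algebra.adjoin F (⋃ i, Set.range (φ i)) = ⊤) :
    ∃ (e : Fin n ≃ (Fin t → Fin m)) (P : GL (Fin n) F), ∀ i x,
      φ i x = (P : Matrix (Fin n) (Fin n) F) * Matrix.reindex e.symm e.symm (pureAt m t i x) *
        ((P⁻¹ : GL (Fin n) F) : Matrix (Fin n) (Fin n) F) := by
  classical
  obtain ⟨Φ, hΦ, -⟩ := exists_algHom (F := F) m (C := Matrix (Fin n) (Fin n) F) t φ hcomm
  have : Nonempty (Fin n) := ⟨⟨0, hn⟩⟩
  have : Nonempty (Fin t → Fin m) := ⟨fun _ => ⟨0, hm⟩⟩
  have hinj : Function.Injective Φ :=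
    RingHom.injective (Φ : Matrix (Fin t → Fin m) (Fin t → Fin m) F →+* Matrix (Fin n) (Fin n) F)
  have hsurj : Function.Surjective Φ := by
    have hle : Algebra.adjoin F (⋃ i, Set.range (φ i)) ≤ Φ.range := by
      apply Algebra.adjoin_le
      intro c hc
      obtain ⟨i, x, rfl⟩ := Set.mem_iUnion.mp hc
      exact ⟨pureAt m t i x, hΦ i x⟩
    rw [hgen] at hle
    intro c
    exact hle (Algebra.mem_top)
  obtain ⟨T, hT⟩ := exists_linearEquiv_of_algEquiv (AlgEquiv.ofBijective Φ ⟨hinj, hsurj⟩)
  have hcard : Fintype.card (Fin n) = Fintype.card (Fin t → Fin m) := by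
    have := T.finrank_eq
    rw [Module.finrank_fintype_fun_eq_card, Module.finrank_fintype_fun_eq_card] at this
    exact this.symm
  let e : Fin n ≃ (Fin t → Fin m) := Fintype.equivOfCardEq hcard
  let S : (Fin n → F) ≃ₗ[F] (Fin n → F) := (LinearEquiv.funCongrLeft F F e.symm).trans T
  have hS : ∀ g : Fin n → F, S g = T (g ∘ e.symm) := fun g => rfl
  let Pm : Matrix (Fin n) (Fin n) F := LinearMap.toMatrix' S.toLinearMap
  let Pi : Matrix (Fin n) (Fin n) F := LinearMap.toMatrix' S.symm.toLinearMap
  have h12 : Pm * Pi = 1 := by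
    rw [← LinearMap.toMatrix'_comp]
    simp
  have h21 : Pi * Pm = 1 := by
    rw [← LinearMap.toMatrix'_comp]
    simp
  have hPm : ∀ g : Fin n → F, Pm *ᵥ g = S g := by
    intro g
    simp [Pm, LinearMap.toMatrix'_mulVec]
  refine ⟨e, ⟨Pm, Pi, h12, h21⟩, fun i x => ?_⟩
  change φ i x = Pm * Matrix.reindex e.symm e.symm (pureAt m t i x) * Pi
  have hkey : Φ (pureAt m t i x) * Pm = Pm * Matrix.reindex e.symm e.symm (pureAt m t i x) := by
    apply Matrix.toLin'.injective
    apply LinearMap.ext
    intro g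
    simp only [Matrix.toLin'_apply, ← Matrix.mulVec_mulVec, hPm, hS]
    have this : Φ (pureAt m t i x) *ᵥ T (g ∘ e.symm) = T (pureAt m t i x *ᵥ (g ∘ e.symm)) :=
      hT (pureAt m t i x) (g ∘ e.symm)
    rw [this]
    congr 1
    rw [Matrix.reindex_apply, Matrix.submatrix_mulVec_equiv]
    funext u
    simp only [Equiv.symm_symm, Function.comp_apply, Equiv.apply_symm_apply]
  rw [← hΦ i x]
  calc Φ (pureAt m t i x) = Φ (pureAt m t i x) * (Pm * Pi) := by rw [h12, mul_one]
    _ = Pm * Matrix.reindex e.symm e.symm (pureAt m t i x) * Pi := by rw [← mul_assoc, hkey]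

/-- **K-S5630-E2**, with the definition of `pureAt` unfolded (convertible by `rfl` to any verbatim copy of the
specification's `pureAt`). -/
theorem exists_tensor_basis_lam {n : ℕ} (m t : ℕ) (hn : 0 < n) (hm : 0 < m)
    (φ : Fin t → (Matrix (Fin m) (Fin m) F →ₐ[F] Matrix (Fin n) (Fin n) F))
    (hcomm : ∀ i j, i ≠ j → ∀ x y, φ i x * φ j y = φ j y * φ i x)
    (hgen : Algebra.adjoin F (⋃ i, Set.range (φ i)) = ⊤) :
    ∃ (e : Fin n ≃ (Fin t → Fin m)) (P : GL (Fin n) F), ∀ i x,
      φ i x = (P : Matrix (Fin n) (Fin n) F) * Matrix.reindex e.symm e.symm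
        (fun u v : Fin t → Fin m => if ∀ j, j ≠ i → u j = v j then x (u i) (v i) else 0) *
        ((P⁻¹ : GL (Fin n) F) : Matrix (Fin n) (Fin n) F) :=
  exists_tensor_basis m t hn hm φ hcomm hgen

end Cfsg.Agent.Lib.Helper05.Asch
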