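import Mathlib
import Cfsg.Prelude.Def_GeometricClasses
import Cfsg.Agent.Lib.Helper04.AschE3

/-!
# K-S5673-E5n: normal form of an element permuting the tensor factor algebras
-/

set_option autoImplicit false

namespace Cfsg.Agent.Lib.Helper05.AschO

open Cfsg Cfsg.Geo
open Cfsg.Agent.Lib.Helper04.Asch
open scoped Matrix Kronecker MatrixGroups

variable {F : Type*} [Field F] {n : ℕ}

local notation "Mat" => Matrix (Fin n) (Fin n) F

theorem normal_form_of_permutes (m t : ℕ) (hm : 0 < m) (ht : 0 < t)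
    (e : Fin n ≃ (Fin t → Fin m)) (P k : GL (Fin n) F) (σ : Equiv.Perm (Fin t))
    (hk : ∀ i x, ∃ y, (k : Mat) * ((P : Mat) * Matrix.reindex e.symm e.symm (pureAt m t i x) * ((P⁻¹ : GL (Fin n) F) : Mat))
        * ((k⁻¹ : GL (Fin n) F) : Mat) =
      (P : Mat) * Matrix.reindex e.symm e.symm (pureAt m t (σ i) y) * ((P⁻¹ : GL (Fin n) F) : Mat)) :
    ∃ (u : Fin t → GL (Fin m) F) (d : F), d ≠ 0 ∧
      (k : Mat) = d • ((P : Mat) * Matrix.reindex e.symm e.symm
        ((permMat m σ : Matrix (Fin t → Fin m) (Fin t → Fin m) F) * PT (fun i => (u i : Matrix (Fin m) (Fin m) F))) *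
        ((P⁻¹ : GL (Fin n) F) : Mat)) := by
  classical
  set Q : GL (Fin n) F := P⁻¹ * k * P with hQ
  have hPi : ((P⁻¹ : GL (Fin n) F) : Mat) * (P : Mat) = 1 := by
    rw [← Units.val_mul, inv_mul_cancel, Units.val_one]
  have hPi' : (P : Mat) * ((P⁻¹ : GL (Fin n) F) : Mat) = 1 := by
    rw [← Units.val_mul, mul_inv_cancel, Units.val_one]
  -- the hypothesis in standard coordinates
  have hg : ∀ (i : Fin t) (x : Matrix (Fin m) (Fin m) F), ∃ y : Matrix (Fin m) (Fin m) F,
      ((glReindex e Q : GL (Fin t → Fin m) F) : Matrix (Fin t → Fin m) (Fin t → Fin m) F) * pureAt m t i x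
        * (((glReindex e Q)⁻¹ : GL (Fin t → Fin m) F) : Matrix (Fin t → Fin m) (Fin t → Fin m) F)
        = pureAt m t (σ i) y := by
    intro i x
    obtain ⟨y, hy⟩ := hk i x
    refine ⟨y, ?_⟩
    have hQA : (Q : Mat) * Matrix.reindex e.symm e.symm (pureAt m t i x)
        * ((Q⁻¹ : GL (Fin n) F) : Mat)
        = Matrix.reindex e.symm e.symm (pureAt m t (σ i) y) := by
      have hQinv : (Q⁻¹ : GL (Fin n) F) = P⁻¹ * k⁻¹ * P := by rw [hQ]; group
      rw [hQinv, hQ]
      simp only [Units.val_mul]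
      calc ((P⁻¹ : GL (Fin n) F) : Mat) * (k : Mat)
            * (P : Mat) * Matrix.reindex e.symm e.symm (pureAt m t i x)
            * (((P⁻¹ : GL (Fin n) F) : Mat)
              * ((k⁻¹ : GL (Fin n) F) : Mat) * (P : Mat))
          = ((P⁻¹ : GL (Fin n) F) : Mat)
            * ((k : Mat) * ((P : Mat)
              * Matrix.reindex e.symm e.symm (pureAt m t i x)
              * ((P⁻¹ : GL (Fin n) F) : Mat))
              * ((k⁻¹ : GL (Fin n) F) : Mat))
            * (P : Mat) := by simp only [mul_assoc]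
        _ = Matrix.reindex e.symm e.symm (pureAt m t (σ i) y) := by
          rw [hy]
          simp only [mul_assoc]
          rw [hPi, mul_one, ← mul_assoc, hPi, one_mul]
    have hR := congrArg (Matrix.reindexAlgEquiv F F e) hQA
    rw [map_mul, map_mul] at hR
    have hA : ∀ A : Matrix (Fin t → Fin m) (Fin t → Fin m) F,
        Matrix.reindexAlgEquiv F F e (Matrix.reindex e.symm e.symm A) = A := by
      intro A
      ext a b
      simp
    rw [hA, hA] at hR
    exact hR
  set g : GL (Fin t → Fin m) F := glReindex e Q with hgdef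
  -- `(permGL σ)⁻¹ g` normalises every factor algebra
  have h1 : ∀ (i : Fin t) (x : Matrix (Fin m) (Fin m) F), ∃ y : Matrix (Fin m) (Fin m) F,
      (((permGL m σ)⁻¹ * g : GL (Fin t → Fin m) F) : Matrix (Fin t → Fin m) (Fin t → Fin m) F) * pureAt m t i x
        * ((((permGL m σ)⁻¹ * g)⁻¹ : GL (Fin t → Fin m) F) : Matrix (Fin t → Fin m) (Fin t → Fin m) F)
        = pureAt m t i y := by
    intro i x
    obtain ⟨y, hy⟩ := hg i x
    refine ⟨y, ?_⟩
    have e1 : ((((permGL m σ)⁻¹ * g)⁻¹ : GL (Fin t → Fin m) F) : Matrix (Fin t → Fin m) (Fin t → Fin m) F)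
        = ((g⁻¹ : GL (Fin t → Fin m) F) : Matrix (Fin t → Fin m) (Fin t → Fin m) F) * permMat m σ := by
      rw [mul_inv_rev, inv_inv, Units.val_mul, permGL_val]
    rw [e1, Units.val_mul, permGL_inv_val]
    have e2 := permMat_conj_pureAt (F := F) (m := m) σ⁻¹ (σ i) y
    rw [inv_inv] at e2
    have e3 : σ⁻¹ (σ i) = i := by simp
    rw [e3] at e2
    rw [← e2, ← hy]
    simp only [mul_assoc]
  obtain ⟨u, c, hc, hh⟩ := exists_pure_of_normalizes hm _ h1
  refine ⟨u, c, hc, ?_⟩
  -- `g = permGL σ * ptGL u * (c • 1)`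
  have hg_eq : g = permGL m σ * ptGL u * ((ptGL u)⁻¹ * ((permGL m σ)⁻¹ * g)) := by group
  have hgval : (g : Matrix (Fin t → Fin m) (Fin t → Fin m) F) =
      c • ((permMat m σ : Matrix (Fin t → Fin m) (Fin t → Fin m) F) *
        PT (fun i => (u i : Matrix (Fin m) (Fin m) F))) := by
    have := congrArg Units.val hg_eq
    rw [Units.val_mul, Units.val_mul, hh, permGL_val, ptGL_val, Matrix.mul_smul, mul_one] at this
    exact this
  -- back to `Q`
  have hQval : (Q : Mat) = Matrix.reindex e.symm e.symm (g : Matrix (Fin t → Fin m) (Fin t → Fin m) F) := by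
    rw [hgdef]
    ext a b
    simp [glReindex]
  have hkQ : k = P * Q * P⁻¹ := by rw [hQ]; group
  have hkval : (k : Mat) = (P : Mat) * (Q : Mat) * ((P⁻¹ : GL (Fin n) F) : Mat) := by
    have := congrArg Units.val hkQ
    simpa only [Units.val_mul] using this
  have hre : ∀ A : Matrix (Fin t → Fin m) (Fin t → Fin m) F,
      Matrix.reindex e.symm e.symm (c • A) = c • Matrix.reindex e.symm e.symm A := by
    intro A
    ext a b
    simp [Matrix.reindex_apply]
  rw [hkval, hQval, hgval, hre, Matrix.mul_smul, Matrix.smul_mul]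

end Cfsg.Agent.Lib.Helper05.AschO
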