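import Mathlib
import Cfsg.Agent.Lib.Helper71.BG1310Defs
import Cfsg.Agent.Lib.Helper14.BG134G8
import Cfsg.Agent.Lib.Helper13.BG12B
import Cfsg.Agent.Lib.Helper13.BG127
import Cfsg.Agent.Lib.Helper55.Uniq2
import Cfsg.Agent.Lib.Helper55.Uniq3
import Cfsg.Agent.Lib.Helper71.BG11a
import Cfsg.Agent.S1350
import Cfsg.Agent.S1378
import Cfsg.Agent.S1404

/-!
# BG 13.10 / 13.11, keystone 131004 (K-BG1310-D): `tau2_faithful` (helper5 for architect helper71)

`X ≤ M` of prime order `s ∈ τ₁(M) ∪ τ₃(M)`, `A ≥ X` elementary abelian of order `s²`, `1 ≠ Y ≤ C_{M_σ}(X)`: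
then `A ≰ C(Y)`.
-/

set_option autoImplicit false
set_option linter.unusedSectionVars false
set_option linter.unusedVariables false
set_option linter.style.haveILetI false

namespace Cfsg.Agent.Lib.Helper05.BG1310

open Cfsg Cfsg.Agent.Lib.Helper55 Cfsg.Agent.Lib.Helper31.BG134 Cfsg.Agent.Lib.Helper71.BG1310
open scoped Pointwise

variable {G : Type*} [Group G] [Finite G]

/-- **KEYSTONE 131004  K-BG1310-D** = (F4), `H`-free form. -/
theorem tau2_faithful (hG : IsMinSimpleOddOrder G) {M X A : Subgroup G} (hM : IsCoatom M) {s : ℕ}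
    (hs : s ∈ tau1 M ∨ s ∈ tau3 M) (hXM : X ≤ M) (hXc : Nat.card X = s) (hXA : X ≤ A)
    (hA : IsElementaryAbelian s A) (hAc : Nat.card A = s ^ 2) {Y : Subgroup G} (hY : Y ≤ CP M X)
    (hY1 : Y ≠ ⊥) : ¬ A ≤ Subgroup.centralizer (Y : Set G) := by
  intro hAY
  have hsp : s.Prime := by
    rcases hs with h | h
    · exact h.1
    · exact h.1
  haveI : Fact s.Prime := ⟨hsp⟩
  have hsσ : s ∉ sigma M := by
    rcases hs with h | h
    · exact h.2.1
    · exact h.2.1
  have hrk : PRankLE s 1 ↥M := by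
    rcases hs with h | h
    · exact h.2.2.2.2
    · exact h.2.2.2
  -- an elementary abelian subgroup of order `s²` of `M` is impossible
  have hrank : ∀ A' : Subgroup G, A' ≤ M → (∀ a ∈ A', ∀ b ∈ A', a * b = b * a) →
      (∀ a ∈ A', a ^ s = 1) → Nat.card A' = s ^ 2 → False := by
    intro A' h1 h2 h3 h4
    apply not_pRankLE_sub_iff.mpr _ hrk
    refine ⟨A', h1, h2, h3, ?_⟩
    rw [h4, pow_one]
    calc s = s ^ 1 := (pow_one s).symm
      _ < s ^ 2 := Nat.pow_lt_pow_right hsp.one_lt (by norm_num)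
  have hAcomm : ∀ a ∈ A, ∀ b ∈ A, a * b = b * a := by
    intro a ha b hb
    have hc := hA.1.is_comm.comm (⟨a, ha⟩ : A) ⟨b, hb⟩
    exact congrArg Subtype.val hc
  -- a subgroup `Y₀ ≤ Y` of prime order `q ∈ σ(M)`
  have hYc1 : Nat.card Y ≠ 1 := fun h => hY1 (Subgroup.card_eq_one.mp h)
  obtain ⟨q, hq, hqd⟩ := Nat.exists_prime_and_dvd hYc1
  haveI : Fact q.Prime := ⟨hq⟩
  obtain ⟨y, hy⟩ := exists_prime_orderOf_dvd_card' q hqd
  have hyG : orderOf (y : G) = q := by rw [Subgroup.orderOf_coe, hy]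
  set Y₀ : Subgroup G := Subgroup.zpowers (y : G) with hY₀
  have hY₀Y : Y₀ ≤ Y := Subgroup.zpowers_le.mpr y.2
  have hY₀c : Nat.card ↥Y₀ = q := by rw [Nat.card_zpowers, hyG]
  have hYσ : Y ≤ sigmaCore M := hY.trans inf_le_left
  have hY₀M : Y₀ ≤ M := hY₀Y.trans (hYσ.trans (Cfsg.Agent.Lib.Helper71.BG11.sigmaCore_le M))
  have hqM : q ∈ sigma M := Cfsg.Agent.Lib.Helper71.BG11.sigmaCore_pi hG hM hq
    (hqd.trans (Subgroup.card_dvd_of_le hYσ))
  have hY₀q : IsPGroup q Y₀ := IsPGroup.of_card (hY₀c.trans (pow_one q).symm)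
  have hY₀1 : Y₀ ≠ ⊥ := by
    intro h
    rw [h, Subgroup.card_bot] at hY₀c
    exact hq.one_lt.ne hY₀c
  have hY₀top : Y₀ ≠ ⊤ := by
    intro h
    apply hM.1
    rw [eq_top_iff, ← h]
    exact hY₀M
  -- a maximal subgroup `L` over `N_G(Y₀)`
  obtain ⟨L, hL, hNL⟩ := (eq_top_or_exists_le_coatom (Subgroup.normalizer (Y₀ : Set G))).resolve_left
    (ms_normalizer_ne_top hG hY₀1 hY₀top)
  have hCL : Subgroup.centralizer (Y₀ : Set G) ≤ L :=
    (Subgroup.centralizer_le_normalizer _).trans hNL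
  have hAL : A ≤ L :=
    (hAY.trans (Subgroup.centralizer_le (SetLike.coe_subset_coe.mpr hY₀Y))).trans hCL
  have hY₀L : Y₀ ≤ L := Subgroup.le_normalizer.trans hNL
  have hne : L ≠ M := by
    intro h
    exact hrank A (h ▸ hAL) hAcomm hA.2 hAc
  by_cases hqL : q ∈ sigma L
  · -- `L` is conjugate to `M`
    obtain ⟨g, hg⟩ := (Cfsg.Agent.S1378.result hG).2 M L hM hL ⟨q, hqM, hqL⟩
    have hconj : Y₀.map (MulAut.conj g⁻¹).toMonoidHom ≤ M := by
      rintro _ ⟨z, hz, rfl⟩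
      have hzL : z ∈ L := hY₀L hz
      rw [hg] at hzL
      obtain ⟨w, hw, hwz⟩ := hzL
      simp only [MulEquiv.coe_toMonoidHom, MulAut.conj_apply] at hwz ⊢
      rw [← hwz]
      have : g⁻¹ * (g * w * g⁻¹) * g⁻¹⁻¹ = w := by group
      rw [this]
      exact hw
    obtain ⟨m, hm, c, hc, hgmc⟩ :=
      (Cfsg.Agent.S1404.result hG M hM q hqM Y₀ hY₀q hY₀1 hY₀M).1 g⁻¹ hconj
    have hcL : c ∈ L := hCL hc
    -- `c z c⁻¹ ∈ M` for all `z ∈ L`
    have h1 : ∀ z ∈ L, c * z * c⁻¹ ∈ M := by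
      intro z hz
      rw [hg] at hz
      obtain ⟨w, hw, hwz⟩ := hz
      simp only [MulEquiv.coe_toMonoidHom, MulAut.conj_apply] at hwz
      have hg' : g = c⁻¹ * m⁻¹ := by
        have := congrArg (fun t => t⁻¹) hgmc
        simpa [mul_inv_rev] using this
      have : c * z * c⁻¹ = m⁻¹ * w * m := by
        rw [← hwz, hg']
        group
      rw [this]
      exact M.mul_mem (M.mul_mem (M.inv_mem hm) hw) hm
    have hLM : L ≤ M := by
      intro z hz
      have h2 := h1 (c⁻¹ * z * c) (L.mul_mem (L.mul_mem (L.inv_mem hcL) hz) hcL)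
      have : c * (c⁻¹ * z * c) * c⁻¹ = z := by group
      rwa [this] at h2
    rcases hL.le_iff.mp hLM with h | h
    · exact hM.1 h
    · exact hne h.symm
  · -- `q ∉ σ(L)`: `M ∩ L` is a complement of `L_σ` in `L`
    obtain ⟨hq2, hcompl, hinf⟩ := Cfsg.Agent.Lib.Helper14.BG134.tau2_and_compl hG hM hL hne hqM hqL
      hY₀q hY₀1 hY₀M hNL
    have hHallL := (Cfsg.Agent.S1350.result hG L hL).1
    have hXL : X ≤ L := hXA.trans hAL
    by_cases hsL : s ∈ sigma L
    · have hXs : IsPGroup s X := IsPGroup.of_card (hXc.trans (pow_one s).symm)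
      have hXσ : X ≤ sigmaCore L := Cfsg.Agent.Lib.Helper13.BG127.pgroup_le_sigmaCore hG hL hsL hXL hXs
      have hXbot : X = ⊥ := by
        rw [eq_bot_iff, ← hinf]
        exact le_inf hXσ hXM
      rw [hXbot, Subgroup.card_bot] at hXc
      exact hsp.one_lt.ne hXc
    · have hK : ∀ p : ℕ, p.Prime → p ∣ Nat.card A → p ∉ sigma L := by
        intro p hp hpd
        rw [hAc] at hpd
        have : p = s := (Nat.prime_dvd_prime_iff_eq hp hsp).mp (hp.dvd_of_dvd_pow hpd)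
        rw [this]
        exact hsL
      obtain ⟨E, hE, hAE⟩ := Cfsg.Agent.Lib.Helper13.BG12.exists_complIn_ge hG hL hHallL hAL hK
      obtain ⟨t, ht, hconj⟩ := Cfsg.Agent.Lib.Helper13.BG12.complIn_conj hG hL hHallL hcompl hE
      -- `A' = t A t⁻¹ ≤ M ∩ L ≤ M`
      have hmem : ∀ a ∈ A, t * a * t⁻¹ ∈ M := by
        intro a ha
        have h1 : MulAut.conj t • a ∈ MulAut.conj t • E :=
          Subgroup.smul_mem_pointwise_smul a (MulAut.conj t) E (hAE ha)
        rw [hconj] at h1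
        have h2 : MulAut.conj t • a = t * a * t⁻¹ := by
          rw [MulAut.smul_def, MulAut.conj_apply]
        rw [h2] at h1
        exact h1.1
      refine hrank (A.map (MulAut.conj t).toMonoidHom) ?_ ?_ ?_ ?_
      · rintro _ ⟨a, ha, rfl⟩
        simp only [MulEquiv.coe_toMonoidHom, MulAut.conj_apply]
        exact hmem a ha
      · rintro _ ⟨a, ha, rfl⟩ _ ⟨b, hb, rfl⟩
        rw [← map_mul, ← map_mul, hAcomm a ha b hb]
      · rintro _ ⟨a, ha, rfl⟩
        rw [← map_pow, hA.2 a ha, map_one]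
      · rw [← hAc]
        exact Nat.card_congr
          (Subgroup.equivMapOfInjective A _ (MulAut.conj t).injective).symm.toEquiv

end Cfsg.Agent.Lib.Helper05.BG1310
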