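/-
Keystone 137808  K-S1378-L11a (architect helper15): step 11, first half, of BG Theorem 13.9:
an `S E₁`-invariant Sylow subgroup of `M_α` not centralized by `S`.
-/
import Mathlib
import Cfsg.Agent.Lib.Helper15.BG139Defs
import Cfsg.Agent.Lib.Helper31.BG12a
import Cfsg.Agent.Lib.Helper55.SylowIn
import Cfsg.Agent.Lib.Helper55.Uniq3
import Cfsg.Agent.Lib.Helper71.BG11a
import Cfsg.Agent.Lib.Helper74.BGFrobF
import Cfsg.Agent.S1405

set_option autoImplicit false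
set_option linter.unusedSectionVars false
set_option linter.unusedVariables false

namespace Cfsg.Agent.Lib.Helper05.BG139

open Cfsg Cfsg.Agent.Lib.Helper55 Cfsg.Agent.Lib.Helper31 Cfsg.Agent.Lib.Helper31.BG134
  Cfsg.Agent.Lib.Helper31.BG12 Cfsg.Agent.Lib.Helper71.BG10 Cfsg.Agent.Lib.Helper71.BG11
  Cfsg.Agent.Lib.Helper15.BG139

variable {G : Type*} [Group G] [Finite G]

/-- **KEYSTONE 137808  K-S1378-L11a.** -/
theorem Cfg.exists_inv_sylow_alpha {M N S E E₁ E₃ : Subgroup G} {p : ℕ} (c : Cfg M N S p)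
    (d : Str M S E E₁ E₃) (hα1 : alphaCore M ≠ ⊥) (hpα : p ∉ alpha M) :
    ∃ (t : ℕ) (T : Subgroup G), t.Prime ∧ IsPGroup t T ∧ T ≤ alphaCore M ∧
      S ≤ Subgroup.normalizer (T : Set G) ∧ E₁ ≤ Subgroup.normalizer (T : Set G) ∧
      ¬ t ∣ Nat.card ↥(S ⊔ E₁) ∧ ¬ T ≤ Subgroup.centralizer (S : Set G) := by
  have hG := c.hG
  have hM := c.hM
  have hN := c.hN
  have hp : p.Prime := c.hpM.1
  have hpF : Fact p.Prime := ⟨hp⟩
  -- a prime divisor of `|M_α|`
  have hcard1 : Nat.card (alphaCore M) ≠ 1 := fun h => hα1 (Subgroup.card_eq_one.mp h)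
  obtain ⟨t, ht, htd⟩ := Nat.exists_prime_and_dvd hcard1
  have : Fact t.Prime := ⟨ht⟩
  have htα : t ∈ alpha M := alphaCore_pi ht htd
  have hHall := Cfsg.Agent.S1405.result hG M hM
  have hKidx : ¬ t ∣ (alphaCore M).index := hHall.2.1.2 t ht htα
  have htσ : t ∈ sigma M :=
    sigmaCore_pi hG hM ht (htd.trans (Subgroup.card_dvd_of_le hHall.2.2.1))
  -- containments
  have hSM : S ≤ M := (Subgroup.le_normalizer.trans c.hNS).trans inf_le_left
  have hE₁E : E₁ ≤ E := d.hE₁.1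
  have hEM : E ≤ M := d.hE.1
  have hE₁S : E₁ ≤ Subgroup.normalizer (S : Set G) := hE₁E.trans d.hES
  -- `Γ = S E₁`
  set Γ : Subgroup G := S ⊔ E₁ with hΓ
  have hΓM : Γ ≤ M := sup_le hSM (hE₁E.trans hEM)
  have hΓtop : Γ ≠ ⊤ := by
    intro h
    exact hM.1 (top_le_iff.mp (h ▸ hΓM))
  have hsolv : Group.IsSolvable Γ := ms_solvable hG hΓtop
  have hΓK : Γ ≤ Subgroup.normalizer (alphaCore M : Set G) :=
    hΓM.trans (le_normalizer_piCoreOf (alpha M) M)
  -- primes of `α(M)` do not divide `|Γ|`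
  have hSp : IsPGroup p S := c.hS.2.1
  have hnd : ∀ k : ℕ, k.Prime → k ∈ alpha M → ¬ k ∣ Nat.card Γ := by
    intro k hk hkα
    have : Fact k.Prime := ⟨hk⟩
    have hkS : ¬ k ∣ Nat.card S := by
      obtain ⟨n, hn⟩ := (IsPGroup.iff_card).1 hSp
      rw [hn]
      intro hd
      have hkp : k = p := (Nat.prime_dvd_prime_iff_eq hk hp).1 (hk.dvd_of_dvd_pow hd)
      exact hpα (hkp ▸ hkα)
    have hkE : ¬ k ∣ Nat.card E₁ := by
      intro hd
      have hk1 : k ∈ tau1 M := d.hE₁.2.1 k hk hd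
      apply hkα.2
      intro A hA hAk
      have h1 := hk1.2.2.2.2 A hA hAk
      calc Nat.card A ≤ k ^ 1 := h1
        _ ≤ k ^ 2 := Nat.pow_le_pow_right hk.pos (by norm_num)
    exact Cfsg.Agent.Lib.Helper74.BGFrobF.not_dvd_card_sup S E₁ hE₁S hkS hkE
  have hcop : (Nat.card Γ).Coprime (Nat.card (alphaCore M)) := by
    apply Nat.coprime_of_dvd
    intro k hk hkΓ hkα
    exact hnd k hk (alphaCore_pi hk hkα) hkΓ
  have hbot : Γ ≤ Subgroup.normalizer ((⊥ : Subgroup G) : Set G) := by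
    intro g _
    rw [Subgroup.mem_normalizer_iff]
    intro x
    simp
  obtain ⟨T, -, hTα, hΓT, hTsyl, -⟩ :=
    exists_inv_sylow_ge (Q := ⊥) hsolv hΓK hcop hKidx bot_le IsPGroup.of_bot hbot
  refine ⟨t, T, ht, hTsyl.2.1, hTα, le_sup_left.trans hΓT, le_sup_right.trans hΓT,
    hnd t ht htα, ?_⟩
  -- `T` is not centralized by `S`
  intro hTC
  have hTN : T ≤ N :=
    ((hTC.trans (Subgroup.centralizer_le_normalizer _)).trans c.hNS).trans inf_le_right
  obtain ⟨E', hE'M, hE'c, hE'p, hE'3⟩ := not_pRankLE_sub_iff.mp htα.2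
  obtain ⟨k, -, hk⟩ := hTsyl.exists_conj_le (le_top : E' ≤ ⊤) (isPGroup_of_pow_eq_one hE'p)
  have htαN : t ∈ alpha N := by
    refine ⟨ht, not_pRankLE_sub_iff.mpr ⟨cj k E', hk.trans hTN, comm_cj k hE'c, exp_cj k hE'p, ?_⟩⟩
    rw [card_cj]
    exact hE'3
  have hnc' : ∀ g : G, cj g N ≠ M := by
    intro g hg
    apply c.hnc g⁻¹
    rw [← hg, cj_inv_cj]
  exact alpha_sigma_disjoint hG hN hM hnc' htαN htσ

end Cfsg.Agent.Lib.Helper05.BG139
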