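import Mathlib
import Cfsg.Prelude.Def_Characters
import Cfsg.Prelude.Def_Blocks
import Cfsg.Agent.Lib.Helper82.Integral
import Cfsg.Agent.Lib.Helper82.CharSchur
import Cfsg.Agent.Lib.Helper83.Linear
import Cfsg.Agent.Lib.Helper83.Abelian
import Cfsg.Agent.Lib.Helper83.Decompose
import Cfsg.Agent.Lib.Helper05.CharDecomp

/-!
# Frobenius congruences modulo `p` for character values (helper5)

`AlgInt ⧸ (p)` has characteristic `p`; hence `χ(x)^(p^ν) ≡ χ(x^t)^(p^ν)` modulo `p · AlgInt`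
when `x^(t p^ν) = x^(p^ν)`, and an `AlgInt`-combination of irreducible characters taking the values
`n` and `0` at `x`, `y` with `χ(x)^(p^ν) ≡ χ(y)^(p^ν)` for all `χ` has `p ∣ n`.
-/

set_option autoImplicit false

namespace Cfsg.Agent.Lib.Helper05

open Cfsg

universe u

theorem natCast_mem_nonunits_algInt {p : ℕ} (hp : p.Prime) : (p : AlgInt) ∈ nonunits AlgInt := by
  intro hu
  obtain ⟨u, hu⟩ := hu.exists_right_inv
  have h1 : (p : ℂ) * (u : ℂ) = 1 := by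
    have := congrArg (fun z : AlgInt => (z : ℂ)) hu
    simpa using this
  have hp0 : (p : ℂ) ≠ 0 := by exact_mod_cast hp.ne_zero
  have h2 : (u : ℂ) = (((1 : ℚ) / p : ℚ) : ℂ) := by
    push_cast
    field_simp
    rw [mul_comm]; exact h1
  have h3 : IsIntegral ℤ ((((1 : ℚ) / p : ℚ)) : ℂ) := h2 ▸ u.2
  obtain ⟨k, hk⟩ := Cfsg.Agent.Lib.Helper82.exists_int_of_isIntegral_ratCast h3
  have hpq : (p : ℚ) ≠ 0 := by exact_mod_cast hp.ne_zero
  have h4 : (p : ℚ) * (k : ℚ) = 1 := by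
    rw [← hk]; exact mul_one_div_cancel hpq
  have h5 : (p : ℤ) * k = 1 := by exact_mod_cast h4
  have h6 : IsUnit (p : ℤ) := IsUnit.of_mul_eq_one _ h5
  rw [Int.isUnit_iff_natAbs_eq, Int.natAbs_natCast] at h6
  exact hp.one_lt.ne' h6

theorem charP_algInt_quot (p : ℕ) [Fact p.Prime] :
    CharP (AlgInt ⧸ (Ideal.span ({(p : AlgInt)} : Set AlgInt) : Ideal AlgInt)) p :=
  CharP.quotient AlgInt p (natCast_mem_nonunits_algInt (Fact.out))

theorem exists_eq_mul_of_mk_eq {p : ℕ} {a b : AlgInt}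
    (h : Ideal.Quotient.mk (Ideal.span ({(p : AlgInt)} : Set AlgInt)) a =
      Ideal.Quotient.mk (Ideal.span ({(p : AlgInt)} : Set AlgInt)) b) :
    ∃ γ : AlgInt, (a : ℂ) - (b : ℂ) = (p : ℂ) * (γ : ℂ) := by
  rw [Ideal.Quotient.eq, Ideal.mem_span_singleton'] at h
  obtain ⟨γ, hγ⟩ := h
  refine ⟨γ, ?_⟩
  have hpc : ((p : AlgInt) : ℂ) = (p : ℂ) := by simp
  have := congrArg (fun z : AlgInt => (z : ℂ)) hγ
  simp only [Subalgebra.coe_mul, AddSubgroupClass.coe_sub] at this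
  rw [← this, hpc, mul_comm]

theorem mk_eq_of_eq_mul {p : ℕ} {a b γ : AlgInt}
    (h : (a : ℂ) - (b : ℂ) = (p : ℂ) * (γ : ℂ)) :
    Ideal.Quotient.mk (Ideal.span ({(p : AlgInt)} : Set AlgInt)) a =
      Ideal.Quotient.mk (Ideal.span ({(p : AlgInt)} : Set AlgInt)) b := by
  rw [Ideal.Quotient.eq, Ideal.mem_span_singleton']
  refine ⟨γ, ?_⟩
  have hpc : ((p : AlgInt) : ℂ) = (p : ℂ) := by simp
  apply Subtype.ext
  simp only [Subalgebra.coe_mul, AddSubgroupClass.coe_sub]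
  rw [h, hpc, mul_comm]

section Char

variable {G : Type u} [Group G] [Finite G]

theorem isIntegral_of_isCharacter {χ : G → ℂ} (hχ : IsCharacter G χ) (g : G) :
    IsIntegral ℤ (χ g) := by
  obtain ⟨n, ρ, rfl⟩ := hχ
  exact Cfsg.Agent.Lib.Helper82.isIntegral_character ρ g

/-- Frobenius congruence for character values. -/
theorem char_pow_congr (p : ℕ) [Fact p.Prime] {χ : G → ℂ} (hχ : IsCharacter G χ) (x : G)
    (t ν : ℕ) (h : x ^ (t * p ^ ν) = x ^ (p ^ ν)) :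
    ∃ γ : AlgInt, χ x ^ (p ^ ν) - χ (x ^ t) ^ (p ^ ν) = (p : ℂ) * (γ : ℂ) := by
  classical
  haveI := charP_algInt_quot p
  obtain ⟨C, hC⟩ : ∃ C : Subgroup G, C = Subgroup.zpowers x := ⟨_, rfl⟩
  have hxC : x ∈ C := hC ▸ Subgroup.mem_zpowers x
  have hcomm : ∀ a b : C, a * b = b * a := by
    intro a b
    obtain ⟨i, hi⟩ := hC.le a.2
    obtain ⟨j, hj⟩ := hC.le b.2
    apply Subtype.ext
    rw [Subgroup.coe_mul, Subgroup.coe_mul, ← hi, ← hj]
    exact (Commute.zpow_zpow (Commute.refl x) i j).eq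
  haveI : Fintype C := Fintype.ofFinite C
  haveI := finite_irrCharacter (G := C)
  haveI : Fintype (IrrCharacter C) := Fintype.ofFinite _
  obtain ⟨m, hm⟩ := exists_nat_coeff (Cfsg.Agent.Lib.Helper83.isCharacter_restrict C hχ)
  have hval : ∀ c : C, χ (c : G) = ∑ ψ : IrrCharacter C, (m ψ : ℂ) * (ψ : C → ℂ) c := by
    intro c
    have := congrFun hm c
    simpa [Finset.sum_apply] using this
  have hψ1 : ∀ ψ : IrrCharacter C, (ψ : C → ℂ) 1 = 1 := fun ψ =>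
    Cfsg.Agent.Lib.Helper83.irr_degree_one_of_comm hcomm ψ
  have hψpow : ∀ (ψ : IrrCharacter C) (c : C) (k : ℕ), (ψ : C → ℂ) (c ^ k) = (ψ : C → ℂ) c ^ k := by
    intro ψ c k
    exact map_pow (Cfsg.Agent.Lib.Helper83.linCharHom (IsIrrCharacter.isCharacter ψ.2) (hψ1 ψ)) c k
  obtain ⟨xC, hxC'⟩ : ∃ xC : C, (xC : G) = x := ⟨⟨x, hxC⟩, rfl⟩
  -- elements of AlgInt
  let e : IrrCharacter C → AlgInt := fun ψ =>
    ⟨(ψ : C → ℂ) xC, isIntegral_of_isCharacter (IsIrrCharacter.isCharacter ψ.2) xC⟩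
  let a : AlgInt := ∑ ψ : IrrCharacter C, (m ψ : AlgInt) * e ψ
  let b : AlgInt := ∑ ψ : IrrCharacter C, (m ψ : AlgInt) * e ψ ^ t
  have ha : (a : ℂ) = χ x := by
    rw [← hxC', hval xC]
    simp [a, e]
  have hb : (b : ℂ) = χ (x ^ t) := by
    have h1 : x ^ t = ((xC ^ t : C) : G) := by rw [Subgroup.coe_pow, hxC']
    rw [h1, hval (xC ^ t)]
    simp [b, e, hψpow]
  have he : ∀ ψ : IrrCharacter C, (e ψ ^ t) ^ (p ^ ν) = e ψ ^ (p ^ ν) := by
    intro ψ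
    apply Subtype.ext
    simp only [SubmonoidClass.coe_pow, e]
    rw [← hψpow, ← hψpow, ← hψpow]
    refine congrArg _ (Subtype.ext ?_)
    rw [Subgroup.coe_pow, Subgroup.coe_pow, Subgroup.coe_pow, hxC', ← pow_mul, h]
  have key : Ideal.Quotient.mk (Ideal.span ({(p : AlgInt)} : Set AlgInt)) (a ^ (p ^ ν)) =
      Ideal.Quotient.mk (Ideal.span ({(p : AlgInt)} : Set AlgInt)) (b ^ (p ^ ν)) := by
    rw [map_pow, map_pow]
    simp only [a, b, map_sum]
    rw [sum_pow_char_pow, sum_pow_char_pow]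
    refine Finset.sum_congr rfl fun ψ _ => ?_
    rw [← map_pow, ← map_pow, mul_pow, mul_pow, he]
  obtain ⟨γ, hγ⟩ := exists_eq_mul_of_mk_eq key
  refine ⟨γ, ?_⟩
  rw [← ha, ← hb, ← hγ]
  simp

/-- If an `AlgInt`-combination of irreducible characters separates `x` and `y` by a natural
number `n`, while all `χ(x)^(p^ν) ≡ χ(y)^(p^ν)` modulo `p`, then `p ∣ n`. -/
theorem dvd_of_combination (p : ℕ) [Fact p.Prime] [Fintype (IrrCharacter G)] (ν : ℕ)
    (c : IrrCharacter G → ℂ) (hc : ∀ χ, c χ ∈ AlgInt) (x y : G) (n : ℕ)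
    (hxy : ∀ χ : IrrCharacter G, ∃ γ : AlgInt,
      (χ : G → ℂ) x ^ (p ^ ν) - (χ : G → ℂ) y ^ (p ^ ν) = (p : ℂ) * (γ : ℂ))
    (hn : (n : ℂ) = ∑ χ : IrrCharacter G, c χ * ((χ : G → ℂ) x - (χ : G → ℂ) y)) : p ∣ n := by
  classical
  haveI := charP_algInt_quot p
  let Cc : IrrCharacter G → AlgInt := fun χ => ⟨c χ, hc χ⟩
  let A : IrrCharacter G → AlgInt := fun χ =>
    ⟨(χ : G → ℂ) x, isIntegral_of_isCharacter (IsIrrCharacter.isCharacter χ.2) x⟩
  let B : IrrCharacter G → AlgInt := fun χ =>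
    ⟨(χ : G → ℂ) y, isIntegral_of_isCharacter (IsIrrCharacter.isCharacter χ.2) y⟩
  have h1 : (n : AlgInt) = ∑ χ : IrrCharacter G, Cc χ * (A χ - B χ) := by
    apply Subtype.ext
    have : (((n : AlgInt)) : ℂ) = (n : ℂ) := by simp
    rw [this, hn]
    simp [Cc, A, B]
  have hAB : ∀ χ : IrrCharacter G,
      Ideal.Quotient.mk (Ideal.span ({(p : AlgInt)} : Set AlgInt)) (A χ ^ (p ^ ν)) =
      Ideal.Quotient.mk (Ideal.span ({(p : AlgInt)} : Set AlgInt)) (B χ ^ (p ^ ν)) := by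
    intro χ
    obtain ⟨γ, hγ⟩ := hxy χ
    apply mk_eq_of_eq_mul (γ := γ)
    simpa [A, B] using hγ
  have h2 : Ideal.Quotient.mk (Ideal.span ({(p : AlgInt)} : Set AlgInt)) ((n : AlgInt) ^ (p ^ ν))
      = 0 := by
    rw [h1, map_pow, map_sum, sum_pow_char_pow]
    apply Finset.sum_eq_zero
    intro χ _
    rw [map_mul, mul_pow, map_sub, sub_pow_char_pow, ← map_pow _ (A χ), ← map_pow _ (B χ), hAB χ,
      sub_self, mul_zero]
  have h3 : (((n ^ (p ^ ν) : ℕ)) : AlgInt ⧸ (Ideal.span ({(p : AlgInt)} : Set AlgInt))) = 0 := by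
    rw [← h2]
    simp
  rw [CharP.cast_eq_zero_iff _ p] at h3
  exact (Fact.out : p.Prime).dvd_of_dvd_pow h3

end Char

end Cfsg.Agent.Lib.Helper05
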