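import Cfsg.Agent.Lib.Helper06.Hall4.Defs

/-!
# K-H4-CJ2 (422109): `nfix` and `|Cent G t|` are invariant under conjugation.
-/

set_option autoImplicit false
open Equiv Cfsg.Agent.Lib.Helper06.Hall4

namespace Cfsg.Agent.Lib.Helper05.Hall4

variable {α : Type*} [Fintype α] [DecidableEq α]

/-- LEAF CJ2 (422109), first statement. -/
theorem nfix_conj (g t : Perm α) : nfix (g * t * g⁻¹) = nfix t := by
  unfold nfix
  have himg : Function.fixedPoints (g * t * g⁻¹ : Perm α) = g '' Function.fixedPoints t := by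
    ext p
    constructor
    · intro hp
      refine ⟨g⁻¹ p, ?_, by simp⟩
      have hp' : (g * t * g⁻¹ : Perm α) p = p := hp
      show t (g⁻¹ p) = g⁻¹ p
      rw [Perm.mul_apply, Perm.mul_apply] at hp'
      rw [Perm.eq_inv_iff_eq]
      exact hp'
    · rintro ⟨q, hq, rfl⟩
      have hq' : t q = q := hq
      show (g * t * g⁻¹ : Perm α) (g q) = g q
      simp [Perm.mul_apply, hq']
  rw [himg]
  exact Set.ncard_image_of_injective _ g.injective

/-- LEAF CJ2 (422109), second statement. -/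
theorem card_Cent_conj (G : Subgroup (Perm α)) {g : Perm α} (hg : g ∈ G) (t : Perm α) :
    Nat.card (Cent G (g * t * g⁻¹)) = Nat.card (Cent G t) := by
  symm
  refine Nat.card_congr ⟨fun v => ⟨g * v.1 * g⁻¹, ?_⟩, fun v => ⟨g⁻¹ * v.1 * g, ?_⟩, ?_, ?_⟩
  · obtain ⟨hv, hc⟩ := mem_Cent.mp v.2
    refine mem_Cent.mpr ⟨G.mul_mem (G.mul_mem hg hv) (G.inv_mem hg), ?_⟩
    calc g * t * g⁻¹ * (g * v.1 * g⁻¹) = g * (t * v.1) * g⁻¹ := by group
      _ = g * (v.1 * t) * g⁻¹ := by rw [hc]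
      _ = g * v.1 * g⁻¹ * (g * t * g⁻¹) := by group
  · obtain ⟨hv, hc⟩ := mem_Cent.mp v.2
    refine mem_Cent.mpr ⟨G.mul_mem (G.mul_mem (G.inv_mem hg) hv) hg, ?_⟩
    calc t * (g⁻¹ * v.1 * g) = g⁻¹ * (g * t * g⁻¹ * v.1) * g := by group
      _ = g⁻¹ * (v.1 * (g * t * g⁻¹)) * g := by rw [hc]
      _ = g⁻¹ * v.1 * g * t := by group
  · intro v
    apply Subtype.ext
    show g⁻¹ * (g * v.1 * g⁻¹) * g = v.1
    group
  · intro v
    apply Subtype.ext
    show g * (g⁻¹ * v.1 * g) * g⁻¹ = v.1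
    group

end Cfsg.Agent.Lib.Helper05.Hall4
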