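import Mathlib
import Cfsg.Agent.Lib.Helper16.FixedVector

/-!
# Reduction modulo `p` of complex representations through a valuation subring of `ℂ`

A valuation subring `O` of `ℂ` in which the prime `p` is not a unit plays the role of a
`p`-adic ring of integers containing every complex number "without `p` in the denominator".
For a `p`-group `P` acting on a complex vector space of dimension less than `|P|`, the norm
element `∑ u ∈ P, u` maps every vector `s` into `𝔪 · O[P] s`, and a Nakayama argument then kills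
vectors `w` with `w = - (∑ u ∈ P, u) (∑ g ∈ S, g) w`.
-/

set_option autoImplicit false

namespace Cfsg.Agent.Lib.Helper05.Lattice

open scoped BigOperators

/-- There is a valuation subring of `ℂ` in which the prime `p` is a non-unit. -/
theorem exists_valuationSubring (p : ℕ) [hp : Fact p.Prime] :
    ∃ O : ValuationSubring ℂ, (p : ℂ) ∈ O.nonunits := by
  let A : Subring ℂ := (Int.castRingHom ℂ).range
  let x : A := ⟨(p : ℂ), ⟨(p : ℤ), by simp⟩⟩
  have hI : Ideal.span {x} ≠ ⊤ := by
    rw [Ne, Ideal.span_singleton_eq_top]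
    intro hu
    obtain ⟨y, hy⟩ := hu.exists_right_inv
    obtain ⟨n, hn⟩ := y.2
    have h1 : ((p : ℤ) * n : ℂ) = 1 := by
      have := congrArg Subtype.val hy
      simpa [x, ← hn] using this
    have h2 : (p : ℤ) * n = 1 := by exact_mod_cast h1
    have h3 := Int.isUnit_iff.mp (IsUnit.of_mul_eq_one _ h2)
    have hp2 := hp.out.two_le
    omega
  obtain ⟨B, -, hB⟩ := Ideal.image_subset_nonunits_valuationSubring (Ideal.span {x}) hI
  exact ⟨B, hB ⟨x, Ideal.subset_span rfl, rfl⟩⟩

/-- For a `p`-group `P` acting on a complex space of dimension `< |P|`, the norm `∑ u, ρ u s`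
of any vector is a combination of the `ρ u s` with coefficients in the maximal ideal of `O`. -/
theorem sum_eq_sum_nonunits_smul {P : Type*} [Group P] [Fintype P] {p : ℕ} [Fact p.Prime]
    (hP : IsPGroup p P) (O : ValuationSubring ℂ) (hp : (p : ℂ) ∈ O.nonunits)
    {V : Type*} [AddCommGroup V] [Module ℂ V] [FiniteDimensional ℂ V]
    (ρ : Representation ℂ P V) (hd : Module.finrank ℂ V < Fintype.card P) (s : V) :
    ∃ r : P → ℂ, (∀ u, r u ∈ O.nonunits) ∧ ∑ u : P, ρ u s = ∑ u : P, r u • ρ u s := by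
  classical
  -- a nontrivial linear relation
  have hdep : ¬ LinearIndependent ℂ (fun u : P => ρ u s) := fun h => by
    have := h.fintype_card_le_finrank
    omega
  rw [Fintype.not_linearIndependent_iff] at hdep
  obtain ⟨c, hc0, u1, hu1⟩ := hdep
  -- normalise it
  obtain ⟨u0, -, hmax⟩ := Finset.exists_max_image Finset.univ (fun u => O.valuation (c u))
    ⟨u1, Finset.mem_univ _⟩
  have hcu0 : c u0 ≠ 0 := by
    intro h0
    have h1 := hmax u1 (Finset.mem_univ _)
    rw [h0, map_zero] at h1
    exact hu1 ((map_eq_zero _).mp (le_antisymm h1 zero_le))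
  set b : P → ℂ := fun u => c u / c u0 with hb
  have hbO : ∀ u, b u ∈ O := fun u => by
    rw [← O.valuation_le_one_iff, hb, map_div₀]
    have hpos : 0 < O.valuation (c u0) := by
      rw [pos_iff_ne_zero]; exact (map_ne_zero _).mpr hcu0
    exact (div_le_one₀ hpos).mpr (hmax u (Finset.mem_univ _))
  have hb0 : b u0 = 1 := div_self hcu0
  have hbsum : ∑ u, b u • ρ u s = 0 := by
    have : ∑ u, b u • ρ u s = (c u0)⁻¹ • ∑ u, c u • ρ u s := by
      rw [Finset.smul_sum]
      refine Finset.sum_congr rfl fun u _ => ?_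
      rw [smul_smul]
      show (c u / c u0) • (ρ u) s = _
      rw [div_eq_inv_mul]
    rw [this, hc0, smul_zero]
  -- the residue field
  let k := IsLocalRing.ResidueField O
  have hpk : ((p : ℕ) : k) = 0 := by
    have h1 : (p : O) ∈ IsLocalRing.maximalIdeal O := by
      rw [← ValuationSubring.coe_mem_nonunits_iff]
      simpa using hp
    have h2 := (IsLocalRing.residue_eq_zero_iff (p : O)).mpr h1
    simpa using h2
  haveI : CharP k p := (CharP.charP_iff_prime_eq_zero (Fact.out : p.Prime)).mpr hpk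
  -- the left translation representation on functions `P → k`
  let L : Representation k P (P → k) :=
    { toFun := fun v =>
        { toFun := fun f x => f (v⁻¹ * x)
          map_add' := fun f g => rfl
          map_smul' := fun a f => rfl }
      map_one' := LinearMap.ext fun f => funext fun x => by simp
      map_mul' := fun v w => LinearMap.ext fun f => funext fun x => by
        simp [mul_assoc] }
  have hL : ∀ v f x, L v f x = f (v⁻¹ * x) := fun _ _ _ => rfl
  -- the reduction of the module of relations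
  let W : Submodule k (P → k) :=
    { carrier := {f | ∃ c : P → O, ∑ u, (c u : ℂ) • ρ u s = 0 ∧
        ∀ u, IsLocalRing.residue O (c u) = f u}
      add_mem' := by
        rintro f g ⟨c, hc, hcf⟩ ⟨c', hc', hcg⟩
        refine ⟨c + c', ?_, fun u => by simp [hcf, hcg]⟩
        simp [add_smul, Finset.sum_add_distrib, hc, hc']
      zero_mem' := ⟨0, by simp, fun u => by simp⟩
      smul_mem' := by
        rintro a f ⟨c, hc, hcf⟩
        obtain ⟨a', rfl⟩ := IsLocalRing.residue_surjective a
        refine ⟨fun u => a' * c u, ?_, fun u => by simp [hcf]⟩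
        have : ∑ u, ((a' * c u : O) : ℂ) • ρ u s = (a' : ℂ) • ∑ u, (c u : ℂ) • ρ u s := by
          rw [Finset.smul_sum]
          refine Finset.sum_congr rfl fun u _ => ?_
          rw [smul_smul]
          rfl
        rw [this, hc, smul_zero] }
  have hWmem : ∀ f, f ∈ W ↔ ∃ c : P → O, ∑ u, (c u : ℂ) • ρ u s = 0 ∧
        ∀ u, IsLocalRing.residue O (c u) = f u := fun _ => Iff.rfl
  have hWinv : ∀ v, ∀ f ∈ W, L v f ∈ W := by
    intro v f hf
    obtain ⟨c, hc, hcf⟩ := (hWmem f).mp hf
    refine (hWmem _).mpr ⟨fun x => c (v⁻¹ * x), ?_, fun u => by rw [hL]; exact hcf _⟩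
    have h1 : ∑ x, ((c (v⁻¹ * x) : O) : ℂ) • ρ x s = ∑ y, ((c y : O) : ℂ) • ρ (v * y) s := by
      refine Fintype.sum_equiv (Equiv.mulLeft v⁻¹) _ _ fun x => ?_
      simp
    rw [h1]
    have h2 : ∑ y, ((c y : O) : ℂ) • ρ (v * y) s = ρ v (∑ y, ((c y : O) : ℂ) • ρ y s) := by
      rw [map_sum]
      refine Finset.sum_congr rfl fun y _ => ?_
      rw [map_smul, map_mul]
      rfl
    rw [h2, hc, map_zero]
  have hWne : W ≠ ⊥ := by
    intro hbot
    have hmem : (fun u => IsLocalRing.residue O ⟨b u, hbO u⟩) ∈ W :=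
      (hWmem _).mpr ⟨fun u => ⟨b u, hbO u⟩, hbsum, fun u => rfl⟩
    rw [hbot, Submodule.mem_bot] at hmem
    have h1 := congrFun hmem u0
    have h2 : (⟨b u0, hbO u0⟩ : O) = 1 := Subtype.ext hb0
    simp only [h2, map_one, Pi.zero_apply] at h1
    exact one_ne_zero h1
  obtain ⟨f, hfW, hf0, hfix⟩ := Cfsg.Agent.Lib.Helper16.exists_fixed_vector hP L W hWinv hWne
  have hconst : ∀ x, f x = f 1 := by
    intro x
    have := congrFun (hfix x) x
    rw [hL, inv_mul_cancel] at this
    exact this.symm
  have hf1 : f 1 ≠ 0 := by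
    intro h0
    apply hf0
    funext x
    rw [hconst x, h0]
    rfl
  obtain ⟨c, hc, hcf⟩ := (hWmem f).mp hfW
  have hunit : IsUnit (c 1) := by
    rw [← IsLocalRing.residue_ne_zero_iff_isUnit, hcf]
    exact hf1
  obtain ⟨l', hl'⟩ := hunit.exists_left_inv
  have hmem : ∀ u, -(l' * (c u - c 1)) ∈ IsLocalRing.maximalIdeal O := by
    intro u
    apply neg_mem
    apply Ideal.mul_mem_left
    rw [← IsLocalRing.residue_eq_zero_iff, map_sub, hcf, hcf, hconst u, sub_self]
  refine ⟨fun u => ((-(l' * (c u - c 1)) : O) : ℂ), fun u => ?_, ?_⟩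
  · rw [ValuationSubring.coe_mem_nonunits_iff]
    exact hmem u
  · have hl'C : (l' : ℂ) * (c 1 : ℂ) = 1 := by
      have := congrArg (Subtype.val) hl'
      simpa using this
    have h1 : ∑ u, ((-(l' * (c u - c 1)) : O) : ℂ) • ρ u s
        = -((l' : ℂ) • ∑ u, (c u : ℂ) • ρ u s) + ((l' : ℂ) * (c 1 : ℂ)) • ∑ u, ρ u s := by
      rw [Finset.smul_sum, Finset.smul_sum, ← Finset.sum_neg_distrib, ← Finset.sum_add_distrib]
      refine Finset.sum_congr rfl fun u _ => ?_
      rw [smul_smul, ← neg_smul, ← add_smul]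
      congr 1
      push_cast
      ring
    rw [h1, hc, smul_zero, neg_zero, zero_add, hl'C, one_smul]

/-- **Nakayama step.**  Let `P` be a `p`-subgroup of `G` and `V` a complex representation of `G`
of dimension `< |P|`.  A vector `w` with `w + ∑ g ∈ S, ∑ u ∈ P, ρ (u g) w = 0` vanishes. -/
theorem eq_zero_of_add_sum_eq_zero {G : Type*} [Group G] [Fintype G] {p : ℕ} [Fact p.Prime]
    (P : Subgroup G) [Fintype P] (hP : IsPGroup p P)
    {V : Type*} [AddCommGroup V] [Module ℂ V] [FiniteDimensional ℂ V]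
    (ρ : Representation ℂ G V) (hd : Module.finrank ℂ V < Fintype.card P) (w : V) (S : Finset G)
    (hw : w + ∑ g ∈ S, ∑ u : P, ρ ((u : G) * g) w = 0) : w = 0 := by
  classical
  obtain ⟨O, hpO⟩ := exists_valuationSubring p
  set s : V := ∑ g ∈ S, ρ g w with hs
  obtain ⟨r, hr, hsum⟩ := sum_eq_sum_nonunits_smul hP O hpO (ρ.comp P.subtype) hd s
  have hsum' : ∑ u : P, ρ (u : G) s = ∑ u : P, r u • ρ (u : G) s := hsum
  have h1 : ∑ g ∈ S, ∑ u : P, ρ ((u : G) * g) w = ∑ u : P, ρ (u : G) s := by
    rw [Finset.sum_comm]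
    refine Finset.sum_congr rfl fun u _ => ?_
    rw [hs, map_sum]
    refine Finset.sum_congr rfl fun g _ => ?_
    rw [map_mul]
    rfl
  have hw' : w = ∑ u : P, ∑ g ∈ S, (-r u) • ρ ((u : G) * g) w := by
    have h2 : ∑ u : P, ∑ g ∈ S, (-r u) • ρ ((u : G) * g) w = -∑ u : P, r u • ρ (u : G) s := by
      rw [← Finset.sum_neg_distrib]
      refine Finset.sum_congr rfl fun u _ => ?_
      rw [hs, map_sum, Finset.smul_sum, ← Finset.sum_neg_distrib]
      refine Finset.sum_congr rfl fun g _ => ?_
      rw [map_mul, neg_smul]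
      rfl
    rw [h2, ← hsum', ← h1]
    exact eq_neg_of_add_eq_zero_left hw
  -- Nakayama on the lattice generated by the orbit of `w`
  let Λ : Submodule O V := Submodule.span O (Set.range fun g : G => ρ g w)
  have hFG : Λ.FG := Submodule.fg_span (Set.finite_range _)
  have hle : Λ ≤ IsLocalRing.maximalIdeal O • Λ := by
    rw [Submodule.span_le]
    rintro _ ⟨g', rfl⟩
    have h3 : ρ g' w = ∑ u : P, ∑ g ∈ S, (-r u) • ρ (g' * ((u : G) * g)) w := by
      conv_lhs => rw [hw']
      rw [map_sum]
      refine Finset.sum_congr rfl fun u _ => ?_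
      rw [map_sum]
      refine Finset.sum_congr rfl fun g _ => ?_
      rw [map_smul, map_mul ρ g']
      rfl
    show ρ g' w ∈ IsLocalRing.maximalIdeal O • Λ
    rw [h3]
    refine Submodule.sum_mem _ fun u _ => Submodule.sum_mem _ fun g _ => ?_
    have hru : -r u ∈ O.nonunits := neg_mem (hr u)
    obtain ⟨hmemO, hmax⟩ := ValuationSubring.mem_nonunits_iff_exists_mem_maximalIdeal.mp hru
    have : (-r u) • ρ (g' * ((u : G) * g)) w = (⟨-r u, hmemO⟩ : O) • ρ (g' * ((u : G) * g)) w := rfl
    rw [this]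
    exact Submodule.smul_mem_smul hmax (Submodule.subset_span ⟨_, rfl⟩)
  have hbot : Λ = ⊥ := Submodule.eq_bot_of_le_smul_of_le_jacobson_bot _ Λ hFG hle
    (IsLocalRing.jacobson_eq_maximalIdeal ⊥ bot_ne_top).ge
  have hwΛ : w ∈ Λ := Submodule.subset_span ⟨1, by simp⟩
  rw [hbot, Submodule.mem_bot] at hwΛ
  exact hwΛ

end Cfsg.Agent.Lib.Helper05.Lattice
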