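import Mathlib
import Cfsg.Prelude.Def_Characters
import Cfsg.Agent.Lib.Helper05.CharDecomp
import Cfsg.Agent.Lib.Helper84.Schur

/-!
# Multiplicity-free representations have commutative centraliser algebra, and conversely (helper5)
-/

set_option autoImplicit false

namespace Cfsg.Agent.Lib.Helper05

open Representation Module

universe u

section Defs

variable {G : Type*} [Group G] {V : Type*} [AddCommGroup V] [Module ℂ V]

/-- All endomorphisms commuting with the representation commute with each other. -/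
def CommEnd (ρ : Representation ℂ G V) : Prop :=
  ∀ S T : V →ₗ[ℂ] V, (∀ g, S ∘ₗ ρ g = ρ g ∘ₗ S) → (∀ g, T ∘ₗ ρ g = ρ g ∘ₗ T) → S ∘ₗ T = T ∘ₗ S

/-- The character is multiplicity-free. -/
def MultFree [Fintype G] (ρ : Representation ℂ G V) : Prop :=
  ∀ χ : G → ℂ, Cfsg.IsIrrCharacter G χ →
    Cfsg.classInner ρ.character χ = 0 ∨ Cfsg.classInner ρ.character χ = 1

variable {W : Type*} [AddCommGroup W] [Module ℂ W]

theorem commEnd_of_linearEquiv {ρ : Representation ℂ G V} {σ : Representation ℂ G W}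
    (e : V ≃ₗ[ℂ] W) (he : ∀ g, e.toLinearMap ∘ₗ ρ g = σ g ∘ₗ e.toLinearMap) (h : CommEnd σ) :
    CommEnd ρ := by
  intro S T hS hT
  have he' : ∀ g, e.symm.toLinearMap ∘ₗ σ g = ρ g ∘ₗ e.symm.toLinearMap := by
    intro g
    ext w
    have := LinearMap.congr_fun (he g) (e.symm w)
    simp only [LinearMap.coe_comp, LinearEquiv.coe_coe, Function.comp_apply,
      LinearEquiv.apply_symm_apply] at this ⊢
    rw [← this, LinearEquiv.symm_apply_apply]
  have key : ∀ X : V →ₗ[ℂ] V, (∀ g, X ∘ₗ ρ g = ρ g ∘ₗ X) →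
      ∀ g, (e.toLinearMap ∘ₗ X ∘ₗ e.symm.toLinearMap) ∘ₗ σ g
        = σ g ∘ₗ (e.toLinearMap ∘ₗ X ∘ₗ e.symm.toLinearMap) := by
    intro X hX g
    calc (e.toLinearMap ∘ₗ X ∘ₗ e.symm.toLinearMap) ∘ₗ σ g
        = e.toLinearMap ∘ₗ X ∘ₗ (e.symm.toLinearMap ∘ₗ σ g) := by
          simp only [LinearMap.comp_assoc]
      _ = e.toLinearMap ∘ₗ (X ∘ₗ ρ g) ∘ₗ e.symm.toLinearMap := by
          rw [he' g]; simp only [LinearMap.comp_assoc]
      _ = (e.toLinearMap ∘ₗ ρ g) ∘ₗ X ∘ₗ e.symm.toLinearMap := by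
          rw [hX g]; simp only [LinearMap.comp_assoc]
      _ = σ g ∘ₗ (e.toLinearMap ∘ₗ X ∘ₗ e.symm.toLinearMap) := by
          rw [he g]; simp only [LinearMap.comp_assoc]
  have h1 := h _ _ (key S hS) (key T hT)
  ext v
  have h2 := LinearMap.congr_fun h1 (e v)
  simp only [LinearMap.coe_comp, LinearEquiv.coe_coe, Function.comp_apply,
    LinearEquiv.symm_apply_apply] at h2
  exact e.injective h2

end Defs

section Prod

variable {G : Type*} [Group G] {V W : Type*} [AddCommGroup V] [Module ℂ V]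
  [AddCommGroup W] [Module ℂ W] (ρ : Representation ℂ G V) (σ : Representation ℂ G W)

theorem prod_apply' (g : G) : (ρ.prod σ) g = (ρ g).prodMap (σ g) := rfl

theorem commEnd_right_of_prod (h : CommEnd (ρ.prod σ)) : CommEnd σ := by
  intro S T hS hT
  have key : ∀ X : W →ₗ[ℂ] W, (∀ g, X ∘ₗ σ g = σ g ∘ₗ X) →
      ∀ g, (LinearMap.inr ℂ V W ∘ₗ X ∘ₗ LinearMap.snd ℂ V W) ∘ₗ (ρ.prod σ) g
        = (ρ.prod σ) g ∘ₗ (LinearMap.inr ℂ V W ∘ₗ X ∘ₗ LinearMap.snd ℂ V W) := by
    intro X hX g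
    apply LinearMap.ext; rintro ⟨v, w⟩; apply Prod.ext
    · simp [prod_apply']
    · have := LinearMap.congr_fun (hX g) w
      simpa [prod_apply'] using this
  have h1 := h _ _ (key S hS) (key T hT)
  ext w
  have h2 := LinearMap.congr_fun h1 (0, w)
  simpa using congrArg Prod.snd h2

theorem intertwining_eq_zero_of_prod (h : CommEnd (ρ.prod σ)) (f : V →ₗ[ℂ] W)
    (hf : ∀ g, f ∘ₗ ρ g = σ g ∘ₗ f) : f = 0 := by
  have hS : ∀ g, (LinearMap.inr ℂ V W ∘ₗ f ∘ₗ LinearMap.fst ℂ V W) ∘ₗ (ρ.prod σ) g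
      = (ρ.prod σ) g ∘ₗ (LinearMap.inr ℂ V W ∘ₗ f ∘ₗ LinearMap.fst ℂ V W) := by
    intro g
    apply LinearMap.ext; rintro ⟨v, w⟩; apply Prod.ext
    · simp [prod_apply']
    · have := LinearMap.congr_fun (hf g) v
      simpa [prod_apply'] using this
  have hT : ∀ g, (LinearMap.inl ℂ V W ∘ₗ LinearMap.fst ℂ V W) ∘ₗ (ρ.prod σ) g
      = (ρ.prod σ) g ∘ₗ (LinearMap.inl ℂ V W ∘ₗ LinearMap.fst ℂ V W) := by
    intro g
    apply LinearMap.ext; rintro ⟨v, w⟩; apply Prod.ext
    · simp [prod_apply']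
    · simp [prod_apply']
  have h1 := h _ _ hS hT
  ext v
  have h2 := LinearMap.congr_fun h1 (v, 0)
  simpa using congrArg Prod.snd h2

theorem commEnd_prod (hρ : ∀ S : V →ₗ[ℂ] V, (∀ g, S ∘ₗ ρ g = ρ g ∘ₗ S) → ∃ c : ℂ, S = c • LinearMap.id)
    (hσ : CommEnd σ)
    (h12 : ∀ f : V →ₗ[ℂ] W, (∀ g, f ∘ₗ ρ g = σ g ∘ₗ f) → f = 0)
    (h21 : ∀ f : W →ₗ[ℂ] V, (∀ g, f ∘ₗ σ g = ρ g ∘ₗ f) → f = 0) :
    CommEnd (ρ.prod σ) := by
  -- block decomposition
  have blocks : ∀ S : V × W →ₗ[ℂ] V × W, (∀ g, S ∘ₗ (ρ.prod σ) g = (ρ.prod σ) g ∘ₗ S) →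
      ∃ (c : ℂ) (S' : W →ₗ[ℂ] W), (∀ g, S' ∘ₗ σ g = σ g ∘ₗ S') ∧
        ∀ v w, S (v, w) = (c • v, S' w) := by
    intro S hS
    have hSg : ∀ g v w, S (ρ g v, σ g w) = ((ρ g) (S (v, w)).1, (σ g) (S (v, w)).2) := by
      intro g v w
      have := LinearMap.congr_fun (hS g) (v, w)
      simpa [prod_apply'] using this
    -- the four blocks
    have h11 : ∀ g, (LinearMap.fst ℂ V W ∘ₗ S ∘ₗ LinearMap.inl ℂ V W) ∘ₗ ρ g
        = ρ g ∘ₗ (LinearMap.fst ℂ V W ∘ₗ S ∘ₗ LinearMap.inl ℂ V W) := by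
      intro g; ext v
      have := hSg g v 0
      simp only [map_zero] at this
      simp [this]
    have h22 : ∀ g, (LinearMap.snd ℂ V W ∘ₗ S ∘ₗ LinearMap.inr ℂ V W) ∘ₗ σ g
        = σ g ∘ₗ (LinearMap.snd ℂ V W ∘ₗ S ∘ₗ LinearMap.inr ℂ V W) := by
      intro g; ext w
      have := hSg g 0 w
      simp only [map_zero] at this
      simp [this]
    have h12' : ∀ g, (LinearMap.snd ℂ V W ∘ₗ S ∘ₗ LinearMap.inl ℂ V W) ∘ₗ ρ g
        = σ g ∘ₗ (LinearMap.snd ℂ V W ∘ₗ S ∘ₗ LinearMap.inl ℂ V W) := by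
      intro g; ext v
      have := hSg g v 0
      simp only [map_zero] at this
      simp [this]
    have h21' : ∀ g, (LinearMap.fst ℂ V W ∘ₗ S ∘ₗ LinearMap.inr ℂ V W) ∘ₗ σ g
        = ρ g ∘ₗ (LinearMap.fst ℂ V W ∘ₗ S ∘ₗ LinearMap.inr ℂ V W) := by
      intro g; ext w
      have := hSg g 0 w
      simp only [map_zero] at this
      simp [this]
    obtain ⟨c, hc⟩ := hρ _ h11
    have z12 := h12 _ h12'
    have z21 := h21 _ h21'
    refine ⟨c, LinearMap.snd ℂ V W ∘ₗ S ∘ₗ LinearMap.inr ℂ V W, h22, ?_⟩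
    intro v w
    have hvw : ((v, w) : V × W) = (v, 0) + (0, w) := by simp
    have e11 : (S (v, 0)).1 = c • v := by
      have := LinearMap.congr_fun hc v
      simpa using this
    have e12 : (S (v, 0)).2 = 0 := by
      have := LinearMap.congr_fun z12 v
      simpa using this
    have e21 : (S (0, w)).1 = 0 := by
      have := LinearMap.congr_fun z21 w
      simpa using this
    rw [hvw, map_add]
    ext
    · simp [e11, e21]
    · simp [e12]
  intro S T hS hT
  obtain ⟨c, S', hS', hSv⟩ := blocks S hS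
  obtain ⟨d, T', hT', hTv⟩ := blocks T hT
  have hST := hσ S' T' hS' hT'
  apply LinearMap.ext; rintro ⟨v, w⟩; apply Prod.ext
  · simp [hSv, hTv, smul_smul, mul_comm]
  · have := LinearMap.congr_fun hST w
    simpa [hSv, hTv] using this

end Prod

section Main

variable {G : Type*} [Group G] [Fintype G]

theorem intertwining_zero_iff {V W : Type*} [AddCommGroup V] [Module ℂ V] [FiniteDimensional ℂ V]
    [AddCommGroup W] [Module ℂ W] [FiniteDimensional ℂ W]
    (ρ : Representation ℂ G V) (σ : Representation ℂ G W) :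
    (∀ f : V →ₗ[ℂ] W, (∀ g, f ∘ₗ ρ g = σ g ∘ₗ f) → f = 0) ↔
      Cfsg.classInner σ.character ρ.character = 0 := by
  rw [classInner_char_eq_finrank σ ρ]
  constructor
  · intro h
    have : Subsingleton (IntertwiningMap ρ σ) := by
      constructor
      intro a b
      apply IntertwiningMap.ext
      rw [h a.toLinearMap a.isIntertwining', h b.toLinearMap b.isIntertwining']
    have h2 : finrank ℂ (IntertwiningMap ρ σ) = 0 := Module.finrank_zero_iff.mpr this
    rw [h2]; simp
  · intro h f hf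
    have h2 : finrank ℂ (IntertwiningMap ρ σ) = 0 := by exact_mod_cast h
    have := Module.finrank_zero_iff.mp h2
    have h3 : (⟨f, hf⟩ : IntertwiningMap ρ σ) = 0 := Subsingleton.elim _ _
    exact congrArg IntertwiningMap.toLinearMap h3

theorem exists_nat_classInner_char {V W : Type*} [AddCommGroup V] [Module ℂ V]
    [FiniteDimensional ℂ V] [AddCommGroup W] [Module ℂ W] [FiniteDimensional ℂ W]
    (ρ : Representation ℂ G V) (σ : Representation ℂ G W) :
    ∃ n : ℕ, Cfsg.classInner ρ.character σ.character = n :=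
  ⟨_, classInner_char_eq_finrank ρ σ⟩

theorem multFree_iff_commEnd (V : Type u) [AddCommGroup V] [Module ℂ V] [FiniteDimensional ℂ V]
    (ρ : Representation ℂ G V) : MultFree ρ ↔ CommEnd ρ := by
  classical
  revert ρ
  revert V
  apply rep_induction
  · intro V _ _ _ ρ hV
    constructor
    · intro _ S T _ _
      exact Subsingleton.elim _ _
    · intro _ χ _
      left
      rw [char_eq_zero_of_subsingleton ρ, classInner_zero_left]
  · intro V _ _ _ ρ U U' hU hU' hc hirr ih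
    obtain ⟨ρ₁, hρ₁⟩ : ∃ ρ₁ : Representation ℂ G U, ρ₁ = ρ.subrepresentation U hU := ⟨_, rfl⟩
    obtain ⟨ρ₂, hρ₂⟩ : ∃ ρ₂ : Representation ℂ G U', ρ₂ = ρ.subrepresentation U' hU' := ⟨_, rfl⟩
    rw [← hρ₂] at ih
    rw [← hρ₁] at hirr
    haveI := hirr
    have hchar : ρ.character = ρ₁.character + ρ₂.character := by
      rw [hρ₁, hρ₂]; exact char_eq_add_of_isCompl ρ U U' hU hU' hc
    have hequiv : ∀ g, (Submodule.prodEquivOfIsCompl U U' hc).toLinearMap ∘ₗ (ρ₁.prod ρ₂) g
        = ρ g ∘ₗ (Submodule.prodEquivOfIsCompl U U' hc).toLinearMap := by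
      intro g
      rw [hρ₁, hρ₂]
      ext ⟨u, u'⟩
      all_goals simp [Representation.prod, Representation.subrepresentation]
    have hequiv' : ∀ g, (Submodule.prodEquivOfIsCompl U U' hc).symm.toLinearMap ∘ₗ ρ g
        = (ρ₁.prod ρ₂) g ∘ₗ (Submodule.prodEquivOfIsCompl U U' hc).symm.toLinearMap := by
      intro g
      apply LinearMap.ext
      intro v
      have := LinearMap.congr_fun (hequiv g) ((Submodule.prodEquivOfIsCompl U U' hc).symm v)
      simp only [LinearMap.coe_comp, LinearEquiv.coe_coe, Function.comp_apply,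
        LinearEquiv.apply_symm_apply] at this ⊢
      rw [← this, LinearEquiv.symm_apply_apply]
    have hcomm : CommEnd ρ ↔ CommEnd (ρ₁.prod ρ₂) :=
      ⟨commEnd_of_linearEquiv _ hequiv, commEnd_of_linearEquiv _ hequiv'⟩
    have hχ₁ : Cfsg.IsIrrCharacter G ρ₁.character := isIrrCharacter_of_rep _ hirr
    have h11 : Cfsg.classInner ρ₁.character ρ₁.character = 1 := classInner_self_irreducible ρ₁ hirr
    obtain ⟨m, hm⟩ := exists_nat_classInner_char ρ₂ ρ₁
    have hsymm : Cfsg.classInner ρ₁.character ρ₂.character = m := by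
      rw [← classInner_conj_symm, hm]; simp
    have hschur : ∀ S : U →ₗ[ℂ] U, (∀ g, S ∘ₗ ρ₁ g = ρ₁ g ∘ₗ S) → ∃ c : ℂ, S = c • LinearMap.id :=
      fun S hS => ⟨_, Cfsg.Agent.Lib.Helper84.schur_scalar ρ₁ S hS⟩
    have hinner : ∀ χ : G → ℂ, Cfsg.classInner ρ.character χ
        = Cfsg.classInner ρ₁.character χ + Cfsg.classInner ρ₂.character χ := by
      intro χ; rw [hchar, classInner_add_left]
    constructor
    · intro hMF
      have hm0 : m = 0 := by
        have := hMF _ hχ₁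
        rw [hinner, h11, hm] at this
        rcases this with h | h
        · exfalso
          have : ((1 + m : ℕ) : ℂ) = 0 := by push_cast; exact h
          have h2 : 1 + m = 0 := by exact_mod_cast this
          omega
        · have : ((1 + m : ℕ) : ℂ) = ((1 : ℕ) : ℂ) := by push_cast; exact h
          have h2 : 1 + m = 1 := by exact_mod_cast this
          omega
      have hMF₂ : MultFree ρ₂ := by
        intro χ hχ
        obtain ⟨n, ρχ, hirrχ, rfl⟩ := hχ
        have hh := hMF ρχ.character ⟨n, ρχ, hirrχ, rfl⟩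
        rw [hinner] at hh
        obtain ⟨a, ha⟩ := exists_nat_classInner_char ρ₁ ρχ
        obtain ⟨b, hb⟩ := exists_nat_classInner_char ρ₂ ρχ
        rw [ha, hb] at hh
        rw [hb]
        rcases hh with h | h
        · left
          have : ((a + b : ℕ) : ℂ) = ((0 : ℕ) : ℂ) := by push_cast; exact h
          have h2 : a + b = 0 := by exact_mod_cast this
          have : b = 0 := by omega
          rw [this]; simp
        · have : ((a + b : ℕ) : ℂ) = ((1 : ℕ) : ℂ) := by push_cast; exact h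
          have h2 : a + b = 1 := by exact_mod_cast this
          have : b = 0 ∨ b = 1 := by omega
          rcases this with h3 | h3
          · left; rw [h3]; simp
          · right; rw [h3]; simp
      rw [hcomm]
      apply commEnd_prod ρ₁ ρ₂ hschur (ih.mp hMF₂)
      · rw [intertwining_zero_iff, hm, hm0]; simp
      · rw [intertwining_zero_iff, hsymm, hm0]; simp
    · intro hC
      rw [hcomm] at hC
      have hMF₂ : MultFree ρ₂ := ih.mpr (commEnd_right_of_prod ρ₁ ρ₂ hC)
      have hm0 : Cfsg.classInner ρ₂.character ρ₁.character = 0 := by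
        rw [← intertwining_zero_iff]
        exact fun f hf => intertwining_eq_zero_of_prod ρ₁ ρ₂ hC f hf
      intro χ hχ
      rw [hinner]
      by_cases hχ1 : ρ₁.character = χ
      · right
        rw [← hχ1, h11, hm0, add_zero]
      · rw [classInner_irr_ne hχ₁ hχ hχ1, zero_add]
        exact hMF₂ χ hχ

end Main

end Cfsg.Agent.Lib.Helper05
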