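import Mathlib
import Cfsg.Prelude.Def_GeometricClasses
import Cfsg.Agent.Lib.Helper19.OEvenType

/-!
# K-OEvenX-X8, linear-algebra half

An isometric involution `W` of a non-degenerate quadratic form `Q` on `F^8` (`q` odd) together with a similarity `Z` (multiplier
`μ = ± 1`) anticommuting with `W` forces plus type: `V = V₊ ⊕ V₋` orthogonally, `Z : V₊ ≃ V₋`, and in the basis `(v_i, Z v_i)` the Gram
matrix is `diag (A, μ A)`, of determinant `μ⁴ (det A)²`.
-/

set_option autoImplicit false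

namespace Cfsg.Agent.Lib.Helper05.OEvenX

open Cfsg Cfsg.Geo
open scoped Matrix

variable {F : Type*} [Field F]

/-- a similarity of `Q` scales the polar form -/
theorem polar_mulVec_of_similarity {n : ℕ} (Q : (Fin n → F) → F) (g : Matrix (Fin n) (Fin n) F) (μ : F)
    (hg : ∀ v, Q (g *ᵥ v) = μ * Q v) (u v : Fin n → F) :
    QuadraticMap.polar Q (g *ᵥ u) (g *ᵥ v) = μ * QuadraticMap.polar Q u v := by
  unfold QuadraticMap.polar
  rw [← Matrix.mulVec_add, hg, hg, hg]
  ring

/-- the `+1`-eigenspace of a matrix -/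
def fixSpace {n : ℕ} (W : Matrix (Fin n) (Fin n) F) : Submodule F (Fin n → F) where
  carrier := {v | W *ᵥ v = v}
  add_mem' {a b} ha hb := by
    show W *ᵥ (a + b) = a + b
    rw [Matrix.mulVec_add, show W *ᵥ a = a from ha, show W *ᵥ b = b from hb]
  zero_mem' := by
    show W *ᵥ 0 = 0
    exact Matrix.mulVec_zero W
  smul_mem' c a ha := by
    show W *ᵥ (c • a) = c • a
    rw [Matrix.mulVec_smul, show W *ᵥ a = a from ha]

/-- the `-1`-eigenspace of a matrix -/
def negSpace {n : ℕ} (W : Matrix (Fin n) (Fin n) F) : Submodule F (Fin n → F) where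
  carrier := {v | W *ᵥ v = -v}
  add_mem' {a b} ha hb := by
    show W *ᵥ (a + b) = -(a + b)
    rw [Matrix.mulVec_add, show W *ᵥ a = -a from ha, show W *ᵥ b = -b from hb, neg_add]
  zero_mem' := by
    show W *ᵥ 0 = -0
    rw [Matrix.mulVec_zero, neg_zero]
  smul_mem' c a ha := by
    show W *ᵥ (c • a) = -(c • a)
    rw [Matrix.mulVec_smul, show W *ᵥ a = -a from ha, smul_neg]

theorem mem_fixSpace {n : ℕ} {W : Matrix (Fin n) (Fin n) F} {v : Fin n → F} :
    v ∈ fixSpace W ↔ W *ᵥ v = v := Iff.rfl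

theorem mem_negSpace {n : ℕ} {W : Matrix (Fin n) (Fin n) F} {v : Fin n → F} :
    v ∈ negSpace W ↔ W *ᵥ v = -v := Iff.rfl

theorem isCompl_fix_neg {n : ℕ} (h2 : (2 : F) ≠ 0) (W : Matrix (Fin n) (Fin n) F) (hW : W * W = 1) :
    IsCompl (fixSpace W) (negSpace W) := by
  constructor
  · rw [Submodule.disjoint_def]
    intro v hp hm
    rw [mem_fixSpace] at hp
    rw [mem_negSpace] at hm
    have h : v = -v := hp.symm.trans hm
    have h' : (2 : F) • v = 0 := by
      rw [two_smul]
      nth_rewrite 2 [h]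
      exact add_neg_cancel v
    rcases smul_eq_zero.mp h' with h0 | h0
    · exact absurd h0 h2
    · exact h0
  · rw [codisjoint_iff, eq_top_iff]
    intro v _
    have hWW : ∀ u : Fin n → F, W *ᵥ (W *ᵥ u) = u := by
      intro u
      rw [Matrix.mulVec_mulVec, hW, Matrix.one_mulVec]
    have hp : (2 : F)⁻¹ • (v + W *ᵥ v) ∈ fixSpace W := by
      rw [mem_fixSpace, Matrix.mulVec_smul, Matrix.mulVec_add, hWW, add_comm]
    have hm : (2 : F)⁻¹ • (v - W *ᵥ v) ∈ negSpace W := by
      rw [mem_negSpace, Matrix.mulVec_smul, Matrix.mulVec_sub, hWW, ← smul_neg, neg_sub]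
    have hv : v = (2 : F)⁻¹ • (v + W *ᵥ v) + (2 : F)⁻¹ • (v - W *ᵥ v) := by
      rw [← smul_add, add_add_sub_cancel, ← two_smul F v, smul_smul, inv_mul_cancel₀ h2, one_smul]
    rw [hv]
    exact Submodule.add_mem_sup hp hm


/-- **Linear-algebra half of X8.** -/
theorem plus_of_involution_anticomm [Fintype F] (h2 : (2 : F) ≠ 0) (Q : (Fin 8 → F) → F)
    (hQ : IsNondegenerateQuadraticForm Q) (W Z Zi : Matrix (Fin 8) (Fin 8) F) (hW : W * W = 1)
    (hZ : Z * Zi = 1) (hZi : Zi * Z = 1) (hZW : Z * W = -(W * Z)) (hWQ : ∀ v, Q (W *ᵥ v) = Q v)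
    (μ : F) (hμ : μ ^ 2 = 1) (hZQ : ∀ v, Q (Z *ᵥ v) = μ * Q v) : IsPlusTypeOn Q ⊤ := by
  classical
  have hB := hQ.polar_bilinear
  have hBW : ∀ u v, QuadraticMap.polar Q (W *ᵥ u) (W *ᵥ v) = QuadraticMap.polar Q u v := by
    intro u v
    rw [polar_mulVec_of_similarity Q W 1 (fun v => by rw [hWQ, one_mul]), one_mul]
  have hBZ := polar_mulVec_of_similarity Q Z μ hZQ
  -- `Zi` anticommutes with `W` too
  have hZiW : Zi * W = -(W * Zi) := by
    have h1 : Zi * (Z * W) * Zi = Zi * (-(W * Z)) * Zi := by rw [hZW]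
    rw [← Matrix.mul_assoc, hZi, Matrix.one_mul, Matrix.mul_neg, Matrix.neg_mul, Matrix.mul_assoc Zi,
      Matrix.mul_assoc W, hZ, Matrix.mul_one] at h1
    rw [h1, neg_neg]
  -- `Z` swaps the eigenspaces
  have hZp : ∀ v ∈ fixSpace W, Z *ᵥ v ∈ negSpace W := by
    intro v hv
    rw [mem_fixSpace] at hv
    rw [mem_negSpace, Matrix.mulVec_mulVec, ← neg_neg (W * Z), ← hZW, Matrix.neg_mulVec,
      ← Matrix.mulVec_mulVec, hv]
  have hZim : ∀ v ∈ negSpace W, Zi *ᵥ v ∈ fixSpace W := by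
    intro v hv
    rw [mem_negSpace] at hv
    rw [mem_fixSpace, Matrix.mulVec_mulVec, ← neg_neg (W * Zi), ← hZiW, Matrix.neg_mulVec,
      ← Matrix.mulVec_mulVec, hv, Matrix.mulVec_neg, neg_neg]
  -- the linear equivalence `V₊ ≃ V₋`
  let e : fixSpace W ≃ₗ[F] negSpace W :=
    { toFun := fun v => ⟨Z *ᵥ v.1, hZp v.1 v.2⟩
      map_add' := fun a b => by
        apply Subtype.ext
        show Z *ᵥ ((a : Fin 8 → F) + b) = Z *ᵥ a + Z *ᵥ b
        exact Matrix.mulVec_add _ _ _
      map_smul' := fun c a => by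
        apply Subtype.ext
        show Z *ᵥ (c • (a : Fin 8 → F)) = c • Z *ᵥ a
        exact Matrix.mulVec_smul _ _ _
      invFun := fun v => ⟨Zi *ᵥ v.1, hZim v.1 v.2⟩
      left_inv := fun a => by
        apply Subtype.ext
        show Zi *ᵥ (Z *ᵥ (a : Fin 8 → F)) = a
        rw [Matrix.mulVec_mulVec, hZi, Matrix.one_mulVec]
      right_inv := fun a => by
        apply Subtype.ext
        show Z *ᵥ (Zi *ᵥ (a : Fin 8 → F)) = a
        rw [Matrix.mulVec_mulVec, hZ, Matrix.one_mulVec] }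
  have he : ∀ v : fixSpace W, ((e v : negSpace W) : Fin 8 → F) = Z *ᵥ (v : Fin 8 → F) := fun v => rfl
  have hc := isCompl_fix_neg h2 W hW
  -- bases
  let bp := Module.finBasis F (fixSpace W)
  let bm := bp.map e
  let b : Module.Basis (Fin (Module.finrank F (fixSpace W)) ⊕ Fin (Module.finrank F (fixSpace W))) F (Fin 8 → F) :=
    (bp.prod bm).map (Submodule.prodEquivOfIsCompl _ _ hc)
  have hbl : ∀ i, b (Sum.inl i) = (bp i : Fin 8 → F) := by
    intro i
    simp [b]
  have hbr : ∀ i, b (Sum.inr i) = Z *ᵥ (bp i : Fin 8 → F) := by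
    intro i
    simp [b, bm, he]
  -- the dimension of `V₊` is 4
  have hd : Module.finrank F (fixSpace W) = 4 := by
    have := Module.finrank_eq_card_basis b
    rw [Module.finrank_fin_fun, Fintype.card_sum, Fintype.card_fin] at this
    omega
  -- orthogonality of the eigenspaces
  have horth : ∀ u ∈ fixSpace W, ∀ v ∈ negSpace W, QuadraticMap.polar Q u v = 0 := by
    intro u hu v hv
    rw [mem_fixSpace] at hu
    rw [mem_negSpace] at hv
    have h := hBW u v
    rw [hu, hv, show (-v) = (-1 : F) • v by rw [neg_smul, one_smul], hB.smul_right] at h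
    have h' : (2 : F) * QuadraticMap.polar Q u v = 0 := by linear_combination -h
    rcases mul_eq_zero.mp h' with h0 | h0
    · exact absurd h0 h2
    · exact h0
  have horth' : ∀ u ∈ negSpace W, ∀ v ∈ fixSpace W, QuadraticMap.polar Q u v = 0 := by
    intro u hu v hv
    rw [QuadraticMap.polar_comm]
    exact horth v hv u hu
  -- the Gram matrix
  let A : Matrix (Fin (Module.finrank F (fixSpace W))) (Fin (Module.finrank F (fixSpace W))) F :=
    Matrix.of fun i j => QuadraticMap.polar Q (bp i : Fin 8 → F) (bp j : Fin 8 → F)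
  have hG : (Matrix.of fun i j => QuadraticMap.polar Q (b i) (b j)) = Matrix.fromBlocks A 0 0 (μ • A) := by
    ext i j
    rcases i with i | i <;> rcases j with j | j
    · simp only [Matrix.of_apply, Matrix.fromBlocks_apply₁₁, hbl, A]
    · simp only [Matrix.of_apply, Matrix.fromBlocks_apply₁₂, hbl, hbr, Matrix.zero_apply]
      exact horth _ (bp i).2 _ (hZp _ (bp j).2)
    · simp only [Matrix.of_apply, Matrix.fromBlocks_apply₂₁, hbl, hbr, Matrix.zero_apply]
      exact horth' _ (hZp _ (bp i).2) _ (bp j).2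
    · simp only [Matrix.of_apply, Matrix.fromBlocks_apply₂₂, hbr, Matrix.smul_apply, smul_eq_mul, A]
      exact hBZ _ _
  have hsq : IsSquare (Matrix.of fun i j => QuadraticMap.polar Q (b i) (b j)).det := by
    rw [hG, Matrix.det_fromBlocks_zero₂₁, Matrix.det_smul, Fintype.card_fin]
    refine ⟨A.det, ?_⟩
    have : μ ^ Module.finrank F (fixSpace W) = 1 := by
      rw [hd, show 4 = 2 * 2 from rfl, pow_mul, hμ, one_pow]
    rw [this, one_mul]
  exact (Cfsg.Agent.Lib.Helper19.OEvenType.isPlusTypeOn_top_iff_gram Q hQ h2 (M := 4) (by norm_num) b).mpr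
    ⟨fun _ => ⟨1, by norm_num⟩, fun _ => hsq⟩

end Cfsg.Agent.Lib.Helper05.OEvenX
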