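import Mathlib
import Cfsg.Prelude.Def_GeometricClasses
import Cfsg.Agent.Lib.Helper61.AschDefs
import Cfsg.Agent.Lib.Helper61.AschBasic
import Cfsg.Agent.Lib.Helper91.SUMaxD6b
import Cfsg.Agent.Lib.Helper05.OEvenXX8a

/-!
# K-OEvenX-X8 (keystone 582628): class 6 in dimension 8 forces plus type

Route: commutators of `R` are scalars `c` with `c² = 1` (a commutator of similarities has multiplier `1`, the scalar `c` has multiplier
`c²`), hence `x² = ± 1` and the multiplier `μ x = ± 1` for `x ∈ R`.  Counting with the homomorphism `(μ, χ_a) : R → {± 1}²` gives commuting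
`a, b ∈ ker μ` with `a, b, a b` non-scalar, one of which is an isometric non-scalar involution `w`.  Some `z ∈ R` anticommutes with `w`, and
`OEvenXX8a.plus_of_involution_anticomm` concludes.
-/

set_option autoImplicit false
set_option linter.unusedVariables false

namespace Cfsg.Agent.Lib.Helper05.OEvenX

open Cfsg Cfsg.Geo Cfsg.Agent.Lib.Helper61.Asch
open scoped Matrix MatrixGroups

/-- a homomorphism with at most `k` values has a large kernel: it is not contained in a set `S` with `k |S| < |G|`. -/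
theorem exists_ker_not_mem {G H : Type*} [Group G] [Group H] [Finite G] [DecidableEq H] (f : G →* H)
    (T : Finset H) (hT : ∀ g, f g ∈ T) (k : ℕ) (hk : T.card ≤ k) (S : Set G)
    (hS : S.ncard * k < Nat.card G) : ∃ y, f y = 1 ∧ y ∉ S := by
  by_contra hcon
  push Not at hcon
  have h1 : Nat.card f.ker ≤ S.ncard := by
    have hsub : ((f.ker : Subgroup G) : Set G) ⊆ S := fun y hy => hcon y (MonoidHom.mem_ker.mp hy)
    have := Set.ncard_le_ncard hsub (Set.toFinite S)
    rwa [← Nat.card_coe_set_eq] at this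
  have h2 : f.ker.index ≤ k := by
    rw [Subgroup.index_ker]
    have hinj : Function.Injective (fun x : f.range =>
        (⟨x.1, by obtain ⟨g, hg⟩ := x.2; rw [← hg]; exact hT g⟩ : (T : Set H))) := by
      intro x y hxy
      apply Subtype.ext
      have := congrArg Subtype.val hxy
      exact this
    have h3 := Nat.card_le_card_of_injective _ hinj
    rw [Nat.card_coe_set_eq, Set.ncard_coe_finset] at h3
    omega
  have h3 := Subgroup.card_mul_index f.ker
  have h4 : Nat.card f.ker * f.ker.index ≤ S.ncard * k := Nat.mul_le_mul h1 h2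
  omega

variable {F : Type*} [Field F] {n : ℕ}

/-- a unit of square one is `± 1` -/
theorem unit_eq_one_or_neg_one (u : Fˣ) (h : (u : F) ^ 2 = 1) : u = 1 ∨ u = -1 := by
  have h1 : ((u : F) - 1) * ((u : F) + 1) = 0 := by linear_combination h
  rcases mul_eq_zero.mp h1 with h0 | h0
  · left
    apply Units.ext
    rw [Units.val_one]
    linear_combination h0
  · right
    apply Units.ext
    rw [Units.val_neg, Units.val_one]
    linear_combination h0

section mu

variable (Q : (Fin n → F) → F)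

/-- the multiplier of a similarity -/
noncomputable def mu (g : ↥(quadSimilarityGroup Q)) : Fˣ := Classical.choose g.2

theorem mu_spec (g : ↥(quadSimilarityGroup Q)) (v : Fin n → F) :
    Q (((g : GL (Fin n) F) : Matrix (Fin n) (Fin n) F) *ᵥ v) = (mu Q g : F) * Q v :=
  Classical.choose_spec g.2 v

theorem mu_unique {v₀ : Fin n → F} (hv₀ : Q v₀ ≠ 0) (g : ↥(quadSimilarityGroup Q)) (c : F)
    (h : Q (((g : GL (Fin n) F) : Matrix (Fin n) (Fin n) F) *ᵥ v₀) = c * Q v₀) : (mu Q g : F) = c := by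
  have := mu_spec Q g v₀
  rw [h] at this
  exact (mul_right_cancel₀ hv₀ this).symm

/-- the multiplier as a homomorphism -/
noncomputable def muHom {v₀ : Fin n → F} (hv₀ : Q v₀ ≠ 0) : ↥(quadSimilarityGroup Q) →* Fˣ where
  toFun := mu Q
  map_one' := Units.ext (by
    rw [Units.val_one]
    apply mu_unique Q hv₀
    simp)
  map_mul' g h := Units.ext (by
    rw [Units.val_mul]
    apply mu_unique Q hv₀
    rw [Subgroup.coe_mul, Units.val_mul, ← Matrix.mulVec_mulVec, mu_spec Q g, mu_spec Q h, mul_assoc])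

theorem muHom_apply {v₀ : Fin n → F} (hv₀ : Q v₀ ≠ 0) (g : ↥(quadSimilarityGroup Q)) :
    muHom Q hv₀ g = mu Q g := rfl

theorem exists_ne_zero (hQ : IsNondegenerateQuadraticForm Q) (hn : 0 < n) : ∃ v₀, Q v₀ ≠ 0 := by
  by_contra h
  push Not at h
  have hne : (Pi.single (⟨0, hn⟩ : Fin n) (1 : F) : Fin n → F) ≠ 0 := by
    intro h0
    have := congrFun h0 ⟨0, hn⟩
    simp at this
  obtain ⟨⟨x, hx⟩, -⟩ := hQ.nondegenerate _ hne
  apply hx
  unfold QuadraticMap.polar
  rw [h, h, h]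
  ring

end mu

section scal

open Classical in
/-- the scalar of a scalar matrix (junk value `1` otherwise) -/
noncomputable def scal (g : GL (Fin n) F) : Fˣ :=
  if h : g ∈ scalars (Fin n) F then Classical.choose ((mem_scalars_iff g).1 h) else 1

theorem scal_spec {g : GL (Fin n) F} (h : g ∈ scalars (Fin n) F) :
    (g : Matrix (Fin n) (Fin n) F) = (scal g : F) • (1 : Matrix (Fin n) (Fin n) F) := by
  unfold scal
  rw [dif_pos h]
  exact Classical.choose_spec ((mem_scalars_iff g).1 h)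

theorem scal_eq (hn : 0 < n) {g : GL (Fin n) F} {c : Fˣ}
    (h : (g : Matrix (Fin n) (Fin n) F) = (c : F) • (1 : Matrix (Fin n) (Fin n) F)) : scal g = c := by
  have hg : g ∈ scalars (Fin n) F := (mem_scalars_iff g).2 ⟨c, h⟩
  have h1 := scal_spec hg
  rw [h] at h1
  have := congrFun (congrFun h1 ⟨0, hn⟩) ⟨0, hn⟩
  simp at this
  exact Units.ext this.symm

theorem scal_mul (hn : 0 < n) {g h : GL (Fin n) F} (hg : g ∈ scalars (Fin n) F)
    (hh : h ∈ scalars (Fin n) F) : scal (g * h) = scal g * scal h := by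
  apply scal_eq hn
  rw [Units.val_mul, scal_spec hg, scal_spec hh, Units.val_mul, Matrix.smul_mul, Matrix.one_mul, smul_smul]

/-- the commutator character `y ↦ [a, y]` of a group with scalar commutators -/
noncomputable def chi (hn : 0 < n) (R : Subgroup (GL (Fin n) F))
    (hsc : ∀ g ∈ R, ∀ h ∈ R, g * h * g⁻¹ * h⁻¹ ∈ scalars (Fin n) F) (a : GL (Fin n) F) (ha : a ∈ R) :
    ↥R →* Fˣ where
  toFun y := scal (a * (y : GL (Fin n) F) * a⁻¹ * (y : GL (Fin n) F)⁻¹)
  map_one' := by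
    apply scal_eq hn
    simp
  map_mul' y y' := by
    have h1 : a * ((y : GL (Fin n) F) * (y' : GL (Fin n) F)) * a⁻¹ * ((y : GL (Fin n) F) * (y' : GL (Fin n) F))⁻¹ =
        (a * (y : GL (Fin n) F) * a⁻¹ * (y : GL (Fin n) F)⁻¹) *
          ((y : GL (Fin n) F) * (a * (y' : GL (Fin n) F) * a⁻¹ * (y' : GL (Fin n) F)⁻¹) * (y : GL (Fin n) F)⁻¹) := by
      group
    have h2 : (y : GL (Fin n) F) * (a * (y' : GL (Fin n) F) * a⁻¹ * (y' : GL (Fin n) F)⁻¹) * (y : GL (Fin n) F)⁻¹ =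
        a * (y' : GL (Fin n) F) * a⁻¹ * (y' : GL (Fin n) F)⁻¹ := by
      rw [← scalar_comm (hsc a ha _ y'.2) (y : GL (Fin n) F)]
      group
    show scal (a * ((y * y' : ↥R) : GL (Fin n) F) * a⁻¹ * ((y * y' : ↥R) : GL (Fin n) F)⁻¹) = _
    rw [Subgroup.coe_mul, h1, h2, scal_mul hn (hsc a ha _ y.2) (hsc a ha _ y'.2)]

theorem chi_apply (hn : 0 < n) (R : Subgroup (GL (Fin n) F))
    (hsc : ∀ g ∈ R, ∀ h ∈ R, g * h * g⁻¹ * h⁻¹ ∈ scalars (Fin n) F) (a : GL (Fin n) F) (ha : a ∈ R) (y : ↥R) :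
    chi hn R hsc a ha y = scal (a * (y : GL (Fin n) F) * a⁻¹ * (y : GL (Fin n) F)⁻¹) := rfl

end scal


section main

variable [Fintype F]

/-- `q` odd from `¬ 2 ∣ |F|` -/
theorem two_ne_zero_of_not_dvd (h : ¬ (2 ∣ Fintype.card F)) : (2 : F) ≠ 0 := by
  intro h0
  have h1 : ((2 : ℕ) : F) = 0 := by exact_mod_cast h0
  obtain ⟨p, hp⟩ := CharP.exists F
  have hpp : p.Prime := (CharP.char_is_prime_or_zero F p).resolve_right (by
    intro h0
    subst h0
    have := CharP.charP_to_charZero F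
    exact absurd h1 (by norm_num))
  have hdvd : p ∣ 2 := (CharP.cast_eq_zero_iff F p 2).1 h1
  have hp2 : p = 2 := (Nat.prime_dvd_prime_iff_eq hpp Nat.prime_two).1 hdvd
  subst hp2
  apply h
  rw [← CharP.cast_eq_zero_iff F 2]
  exact Nat.cast_card_eq_zero F

/-- **K-OEvenX-X8.** -/
theorem plus_of_symplecticType_eight (Q : (Fin 8 → F) → F) (hQ : IsNondegenerateQuadraticForm Q)
    (R : Subgroup (GL (Fin 8) F)) (r m : ℕ) (hRΔ : R ≤ quadSimilarityGroup Q) (hspan : spanAlg R = ⊤)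
    (hR : IsSymplecticTypeGroup r R) (hrq : ¬ (r ∣ Fintype.card F))
    (htr : ∀ x ∈ R, x ∈ scalars (Fin 8) F ∨ Matrix.trace ((x : GL (Fin 8) F) : Matrix (Fin 8) (Fin 8) F) = 0)
    (hexp : ∀ x ∈ R, x ^ (r * Nat.gcd 2 r) = 1) (hm : 1 ≤ m) (hn : 8 = r ^ m)
    (hcen : Nat.card (Subgroup.center R) = Nat.gcd (r * Nat.gcd 2 r) (Fintype.card F - 1))
    (hcard : Nat.card R = Nat.card (Subgroup.center R) * r ^ (2 * m)) : IsPlusTypeOn Q ⊤ := by
  classical
  -- `r = 2`, `m = 3`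
  have hr2 : r = 2 := by
    have h1 : r ∣ 2 ^ 3 := by
      rw [show 2 ^ 3 = 8 by norm_num, hn]
      exact dvd_pow_self r (by omega)
    exact (Nat.prime_dvd_prime_iff_eq hR.prime Nat.prime_two).1 (hR.prime.dvd_of_dvd_pow h1)
  subst hr2
  have hm3 : m = 3 := by
    have : 2 ^ m = 2 ^ 3 := by rw [← hn]; norm_num
    exact Nat.pow_right_injective (le_refl 2) this
  subst hm3
  have h2 : (2 : F) ≠ 0 := two_ne_zero_of_not_dvd hrq
  have hexp4 : ∀ x ∈ R, x ^ 4 = 1 := fun x hx => by simpa using hexp x hx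
  have h8 : 0 < 8 := by norm_num
  obtain ⟨v₀, hv₀⟩ := exists_ne_zero Q hQ h8
  have hcomm := Cfsg.Agent.Lib.Helper91.SUMax.commutator_central_of_symplecticType R hR
  -- commutators are scalars
  have hsc : ∀ g ∈ R, ∀ h ∈ R, g * h * g⁻¹ * h⁻¹ ∈ scalars (Fin 8) F := fun g hg h hh =>
    mem_scalars_of_commute hspan _ (fun x hx => hcomm g hg h hh x hx)
  -- the multiplier of a scalar is its square
  have hmu_scal : ∀ (g : ↥(quadSimilarityGroup Q)) (c : F),
      ((g : GL (Fin 8) F) : Matrix (Fin 8) (Fin 8) F) = c • (1 : Matrix (Fin 8) (Fin 8) F) →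
      (mu Q g : F) = c ^ 2 := by
    intro g c hc
    apply mu_unique Q hv₀
    rw [hc, Matrix.smul_mulVec, Matrix.one_mulVec, hQ.smul]
  -- (F1) commutators are `± 1`
  have hF1 : ∀ g ∈ R, ∀ h ∈ R, ∃ c : Fˣ, (c : F) ^ 2 = 1 ∧
      ((g * h * g⁻¹ * h⁻¹ : GL (Fin 8) F) : Matrix (Fin 8) (Fin 8) F) = (c : F) • (1 : Matrix (Fin 8) (Fin 8) F) := by
    intro g hg h hh
    obtain ⟨c, hc⟩ := (mem_scalars_iff _).1 (hsc g hg h hh)
    refine ⟨c, ?_, hc⟩
    let gΔ : ↥(quadSimilarityGroup Q) := ⟨g, hRΔ hg⟩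
    let hΔ : ↥(quadSimilarityGroup Q) := ⟨h, hRΔ hh⟩
    have h1 : muHom Q hv₀ (gΔ * hΔ * gΔ⁻¹ * hΔ⁻¹) = 1 := by
      rw [map_mul, map_mul, map_mul, map_inv, map_inv, mul_inv_cancel_comm, mul_inv_cancel]
    have h3 := hmu_scal (gΔ * hΔ * gΔ⁻¹ * hΔ⁻¹) c hc
    rw [← muHom_apply Q hv₀, h1, Units.val_one] at h3
    exact h3.symm
  -- (F2) squares are `± 1`
  have hF2 : ∀ x ∈ R, ∃ d : Fˣ, (d : F) ^ 2 = 1 ∧
      ((x * x : GL (Fin 8) F) : Matrix (Fin 8) (Fin 8) F) = (d : F) • (1 : Matrix (Fin 8) (Fin 8) F) := by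
    intro x hx
    have hcen : ∀ y ∈ R, (x * x) * y = y * (x * x) := by
      intro y hy
      obtain ⟨c, hc2, hc⟩ := hF1 x hx y hy
      set s : GL (Fin 8) F := x * y * x⁻¹ * y⁻¹ with hs
      have hsz : ∀ g : GL (Fin 8) F, s * g = g * s := fun g => scalar_comm (hsc x hx y hy) g
      have hss : s * s = 1 := by
        apply Units.ext
        rw [Units.val_mul, hc, Matrix.smul_mul, Matrix.one_mul, smul_smul, ← pow_two, hc2, one_smul,
          Units.val_one]
      have hxy : x * y = s * (y * x) := by rw [hs]; group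
      calc x * x * y = x * (x * y) := by group
        _ = x * (s * (y * x)) := by rw [hxy]
        _ = (x * s) * (y * x) := by group
        _ = (s * x) * (y * x) := by rw [hsz x]
        _ = s * ((x * y) * x) := by group
        _ = s * ((s * (y * x)) * x) := by rw [hxy]
        _ = (s * s) * (y * (x * x)) := by group
        _ = y * (x * x) := by rw [hss, one_mul]
    obtain ⟨d, hd⟩ := (mem_scalars_iff _).1 (mem_scalars_of_commute hspan (x * x) hcen)
    refine ⟨d, ?_, hd⟩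
    have h4 : (x * x) * (x * x) = 1 := by
      calc (x * x) * (x * x) = x ^ 4 := by simp [pow_succ, mul_assoc]
        _ = 1 := hexp4 x hx
    have h5 := congrArg (fun u : GL (Fin 8) F => (u : Matrix (Fin 8) (Fin 8) F)) h4
    simp only [Units.val_mul, Units.val_one] at h5
    rw [← Units.val_mul, hd, Matrix.smul_mul, Matrix.one_mul, smul_smul, ← pow_two] at h5
    have h6 := congrFun (congrFun h5 0) 0
    simpa using h6
  -- the multiplier on `R`
  let μR : ↥R →* Fˣ := (muHom Q hv₀).comp (Subgroup.inclusion hRΔ)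
  have hμR_spec : ∀ (y : ↥R) (v : Fin 8 → F),
      Q (((y : GL (Fin 8) F) : Matrix (Fin 8) (Fin 8) F) *ᵥ v) = (μR y : F) * Q v := by
    intro y v
    exact mu_spec Q (Subgroup.inclusion hRΔ y) v
  -- (F3) multipliers are `± 1`
  have hF3 : ∀ y : ↥R, (μR y : F) ^ 2 = 1 := by
    intro y
    obtain ⟨d, hd2, hd⟩ := hF2 y y.2
    have h1 : μR (y * y) = μR y * μR y := map_mul μR y y
    have h3 : (μR (y * y) : F) = (d : F) ^ 2 :=
      hmu_scal (Subgroup.inclusion hRΔ (y * y)) d hd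
    rw [pow_two, ← Units.val_mul, ← h1, h3, hd2]
  -- the centre
  let S₁ : Set ↥R := {y | (y : GL (Fin 8) F) ∈ scalars (Fin 8) F}
  have hS₁ : S₁.ncard = Nat.card (Subgroup.center R) := by
    have : ((Subgroup.center R : Subgroup ↥R) : Set ↥R) = S₁ := by
      ext y
      simp only [SetLike.mem_coe, Subgroup.mem_center_iff, S₁, Set.mem_ofPred_eq]
      constructor
      · intro h
        apply mem_scalars_of_commute hspan
        intro g hg
        have := h ⟨g, hg⟩
        exact (congrArg Subtype.val this).symm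
      · intro h g
        apply Subtype.ext
        exact (scalar_comm h (g : GL (Fin 8) F)).symm
    rw [← this]
    exact (Nat.card_coe_set_eq _).symm
  have hZpos : 0 < Nat.card (Subgroup.center R) := Nat.card_pos
  have hcardR : Nat.card R = Nat.card (Subgroup.center R) * 64 := by rw [hcard]; norm_num
  let T₁ : Finset Fˣ := {1, -1}
  have hT₁ : T₁.card ≤ 2 := Finset.card_le_two
  have hμT : ∀ y : ↥R, μR y ∈ T₁ := by
    intro y
    rcases unit_eq_one_or_neg_one _ (hF3 y) with h | h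
    · rw [h]; simp [T₁]
    · rw [h]; simp [T₁]
  -- first choice: `a` isometric, non-scalar
  obtain ⟨a, haμ, haS⟩ := exists_ker_not_mem μR T₁ hμT 2 hT₁ S₁ (by rw [hS₁, hcardR]; omega)
  -- second choice
  let χ := chi h8 R hsc (a : GL (Fin 8) F) a.2
  have hχT : ∀ y : ↥R, χ y ∈ T₁ := by
    intro y
    obtain ⟨c, hc2, hc⟩ := hF1 a a.2 y y.2
    have : χ y = c := scal_eq h8 hc
    rcases unit_eq_one_or_neg_one _ hc2 with h | h
    · rw [this, h]; simp [T₁]
    · rw [this, h]; simp [T₁]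
  let S₂ : Set ↥R := S₁ ∪ (fun y => a⁻¹ * y) '' S₁
  have hS₂ : S₂.ncard ≤ 2 * Nat.card (Subgroup.center R) := by
    calc S₂.ncard ≤ S₁.ncard + ((fun y => a⁻¹ * y) '' S₁).ncard := Set.ncard_union_le _ _
      _ ≤ S₁.ncard + S₁.ncard := Nat.add_le_add_left (Set.ncard_image_le (Set.toFinite S₁)) _
      _ = 2 * Nat.card (Subgroup.center R) := by rw [hS₁]; ring
  obtain ⟨b, hbf, hbS⟩ := exists_ker_not_mem (μR.prod χ) (T₁ ×ˢ T₁)
    (fun y => Finset.mem_product.2 ⟨hμT y, hχT y⟩) 4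
    (by rw [Finset.card_product]; exact Nat.mul_le_mul hT₁ hT₁) S₂
    (by rw [hcardR]; nlinarith)
  have hbμ : μR b = 1 := (Prod.ext_iff.1 hbf).1
  have hbχ : χ b = 1 := (Prod.ext_iff.1 hbf).2
  have hbS₁ : b ∉ S₁ := fun h => hbS (Or.inl h)
  have habS₁ : a * b ∉ S₁ := fun h => hbS (Or.inr ⟨a * b, h, by group⟩)
  -- `a` and `b` commute
  have hab : (a : GL (Fin 8) F) * (b : GL (Fin 8) F) = (b : GL (Fin 8) F) * (a : GL (Fin 8) F) := by
    have h1 := scal_spec (hsc a a.2 b b.2)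
    rw [show scal ((a : GL (Fin 8) F) * (b : GL (Fin 8) F) * (a : GL (Fin 8) F)⁻¹ * (b : GL (Fin 8) F)⁻¹) = 1
      from hbχ, Units.val_one, one_smul] at h1
    have h3 : (a : GL (Fin 8) F) * (b : GL (Fin 8) F) * (a : GL (Fin 8) F)⁻¹ * (b : GL (Fin 8) F)⁻¹ = 1 :=
      Units.ext h1
    calc (a : GL (Fin 8) F) * (b : GL (Fin 8) F)
        = ((a : GL (Fin 8) F) * (b : GL (Fin 8) F) * (a : GL (Fin 8) F)⁻¹ * (b : GL (Fin 8) F)⁻¹) *
            ((b : GL (Fin 8) F) * (a : GL (Fin 8) F)) := by group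
      _ = (b : GL (Fin 8) F) * (a : GL (Fin 8) F) := by rw [h3, one_mul]
  -- an isometric non-scalar involution
  have hw : ∃ w : ↥R, (w : GL (Fin 8) F) ∉ scalars (Fin 8) F ∧ μR w = 1 ∧
      ((w : GL (Fin 8) F) : Matrix (Fin 8) (Fin 8) F) * ((w : GL (Fin 8) F) : Matrix (Fin 8) (Fin 8) F) = 1 := by
    obtain ⟨da, hda2, hda⟩ := hF2 a a.2
    obtain ⟨db, hdb2, hdb⟩ := hF2 b b.2
    rw [Units.val_mul] at hda hdb
    rcases unit_eq_one_or_neg_one _ hda2 with ha1 | ha1
    · refine ⟨a, haS, haμ, ?_⟩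
      rw [hda, ha1, Units.val_one, one_smul]
    rcases unit_eq_one_or_neg_one _ hdb2 with hb1 | hb1
    · refine ⟨b, hbS₁, hbμ, ?_⟩
      rw [hdb, hb1, Units.val_one, one_smul]
    · refine ⟨a * b, habS₁, by rw [map_mul, haμ, hbμ, one_mul], ?_⟩
      have h1 : (a : GL (Fin 8) F) * (b : GL (Fin 8) F) * ((a : GL (Fin 8) F) * (b : GL (Fin 8) F)) =
          ((a : GL (Fin 8) F) * (a : GL (Fin 8) F)) * ((b : GL (Fin 8) F) * (b : GL (Fin 8) F)) := by
        calc (a : GL (Fin 8) F) * (b : GL (Fin 8) F) * ((a : GL (Fin 8) F) * (b : GL (Fin 8) F))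
            = (a : GL (Fin 8) F) * ((b : GL (Fin 8) F) * (a : GL (Fin 8) F)) * (b : GL (Fin 8) F) := by group
          _ = (a : GL (Fin 8) F) * ((a : GL (Fin 8) F) * (b : GL (Fin 8) F)) * (b : GL (Fin 8) F) := by rw [hab]
          _ = (a : GL (Fin 8) F) * (a : GL (Fin 8) F) * ((b : GL (Fin 8) F) * (b : GL (Fin 8) F)) := by group
      have h3 := congrArg (fun u : GL (Fin 8) F => (u : Matrix (Fin 8) (Fin 8) F)) h1
      simp only [Units.val_mul] at h3
      rw [Subgroup.coe_mul, Units.val_mul, h3, hda, hdb, ha1, hb1]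
      simp
  obtain ⟨w, hwS, hwμ, hww⟩ := hw
  -- an element of `R` not commuting with `w`
  have hz : ∃ z ∈ R, z * (w : GL (Fin 8) F) ≠ w * z := by
    by_contra hcon
    push Not at hcon
    exact hwS (mem_scalars_of_commute hspan _ (fun x hx => (hcon x hx).symm))
  obtain ⟨z, hzR, hzw⟩ := hz
  obtain ⟨c, hc2, hc⟩ := hF1 z hzR w w.2
  have hc1 : c = -1 := by
    rcases unit_eq_one_or_neg_one _ hc2 with h | h
    · exfalso
      apply hzw
      rw [h, Units.val_one, one_smul] at hc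
      have h3 : z * (w : GL (Fin 8) F) * z⁻¹ * (w : GL (Fin 8) F)⁻¹ = 1 := Units.ext hc
      calc z * (w : GL (Fin 8) F) = (z * (w : GL (Fin 8) F) * z⁻¹ * (w : GL (Fin 8) F)⁻¹) * (w * z) := by group
        _ = w * z := by rw [h3, one_mul]
    · exact h
  have hZW : (z : Matrix (Fin 8) (Fin 8) F) * ((w : GL (Fin 8) F) : Matrix (Fin 8) (Fin 8) F) =
      -(((w : GL (Fin 8) F) : Matrix (Fin 8) (Fin 8) F) * (z : Matrix (Fin 8) (Fin 8) F)) := by
    have h1 : z * (w : GL (Fin 8) F) = (z * (w : GL (Fin 8) F) * z⁻¹ * (w : GL (Fin 8) F)⁻¹) * (w * z) := by group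
    have h3 : ((z * (w : GL (Fin 8) F) : GL (Fin 8) F) : Matrix (Fin 8) (Fin 8) F) = _ := congrArg Units.val h1
    rw [Units.val_mul z, Units.val_mul (z * (w : GL (Fin 8) F) * z⁻¹ * (w : GL (Fin 8) F)⁻¹), hc, hc1,
      Units.val_mul (w : GL (Fin 8) F)] at h3
    rw [h3]
    simp
  have hzμ := hF3 ⟨z, hzR⟩
  refine plus_of_involution_anticomm h2 Q hQ ((w : GL (Fin 8) F) : Matrix (Fin 8) (Fin 8) F)
    (z : Matrix (Fin 8) (Fin 8) F) ((z⁻¹ : GL (Fin 8) F) : Matrix (Fin 8) (Fin 8) F) hww ?_ ?_ hZW ?_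
    (μR ⟨z, hzR⟩ : F) hzμ ?_
  · rw [← Units.val_mul, mul_inv_cancel, Units.val_one]
  · rw [← Units.val_mul, inv_mul_cancel, Units.val_one]
  · intro v
    rw [hμR_spec w v, hwμ, Units.val_one, one_mul]
  · intro v
    exact hμR_spec ⟨z, hzR⟩ v

end main

end Cfsg.Agent.Lib.Helper05.OEvenX
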