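import Cfsg.Agent.Lib.Helper98.Os3
import Cfsg.Agent.Lib.Helper26.OsD
import Cfsg.Agent.Lib.Helper34.OsT
import Cfsg.Agent.Lib.Helper02.NdB
import Cfsg.Agent.Lib.Helper80.NdE
import Cfsg.Agent.Lib.Helper85.NdI

/-!
# S5989 / S5991 keystone K-OPb-7 (helper5 for architect helper69)

`exists_unipotent_plus`: refactor of the proof of `Cfsg.Agent.S5996.result` into a reusable lemma: a unipotent
element of `Ω⁺_(2d)(q)`, `q` odd, of Jordan type `μ`, such that the Jordan type of its restriction to any invariant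
nondegenerate subspace is a sub-multiset of `μ` with even multiplicities of the even parts.
-/

set_option autoImplicit false
set_option linter.style.haveILetI false
set_option linter.unusedVariables false
set_option maxHeartbeats 1600000
open scoped MatrixGroups
open Cfsg

namespace Cfsg.Agent.Lib.Helper05.OPb

open Module

universe u
variable {F : Type u} [Field F]

theorem exists_unipotent_plus [Fintype F] {p : ℕ} [Fact p.Prime] [CharP F p] (hp2 : p ≠ 2) (d : ℕ)
    (μ : Multiset ℕ) (hμ1 : ∀ e ∈ μ, 0 < e ∧ e ≤ p) (hμ2 : ∀ e : ℕ, Even e → Even (μ.count e))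
    (hμs : μ.sum = 2 * d) (hne : ∃ a ∈ μ, a ≠ 1) :
    ∃ x : GL (Fin d ⊕ Fin d) F, x ∈ Cfsg.Geo.omegaGL (Cfsg.quadFormPlus d F) ∧
      ((x ^ p : GL (Fin d ⊕ Fin d) F) : Matrix (Fin d ⊕ Fin d) (Fin d ⊕ Fin d) F) =
        (1 : F) • (1 : Matrix (Fin d ⊕ Fin d) (Fin d ⊕ Fin d) F) ∧
      (∀ z : F, (x : Matrix (Fin d ⊕ Fin d) (Fin d ⊕ Fin d) F) ≠
        z • (1 : Matrix (Fin d ⊕ Fin d) (Fin d ⊕ Fin d) F)) ∧
      ∀ W : Submodule F (Fin d ⊕ Fin d → F),
        Cfsg.Geo.IsNondegenerateOn (QuadraticMap.polar (Cfsg.quadFormPlus d F)) W →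
        W.map (Matrix.toLin' (x : Matrix (Fin d ⊕ Fin d) (Fin d ⊕ Fin d) F)) ≤ W →
        ∃ ν : Multiset ℕ, ν ≤ μ ∧ ν.sum = finrank F W ∧ ∀ e : ℕ, Even e → Even (ν.count e) := by
  classical
  have hpr : p.Prime := Fact.out
  have h2F : (2 : F) ≠ 0 := by
    intro h
    have h' : ((2 : ℕ) : F) = 0 := by exact_mod_cast h
    rw [CharP.cast_eq_zero_iff F p] at h'
    exact hp2 ((Nat.prime_dvd_prime_iff_eq hpr Nat.prime_two).mp h')
  have hpodd : Odd p := hpr.odd_of_ne_two hp2
  have huniq : Lib.Helper98.Nd.UniqStatement := fun μ μ' h1 h2 h3 =>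
    Lib.Helper02.Nd.eq_of_sum_min_eq μ μ' h1 h2 h3
  obtain ⟨a0, ha0μ, ha01⟩ := hne
  have ha02 : 2 ≤ a0 := by
    have := (hμ1 a0 ha0μ).1
    omega
  have hcardlt : Multiset.card μ < μ.sum := by
    have h1 : μ = a0 ::ₘ μ.erase a0 := (Multiset.cons_erase ha0μ).symm
    have h2 : Multiset.card (μ.erase a0) • 1 ≤ (μ.erase a0).sum :=
      Multiset.card_nsmul_le_sum (fun a ha => (hμ1 a (Multiset.mem_of_mem_erase ha)).1)
    rw [h1, Multiset.card_cons, Multiset.sum_cons]
    simp only [smul_eq_mul, mul_one] at h2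
    omega
  obtain ⟨V', i1, i2, i3, B', M, X, hS, hnd', hskew, hMp, hkerM, hX, hXd⟩ :=
    Lib.Helper26.Os.exists_skew_model_symm (F := F) (p := p) h2F μ hμ1 hμ2
  obtain ⟨u', hiso', hu'p, hkeru⟩ := Lib.Helper80.Nd.exists_cayley hp2 B' M hskew hMp
  have hker : ∀ k, Module.finrank F (LinearMap.ker ((u' - 1) ^ k)) =
      (μ.map (fun a => min a k)).sum := by
    intro k
    rw [hkeru k]
    exact hkerM k
  have hNp' : (u' - 1) ^ p = 0 := by
    rw [← LinearMap.ker_eq_top, hkeru p, hMp]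
    exact LinearMap.ker_zero
  have hdim' : Module.finrank F V' = 2 * d := by
    have h1 := hkerM p
    rw [hMp, LinearMap.ker_zero, finrank_top] at h1
    rw [h1, ← hμs]
    congr 1
    conv_rhs => rw [← Multiset.map_id μ]
    apply Multiset.map_congr rfl
    intro a ha
    simp only [id]
    exact min_eq_left (hμ1 a ha).2
  have hk1 : Module.finrank F (LinearMap.ker (u' - 1)) = Multiset.card μ := by
    have h1 := hker 1
    rw [pow_one] at h1
    rw [h1]
    have : μ.map (fun a => min a 1) = μ.map (fun _ => 1) := by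
      apply Multiset.map_congr rfl
      intro a ha
      exact min_eq_right (hμ1 a ha).1
    rw [this, Multiset.map_const', Multiset.sum_replicate]
    simp
  have hns' : ∀ z : F, u' ≠ z • 1 := by
    intro z hz
    by_cases hz1 : z = 1
    · have : LinearMap.ker (u' - 1) = ⊤ := by
        rw [LinearMap.ker_eq_top, hz, hz1, one_smul, sub_self]
      rw [this, finrank_top, hdim'] at hk1
      omega
    · have : LinearMap.ker (u' - 1) = ⊥ := by
        rw [LinearMap.ker_eq_bot']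
        intro v hv
        rw [hz, LinearMap.sub_apply, LinearMap.smul_apply, Module.End.one_apply] at hv
        have h' : (z - 1) • v = 0 := by rw [sub_smul, one_smul]; exact hv
        rcases smul_eq_zero.mp h' with h | h
        · exact absurd (sub_eq_zero.mp h) hz1
        · exact h
      rw [this, finrank_bot] at hk1
      have hcpos : 0 < Multiset.card μ := Multiset.card_pos_iff_exists_mem.mpr ⟨a0, ha0μ⟩
      omega
  have hXd' : Module.finrank F X = d := by
    rw [hμs] at hXd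
    omega
  obtain ⟨x, hxΩ, hxp, hxns, E, hE1, hE2⟩ := Lib.Helper34.Os.transport_plus h2F p hpodd d B' hS
    hnd' hdim' X hX hXd' u' hiso' hu'p hns'
  refine ⟨x, hxΩ, hxp, hxns, ?_⟩
  intro W hWnd hWinv
  have hW'inv : Lib.Helper98.Elus.Inv u' (W.map (E : (Fin d ⊕ Fin d → F) →ₗ[F] V')) := by
    rintro _ ⟨w, hw, rfl⟩
    show u' (E w) ∈ _
    rw [← hE1]
    exact ⟨_, hWinv ⟨w, hw, rfl⟩, rfl⟩
  have hW'nd : Lib.Helper98.Sy.NonDeg B' (W.map (E : (Fin d ⊕ Fin d → F) →ₗ[F] V')) := by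
    rintro _ ⟨w, hw, rfl⟩ h
    by_contra hne
    have hw0 : w ≠ 0 := by
      rintro rfl
      exact hne (by simp)
    obtain ⟨-, ⟨y, hy, hy'⟩⟩ := hWnd w hw hw0
    apply hy'
    rw [← hE2]
    exact h _ ⟨y, hy, rfl⟩
  have hW'd : Module.finrank F (W.map (E : (Fin d ⊕ Fin d → F) →ₗ[F] V')) = Module.finrank F W := by
    rw [LinearEquiv.finrank_map_eq]
  have hchain' : Lib.Helper98.Nd.ChainStatement F V' := fun N e a v hN hli k =>
    Lib.Helper85.Nd.finrank_inf_ker_of_chains N e a v hN hli k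
  obtain ⟨ν, hν1, hν2, hν3⟩ := Lib.Helper98.Os.exists_sub_type_symm hchain' huniq hS hnd' h2F p
    hpr.pos u' hu'p hNp' hiso' μ (fun a ha => (hμ1 a ha).1) hker _ hW'inv hW'nd
  exact ⟨ν, hν1, by rw [hν2, hW'd], hν3⟩

end Cfsg.Agent.Lib.Helper05.OPb
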