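import Cfsg.Agent.Lib.Helper98.Os3
import Cfsg.Agent.Lib.Helper98.Oh0

set_option autoImplicit false
set_option linter.unusedSimpArgs false
set_option linter.unusedSectionVars false
set_option linter.unusedVariables false

/-!
# S5972 keystone LEAF B (helper5 for architect helper8): basics for reflexive forms

Ports of `Helper98/Sy1, Sy2, Ti1` (alternating forms) to reflexive bilinear forms.
-/

namespace Cfsg.Agent.Lib.Helper05.OsEl

open Module Cfsg.Agent.Lib.Helper98.Elus Cfsg.Agent.Lib.Helper98.Sy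

universe u
variable {F : Type u} [Field F] {V : Type u} [AddCommGroup V] [Module F V]

/-- `finrank W + finrank W^⊥ = finrank V` for a reflexive nondegenerate form -/
theorem finrank_add_orth_refl [FiniteDimensional F V] {B : LinearMap.BilinForm F V}
    (hR : B.IsRefl) (hV : NonDeg B ⊤) (W : Submodule F V) :
    finrank F W + finrank F (B.orthogonal W) = finrank F V := by
  have h := LinearMap.BilinForm.finrank_add_finrank_orthogonal hR W
  have h2 : B.orthogonal ⊤ = ⊥ := by
    rw [eq_bot_iff]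
    intro v hv
    rw [Submodule.mem_bot]
    apply hV v Submodule.mem_top
    intro n _
    exact hR _ _ (LinearMap.BilinForm.mem_orthogonal_iff.mp hv n Submodule.mem_top)
  rw [h2, inf_bot_eq, finrank_bot, add_zero] at h
  exact h

/-- port of `Sy.finrank_orth_inf` -/
theorem finrank_orth_inf [FiniteDimensional F V] {B : LinearMap.BilinForm F V} (hR : B.IsRefl)
    (hV : NonDeg B ⊤) (M U : Submodule F V) (hMU : M ≤ U) (hU : NonDeg B U) :
    finrank F ↥(B.orthogonal M ⊓ U) + finrank F M = finrank F U := by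
  have hc := Cfsg.Agent.Lib.Helper98.Os.isCompl_orth hR U hU
  have hle : B.orthogonal U ≤ B.orthogonal M := LinearMap.BilinForm.orthogonal_le hMU
  have h1 : B.orthogonal M = B.orthogonal U ⊔ (U ⊓ B.orthogonal M) := by
    rw [← sup_inf_assoc_of_le U hle, sup_comm, hc.sup_eq_top, top_inf_eq]
  have h2 : B.orthogonal U ⊓ (U ⊓ B.orthogonal M) = ⊥ := by
    rw [eq_bot_iff, ← hc.inf_eq_bot]
    exact le_inf (le_trans inf_le_right inf_le_left) inf_le_left
  have h3 := Submodule.finrank_sup_add_finrank_inf_eq (B.orthogonal U) (U ⊓ B.orthogonal M)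
  rw [← h1, h2, finrank_bot] at h3
  have h4 := finrank_add_orth_refl hR hV M
  have h5 := finrank_add_orth_refl hR hV U
  rw [inf_comm]
  omega

/-- port of `Ti.two_mul_finrank_le` -/
theorem two_mul_finrank_le [FiniteDimensional F V] {B : LinearMap.BilinForm F V} (hR : B.IsRefl)
    (hV : NonDeg B ⊤) (U Z : Submodule F V) (hU : NonDeg B U) (hZU : Z ≤ U) (hZ : Ort B Z Z) :
    2 * finrank F Z ≤ finrank F U := by
  have h1 := finrank_orth_inf hR hV Z U hZU hU
  have h2 : Z ≤ B.orthogonal Z ⊓ U := by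
    refine le_inf ?_ hZU
    intro v hv
    rw [LinearMap.BilinForm.mem_orthogonal_iff]
    intro n hn
    exact hZ n hn v hv
  have h3 := Submodule.finrank_mono h2
  omega

/-- port of `Ti.ort_sup_self` -/
theorem ort_sup_self {B : LinearMap.BilinForm F V} (hR : B.IsRefl) (L W : Submodule F V)
    (hL : Ort B L L) (hW : Ort B W W) (hLW : Ort B L W) : Ort B (L ⊔ W) (L ⊔ W) := by
  intro a ha b hb
  obtain ⟨a1, ha1, a2, ha2, rfl⟩ := Submodule.mem_sup.mp ha
  obtain ⟨b1, hb1, b2, hb2, rfl⟩ := Submodule.mem_sup.mp hb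
  simp only [map_add, LinearMap.add_apply]
  rw [hL a1 ha1 b1 hb1, hLW a1 ha1 b2 hb2, hR _ _ (hLW b1 hb1 a2 ha2), hW a2 ha2 b2 hb2]
  ring

/-- port of `Sy.ort_V0_V1` -/
theorem ort_V0_V1 {B : LinearMap.BilinForm F V} (r : ℕ) (hrF : (r : F) ≠ 0) (y : V →ₗ[F] V)
    (hy : y ^ r = 1) (hiso : Iso B y) : Ort B (V0 y) (V1 r y) :=
  Cfsg.Agent.Lib.Helper98.Sy.ort_V0_V1 r hrF y hy hiso

/-- port of `Sy.nonDeg_inf_parts` -/
theorem nonDeg_inf_parts {B : LinearMap.BilinForm F V} (hR : B.IsRefl) (r : ℕ) (hrF : (r : F) ≠ 0)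
    (y : V →ₗ[F] V) (hy : y ^ r = 1) (hiso : Iso B y) (W : Submodule F V) (hW : NonDeg B W)
    (hWinv : Inv y W) : NonDeg B (W ⊓ V0 y) ∧ NonDeg B (W ⊓ V1 r y) :=
  Cfsg.Agent.Lib.Helper98.Oh.nonDeg_inf_parts_refl hR r hrF y hy hiso W hW hWinv

end Cfsg.Agent.Lib.Helper05.OsEl
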