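import Cfsg.Agent.Lib.Helper05.OTsO13a
import Cfsg.Agent.Lib.Helper99.OTsO4
import Cfsg.Agent.Lib.Helper99.OTsO9
import Cfsg.Agent.Lib.Helper82.OTsO7
import Cfsg.Agent.Lib.Helper81.OTsO10

/-!
# K-OTs-O13 (597313, S5973 + S5987, architect helper99): the derangement family D

Exact-signature wrapper of `Cfsg.Agent.Lib.Helper05.OTs.exists_derangement_D_of`.
-/

set_option autoImplicit false
set_option linter.unusedVariables false

namespace Cfsg.Agent.Lib.Helper05.OTs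

open Module Cfsg.Agent.Lib.Helper98.Elus Cfsg.Agent.Lib.Helper98.Sy Cfsg.Agent.Lib.Helper99.OTs

universe u
variable {F : Type u} [Field F] {V : Type u} [AddCommGroup V] [Module F V]

/-- **O13 (597313)**: family D. -/
theorem exists_derangement_D [Fintype F] (p f : ℕ) [Fact p.Prime] (hF : Fintype.card F = p ^ f)
    (r : ℕ) [Fact r.Prime] (hpr : p ≠ r) (hr2 : r ≠ 2) (hrF : (r : F) ≠ 0)
    (heven : Even (orderOf ((Fintype.card F : ℕ) : ZMod r))) (τ : Prop) (d m j : ℕ) (hj : 1 ≤ j)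
    (hjd : orderOf ((Fintype.card F : ℕ) : ZMod r) * j ≤ 2 * d)
    (hval : ¬ (τ ↔ Even j) → orderOf ((Fintype.card F : ℕ) : ZMod r) * j + 2 ≤ 2 * d)
    (h1 : (τ ↔ Even j) → 2 * d - orderOf ((Fintype.card F : ℕ) : ZMod r) * j <
      2 * (m % orderOf ((Fintype.card F : ℕ) : ZMod r)))
    (h2 : ¬ (τ ↔ Even j) → 2 * d - orderOf ((Fintype.card F : ℕ) : ZMod r) * j <
      2 * (m % orderOf ((Fintype.card F : ℕ) : ZMod r)) + 2) :
    ∃ (V : Type u) (_ : AddCommGroup V) (_ : Module F V) (_ : FiniteDimensional F V)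
      (Q : QuadraticForm F V) (y : V →ₗ[F] V),
      NonDeg (QuadraticMap.polarBilin Q) ⊤ ∧ finrank F V = 2 * d ∧ (PlusOn Q ⊤ ↔ τ) ∧ QIso Q y ∧ y ^ r = 1 ∧
      (∀ z : F, y ≠ z • 1) ∧ ∀ W : Submodule F V, Inv y W → TS Q W → finrank F W ≠ m := by
  have hr : r.Prime := Fact.out
  have hodd : Odd r := hr.eq_two_or_odd'.resolve_left hr2
  refine exists_derangement_D_of p f hF r hpr hr2 hrF heven τ d m j hj hjd hval h1 h2 ?_ ?_ ?_ ?_
  · intro V _ _ _ Q hV d hd y hy hiso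
    exact Cfsg.Agent.Lib.Helper99.OTs.plusOn_V0_iff Q hV d hd p f hF r hpr hr2 hrF y hy hiso
  · exact Cfsg.Agent.Lib.Helper82.OTs.exists_model_blocks p f hF r hpr hr2 hrF j
  · intro e τ hτ
    exact Cfsg.Agent.Lib.Helper99.OTs.exists_fixed_part e τ hτ
  · intro V _ _ _ Q1 hV1 y1 hy hiso hg V0' _ _ _ Q0 hV0
    obtain ⟨V', c1, c2, c3, Q, y, g1, g2, g3, g4, g5, g6, g7, g8, -⟩ :=
      Cfsg.Agent.Lib.Helper81.OTs.exists_prod_model Q1 hV1 r hodd hrF y1 hy hiso hg Q0 hV0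
    exact ⟨V', c1, c2, c3, Q, y, g1, g2, g3, g4, g5, g6, g7, g8⟩

end Cfsg.Agent.Lib.Helper05.OTs
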