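import Cfsg.Agent.Lib.Helper99.OTsDefs
import Cfsg.Agent.Lib.Helper98.Elus15
import Cfsg.Agent.Lib.Helper98.Sy4
import Cfsg.Agent.Lib.Helper98.Os3
import Cfsg.Agent.Lib.Helper05.OsElB

/-!
# K-OTs-O13 (597313, S5973 + S5987, architect helper99): the derangement family D, core

`exists_derangement_D_of`: the statement of O13 with the leaves O4 (`plusOn_V0_iff`), O7 (`exists_model_blocks`),
O9 (`exists_fixed_part`) and O10 (`exists_prod_model`) taken as hypotheses (instantiated).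
-/

set_option autoImplicit false
set_option linter.unusedSectionVars false
set_option linter.unusedVariables false
set_option linter.style.haveILetI false
set_option maxHeartbeats 1000000

namespace Cfsg.Agent.Lib.Helper05.OTs

open Module Cfsg.Agent.Lib.Helper98.Elus Cfsg.Agent.Lib.Helper98.Sy Cfsg.Agent.Lib.Helper99.OTs

universe u
variable {F : Type u} [Field F] {V : Type u} [AddCommGroup V] [Module F V]

/-- the bound: in a model whose fixed space `V0 y` has dimension `2 e` and type `τ0`, an invariant totally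
singular subspace has dimension `≠ m` under the arithmetic hypotheses of family D -/
theorem not_finrank_eq_of_bound [Fintype F] [FiniteDimensional F V] (Q : QuadraticForm F V)
    (hV : NonDeg (QuadraticMap.polarBilin Q) ⊤) (r : ℕ) [Fact r.Prime] (hrF : (r : F) ≠ 0)
    (y : V →ₗ[F] V) (hy : y ^ r = 1) (hiso : QIso Q y) (e m : ℕ) (τ0 : Prop)
    (hV0d : finrank F (V0 y) = 2 * e) (hV0t : PlusOn Q (V0 y) → τ0)
    (h1 : τ0 → 2 * e < 2 * (m % orderOf ((Fintype.card F : ℕ) : ZMod r)))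
    (h2 : ¬ τ0 → 2 * e < 2 * (m % orderOf ((Fintype.card F : ℕ) : ZMod r)) + 2)
    (W : Submodule F V) (hW : Inv y W) (hWts : TS Q W) : finrank F W ≠ m := by
  intro hWm
  set i := orderOf ((Fintype.card F : ℕ) : ZMod r) with hi
  have hS : ∀ a b, QuadraticMap.polarBilin Q a b = QuadraticMap.polarBilin Q b a :=
    polarBilin_symm Q
  have hR : (QuadraticMap.polarBilin Q).IsRefl := Cfsg.Agent.Lib.Helper98.Os.isRefl_of_symm hS
  have hsum := finrank_inf_V0_add_inf_V1 r hrF y hy W hW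
  have hdvd : i ∣ finrank F ↥(W ⊓ V1 r y) := by
    apply orderOf_dvd_finrank r hrF y (W ⊓ V1 r y) (hW.inf (inv_V1 r y))
    · intro v _
      rw [hy, Module.End.one_apply]
    · intro v hv
      have := (mem_V1 r y v).mp (Submodule.mem_inf.mp hv).2
      rw [gsum_apply] at this
      exact this
  obtain ⟨b, hb⟩ := hdvd
  have hmod : m % i ≤ finrank F ↥(W ⊓ V0 y) := by
    have hm : m = finrank F ↥(W ⊓ V0 y) + i * b := by omega
    rw [hm, Nat.add_mul_mod_self_left]
    exact Nat.mod_le _ _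
  have hnd0 : NonDeg (QuadraticMap.polarBilin Q) (V0 y) := by
    have := (Cfsg.Agent.Lib.Helper05.OsEl.nonDeg_inf_parts hR r hrF y hy hiso.iso ⊤ hV
      (fun v _ => Submodule.mem_top)).1
    rwa [top_inf_eq] at this
  have hts0 : TS Q (W ⊓ V0 y) := hWts.mono inf_le_left
  have hle := Cfsg.Agent.Lib.Helper05.OsEl.two_mul_finrank_le hR hV (V0 y) (W ⊓ V0 y) hnd0
    inf_le_right hts0.ort
  rw [hV0d] at hle
  by_cases hτ : τ0
  · have := h1 hτ
    omega
  · have h3 := h2 hτ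
    apply hτ
    apply hV0t
    refine ⟨W ⊓ V0 y, inf_le_right, hts0, ?_⟩
    rw [hV0d]
    omega

/-- **O13, core**: family D from the leaves O4, O7, O9, O10 (taken as hypotheses). -/
theorem exists_derangement_D_of [Fintype F] (p f : ℕ) [Fact p.Prime] (hF : Fintype.card F = p ^ f)
    (r : ℕ) [Fact r.Prime] (hpr : p ≠ r) (hr2 : r ≠ 2) (hrF : (r : F) ≠ 0)
    (heven : Even (orderOf ((Fintype.card F : ℕ) : ZMod r))) (τ : Prop) (d m j : ℕ) (hj : 1 ≤ j)
    (hjd : orderOf ((Fintype.card F : ℕ) : ZMod r) * j ≤ 2 * d)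
    (hval : ¬ (τ ↔ Even j) → orderOf ((Fintype.card F : ℕ) : ZMod r) * j + 2 ≤ 2 * d)
    (h1 : (τ ↔ Even j) → 2 * d - orderOf ((Fintype.card F : ℕ) : ZMod r) * j <
      2 * (m % orderOf ((Fintype.card F : ℕ) : ZMod r)))
    (h2 : ¬ (τ ↔ Even j) → 2 * d - orderOf ((Fintype.card F : ℕ) : ZMod r) * j <
      2 * (m % orderOf ((Fintype.card F : ℕ) : ZMod r)) + 2)
    -- O4
    (hO4 : ∀ (V : Type u) [AddCommGroup V] [Module F V] [FiniteDimensional F V] (Q : QuadraticForm F V)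
      (hV : NonDeg (QuadraticMap.polarBilin Q) ⊤) (d : ℕ) (hd : finrank F V = 2 * d)
      (y : V →ₗ[F] V) (hy : y ^ r = 1) (hiso : QIso Q y),
      PlusOn Q (V0 y) ↔ (PlusOn Q ⊤ ↔ (Odd (orderOf ((Fintype.card F : ℕ) : ZMod r)) ∨
        Even (finrank F (V1 r y) / orderOf ((Fintype.card F : ℕ) : ZMod r)))))
    -- O7
    (hO7 : ∃ (V : Type u) (_ : AddCommGroup V) (_ : Module F V) (_ : FiniteDimensional F V)
      (Q : QuadraticForm F V) (y : V →ₗ[F] V),
      NonDeg (QuadraticMap.polarBilin Q) ⊤ ∧ QIso Q y ∧ y ^ r = 1 ∧ (∀ v, gsum r y v = 0) ∧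
      finrank F V = cOf (orderOf ((Fintype.card F : ℕ) : ZMod r)) * j)
    -- O9
    (hO9 : ∀ (e : ℕ) (τ : Prop) (hτ : ¬ τ → 1 ≤ e),
      ∃ (V : Type u) (_ : AddCommGroup V) (_ : Module F V) (_ : FiniteDimensional F V)
        (Q : QuadraticForm F V),
        NonDeg (QuadraticMap.polarBilin Q) ⊤ ∧ finrank F V = 2 * e ∧ (PlusOn Q ⊤ ↔ τ))
    -- O10
    (hO10 : ∀ (V : Type u) [AddCommGroup V] [Module F V] [FiniteDimensional F V]
      (Q1 : QuadraticForm F V) (hV1 : NonDeg (QuadraticMap.polarBilin Q1) ⊤)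
      (y1 : V →ₗ[F] V) (hy : y1 ^ r = 1) (hiso : QIso Q1 y1) (hg : ∀ v, gsum r y1 v = 0)
      (V0' : Type u) [AddCommGroup V0'] [Module F V0'] [FiniteDimensional F V0']
      (Q0 : QuadraticForm F V0') (hV0 : NonDeg (QuadraticMap.polarBilin Q0) ⊤),
      ∃ (V' : Type u) (_ : AddCommGroup V') (_ : Module F V') (_ : FiniteDimensional F V')
        (Q : QuadraticForm F V') (y : V' →ₗ[F] V'),
        NonDeg (QuadraticMap.polarBilin Q) ⊤ ∧ QIso Q y ∧ y ^ r = 1 ∧
        finrank F V' = finrank F V + finrank F V0' ∧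
        finrank F (V1 r y) = finrank F V ∧ finrank F (V0 y) = finrank F V0' ∧
        (PlusOn Q (V0 y) ↔ PlusOn Q0 ⊤) ∧
        ((∃ v, y1 v ≠ v) → ∀ z : F, y ≠ z • 1)) :
    ∃ (V : Type u) (_ : AddCommGroup V) (_ : Module F V) (_ : FiniteDimensional F V)
      (Q : QuadraticForm F V) (y : V →ₗ[F] V),
      NonDeg (QuadraticMap.polarBilin Q) ⊤ ∧ finrank F V = 2 * d ∧ (PlusOn Q ⊤ ↔ τ) ∧ QIso Q y ∧ y ^ r = 1 ∧
      (∀ z : F, y ≠ z • 1) ∧ ∀ W : Submodule F V, Inv y W → TS Q W → finrank F W ≠ m := by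
  classical
  set i := orderOf ((Fintype.card F : ℕ) : ZMod r) with hi
  have hi1 : 1 ≤ i := orderOf_card_pos p f hF r hpr
  have hc : cOf i = i := by
    unfold cOf
    rw [if_pos heven]
  -- `2 e = 2 d - i j`
  obtain ⟨i', hi'⟩ := heven
  obtain ⟨e, he⟩ : ∃ e, 2 * e = 2 * d - i * j := by
    refine ⟨d - i' * j, ?_⟩
    have : i * j = 2 * (i' * j) := by rw [hi']; ring
    omega
  obtain ⟨V1', a1, a2, a3, Q1, y1, hnd1, hiso1, hy1, hg1, hdim1⟩ := hO7
  rw [hc] at hdim1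
  have hτ0 : ¬ (τ ↔ Even j) → 1 ≤ e := by
    intro h
    have := hval h
    omega
  obtain ⟨V0', b1, b2, b3, Q0, hnd0, hdim0, htype0⟩ := hO9 e (τ ↔ Even j) hτ0
  obtain ⟨V', c1, c2, c3, Q, y, hnd, hiso, hy, hdim, hdimV1, hdimV0, htypeV0, hns⟩ :=
    hO10 V1' Q1 hnd1 y1 hy1 hiso1 hg1 V0' Q0 hnd0
  have hdimV' : finrank F V' = 2 * d := by
    rw [hdim, hdim1, hdim0, he]
    omega
  -- `y1` moves some vector
  have hmove : ∃ v, y1 v ≠ v := by
    have hpos : 0 < finrank F V1' := by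
      rw [hdim1]
      exact Nat.mul_pos hi1 hj
    haveI : Nontrivial V1' := Module.finrank_pos_iff.mp hpos
    obtain ⟨v, hv⟩ := exists_ne (0 : V1')
    refine ⟨v, fun h => hv ?_⟩
    have h6 := gsum_apply_of_mem_V0 r y1 v ((mem_V0 y1 v).mpr h)
    rw [hg1] at h6
    rcases smul_eq_zero.mp h6.symm with h | h
    · exact absurd h hrF
    · exact h
  -- the type of the total space
  have h4 := hO4 V' Q hnd d hdimV' y hy hiso
  have hquot : finrank F (V1 r y) / i = j := by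
    rw [hdimV1, hdim1]
    exact Nat.mul_div_cancel_left j hi1
  have hnotodd : ¬ Odd i := by
    rw [Nat.not_odd_iff_even]
    exact ⟨i', hi'⟩
  rw [hquot] at h4
  have htype : PlusOn Q ⊤ ↔ τ := by
    have h5 : (τ ↔ Even j) ↔ (PlusOn Q ⊤ ↔ (Odd i ∨ Even j)) := by
      rw [← htype0, ← htypeV0]
      exact h4
    by_cases hj2 : Even j <;> by_cases ht : τ <;> by_cases hp : PlusOn Q ⊤ <;>
      simp only [hj2, ht, hp, hnotodd, false_or, or_true, iff_true, iff_false, not_true_eq_false,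
        not_false_eq_true, true_iff, false_iff] at h5 ⊢
  refine ⟨V', c1, c2, c3, Q, y, hnd, hdimV', htype, hiso, hy, hns hmove, ?_⟩
  intro W hW hWts
  apply not_finrank_eq_of_bound Q hnd r hrF y hy hiso e m (τ ↔ Even j) _ _ _ _ W hW hWts
  · rw [hdimV0, hdim0]
  · intro h
    exact htype0.mp (htypeV0.mp h)
  · intro h
    rw [he]
    exact h1 h
  · intro h
    rw [he]
    exact h2 h

end Cfsg.Agent.Lib.Helper05.OTs
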