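import Cfsg.Agent.Lib.Helper38.OhP.Defs
import Cfsg.Agent.Lib.Helper23.OhD
import Cfsg.Agent.Lib.Helper98.Sy6
import Cfsg.Agent.Lib.Helper50.PlusForm

/-!
# S5974 keystone 597415 K-OhP-D1 (helper5 for architect helper38): `exists_block_q`

A block: an isometry of odd prime order `r` without fixed vectors on a quadratic space of dimension `cOf i`,
in any characteristic (in characteristic two the quadratic form is the average of the standard one).
-/

set_option autoImplicit false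
set_option linter.unusedSectionVars false
set_option linter.unusedVariables false
set_option linter.style.haveILetI false
set_option maxHeartbeats 1000000

namespace Cfsg.Agent.Lib.Helper05.OhP

open Module Cfsg.Agent.Lib.Helper98.Elus Cfsg.Agent.Lib.Helper98.Sy Cfsg.Agent.Lib.Helper38.OhP

universe u
variable {F : Type u} [Field F]

/-- the case `2 ≠ 0` -/
theorem exists_block_q_odd [Fintype F] (h2 : (2 : F) ≠ 0) (p f : ℕ) [Fact p.Prime]
    (hF : Fintype.card F = p ^ f)
    (r : ℕ) [Fact r.Prime] (hpr : p ≠ r) (hr2 : r ≠ 2) (hrF : (r : F) ≠ 0) :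
    ∃ (V : Type u) (_ : AddCommGroup V) (_ : Module F V) (_ : FiniteDimensional F V)
      (Q : QuadraticForm F V) (y : V →ₗ[F] V),
      NonDeg (pB Q) ⊤ ∧ QIso Q y ∧ y ^ r = 1 ∧
      finrank F V = cOf (orderOf ((Fintype.card F : ℕ) : ZMod r)) ∧ V0 y = ⊥ := by
  classical
  obtain ⟨V, i1, i2, i3, B, y, hsymm, hnd, hiso, hy, -, hdim, hV0⟩ :=
    Cfsg.Agent.Lib.Helper23.Oh.exists_model_symm (F := F) h2 p f hF r hpr hr2 hrF 1 0 le_rfl
  let Q : QuadraticForm F V := (2⁻¹ : F) • LinearMap.BilinMap.toQuadraticMap B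
  have hQ : ∀ v, Q v = 2⁻¹ * B v v := by
    intro v
    show (2⁻¹ : F) • (LinearMap.BilinMap.toQuadraticMap B) v = _
    rw [LinearMap.BilinMap.toQuadraticMap_apply, smul_eq_mul]
  have hpolar : ∀ a b, pB Q a b = B a b := by
    intro a b
    rw [pB_apply, hQ, hQ, hQ, map_add, map_add, LinearMap.add_apply, LinearMap.add_apply,
      hsymm b a]
    field_simp
    ring
  refine ⟨V, i1, i2, i3, Q, y, ?_, ?_, hy, ?_, ?_⟩
  · intro u hu h
    apply hnd u hu
    intro v hv
    rw [← hpolar]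
    exact h v hv
  · intro v
    rw [hQ, hQ, hiso]
  · rw [hdim]
    ring
  · exact Submodule.finrank_eq_zero.mp hV0

/-- the case `2 = 0` -/
theorem exists_block_q_even [Fintype F] (h2 : (2 : F) = 0) (p f : ℕ) [Fact p.Prime]
    (hF : Fintype.card F = p ^ f)
    (r : ℕ) [Fact r.Prime] (hpr : p ≠ r) (hr2 : r ≠ 2) (hrF : (r : F) ≠ 0) :
    ∃ (V : Type u) (_ : AddCommGroup V) (_ : Module F V) (_ : FiniteDimensional F V)
      (Q : QuadraticForm F V) (y : V →ₗ[F] V),
      NonDeg (pB Q) ⊤ ∧ QIso Q y ∧ y ^ r = 1 ∧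
      finrank F V = cOf (orderOf ((Fintype.card F : ℕ) : ZMod r)) ∧ V0 y = ⊥ := by
  classical
  have hr : r.Prime := Fact.out
  have hodd : Odd r := hr.eq_two_or_odd'.resolve_left hr2
  obtain ⟨c', hc⟩ : ∃ c', cOf (orderOf ((Fintype.card F : ℕ) : ZMod r)) = 2 * c' := by
    obtain ⟨c', hc'⟩ := cOf_even (orderOf ((Fintype.card F : ℕ) : ZMod r))
    exact ⟨c', by omega⟩
  obtain ⟨y0, hiso, hy, -, hG0⟩ := exists_block p f hF r hpr hr2 hrF c' hc
  -- `(r : F) = 1`
  have hr1 : (r : F) = 1 := by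
    obtain ⟨k, hk⟩ := hodd
    rw [hk]
    push_cast
    rw [h2, zero_mul, zero_add]
  have hneg : ∀ a : F, -a = a := by
    intro a
    have : a + a = 0 := by
      have : a + a = 2 * a := by ring
      rw [this, h2, zero_mul]
    exact neg_eq_of_add_eq_zero_left this
  let Q1 : QuadraticForm F (Fin c' ⊕ Fin c' → F) := Cfsg.Agent.Lib.Helper50.QPlus c' F
  let Q : QuadraticForm F (Fin c' ⊕ Fin c' → F) := ∑ k ∈ Finset.range r, Q1.comp (y0 ^ k)
  have hQ : ∀ v, Q v = ∑ k ∈ Finset.range r, Q1 ((y0 ^ k) v) := by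
    intro v
    show (∑ k ∈ Finset.range r, Q1.comp (y0 ^ k)) v = _
    rw [QuadraticMap.sum_apply]
    rfl
  -- the polar form of `Q1` is the standard alternating form
  have hpol1 : ∀ a b : Fin c' ⊕ Fin c' → F, Q1 (a + b) - Q1 a - Q1 b = stdForm c' a b := by
    intro a b
    have h := Cfsg.Agent.Lib.Helper50.polar_QPlus (m := c') (F := F) a b
    unfold QuadraticMap.polar at h
    show (Cfsg.Agent.Lib.Helper50.QPlus c' F) (a + b) - (Cfsg.Agent.Lib.Helper50.QPlus c' F) a -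
      (Cfsg.Agent.Lib.Helper50.QPlus c' F) b = _
    rw [h, stdForm_apply']
    apply Finset.sum_congr rfl
    intro i _
    rw [sub_eq_add_neg, hneg]
    ring
  have hpolar : ∀ a b, pB Q a b = stdForm c' a b := by
    intro a b
    rw [pB_apply, hQ, hQ, hQ, ← Finset.sum_sub_distrib, ← Finset.sum_sub_distrib]
    have : ∀ k ∈ Finset.range r, Q1 ((y0 ^ k) (a + b)) - Q1 ((y0 ^ k) a) - Q1 ((y0 ^ k) b) =
        stdForm c' a b := by
      intro k _
      rw [map_add, hpol1]
      exact iso_pow y0 hiso k a b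
    rw [Finset.sum_congr rfl this, Finset.sum_const, Finset.card_range, nsmul_eq_mul, hr1, one_mul]
  refine ⟨Fin c' ⊕ Fin c' → F, inferInstance, inferInstance, inferInstance, Q, y0, ?_, ?_, hy,
    ?_, ?_⟩
  · intro u hu h
    apply stdForm_nonDeg c' u hu
    intro v hv
    rw [← hpolar]
    exact h v hv
  · intro v
    rw [hQ, hQ]
    have h1 : ∀ k, Q1 ((y0 ^ k) (y0 v)) = Q1 ((y0 ^ (k + 1)) v) := by
      intro k
      rw [pow_succ, Module.End.mul_apply]
    rw [Finset.sum_congr rfl (fun k _ => h1 k)]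
    have h2' : ∑ k ∈ Finset.range (r + 1), Q1 ((y0 ^ k) v) =
        ∑ k ∈ Finset.range r, Q1 ((y0 ^ (k + 1)) v) + Q1 ((y0 ^ 0) v) :=
      Finset.sum_range_succ' (fun k => Q1 ((y0 ^ k) v)) r
    have h3 : ∑ k ∈ Finset.range (r + 1), Q1 ((y0 ^ k) v) =
        ∑ k ∈ Finset.range r, Q1 ((y0 ^ k) v) + Q1 ((y0 ^ r) v) :=
      Finset.sum_range_succ (fun k => Q1 ((y0 ^ k) v)) r
    rw [hy] at h3
    rw [pow_zero] at h2'
    have h4 : ∑ k ∈ Finset.range r, Q1 ((y0 ^ (k + 1)) v) + Q1 ((1 : Module.End F _) v) =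
        ∑ x ∈ Finset.range r, Q1 ((y0 ^ x) v) + Q1 ((1 : Module.End F _) v) := by
      rw [← h2', h3]
    exact add_right_cancel h4
  · rw [hc, Module.finrank_pi, Fintype.card_sum, Fintype.card_fin]
    ring
  · rw [eq_bot_iff]
    intro w hw
    rw [Submodule.mem_bot]
    have h6 := gsum_apply_of_mem_V0 r y0 w hw
    rw [hG0] at h6
    rcases smul_eq_zero.mp h6.symm with h | h
    · exact absurd h hrF
    · exact h

/-- **LEAF D1 (597415)**: a block. -/
theorem exists_block_q [Fintype F] (p f : ℕ) [Fact p.Prime] (hF : Fintype.card F = p ^ f)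
    (r : ℕ) [Fact r.Prime] (hpr : p ≠ r) (hr2 : r ≠ 2) (hrF : (r : F) ≠ 0) :
    ∃ (V : Type u) (_ : AddCommGroup V) (_ : Module F V) (_ : FiniteDimensional F V)
      (Q : QuadraticForm F V) (y : V →ₗ[F] V),
      NonDeg (pB Q) ⊤ ∧ QIso Q y ∧ y ^ r = 1 ∧
      finrank F V = cOf (orderOf ((Fintype.card F : ℕ) : ZMod r)) ∧ V0 y = ⊥ := by
  by_cases h2 : (2 : F) = 0
  · exact exists_block_q_even h2 p f hF r hpr hr2 hrF
  · exact exists_block_q_odd h2 p f hF r hpr hr2 hrF

end Cfsg.Agent.Lib.Helper05.OhP
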