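import Mathlib

/-!
# K-S2606-A: `P/I` dihedral of order 8, `G/P` cyclic of odd order `f`  ⟹  `G/I ≃ D8 × C_f`
-/

set_option autoImplicit false

namespace Cfsg.Agent.Lib.Helper05.OutMinus

open DihedralGroup

/-- elements of `D8` whose square is not one -/
theorem d8_sq_ne_one : ∀ d : DihedralGroup 4, d * d ≠ 1 → d = r 1 ∨ d = r 3 := by decide

/-- elements of `D8` not commuting with `r 1` are reflections -/
theorem d8_not_comm : ∀ d : DihedralGroup 4, d * r 1 ≠ r 1 * d → ∃ j : ZMod 4, d = sr j := by decide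

theorem d8_gen : ∀ d : DihedralGroup 4, ∃ i j : Fin 4, d = r 1 ^ (i : ℕ) * sr 0 ^ (j : ℕ) := by decide

theorem zmod4_odd_mul : ∀ a j : ZMod 4, (a = 1 ∨ a = 3) → a * j = 0 → j = 0 := by decide

theorem mulAut_pow_apply_fixed {X : Type*} [Group X] (α : MulAut X) (x : X) (h : α x = x) (n : ℕ) :
    (α ^ n) x = x := by
  induction n with
  | zero => simp
  | succ n ih => rw [pow_succ, MulAut.mul_apply, h, ih]

/-- an automorphism of `D8` of odd order is trivial -/
theorem aut_d8_eq_one (α : MulAut (DihedralGroup 4)) {f : ℕ} (hodd : Odd f) (hα : α ^ f = 1) :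
    α = 1 := by
  -- step 1: `α (r 1) = r 1`
  have hr13 : α (r 1) = r 1 ∨ α (r 1) = r 3 := by
    apply d8_sq_ne_one
    rw [← map_mul]
    intro h
    have h1 : (r 1 * r 1 : DihedralGroup 4) = 1 := by
      apply α.injective
      rw [h, map_one]
    revert h1
    decide
  have hr1 : α (r 1) = r 1 := by
    rcases hr13 with h | h
    · exact h
    · exfalso
      have h3 : α (r 3) = r 1 := by
        have : (r 3 : DihedralGroup 4) = r 1 * r 1 * r 1 := by decide
        rw [this, map_mul, map_mul, h]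
        decide
      have hpow : ∀ n : ℕ, (α ^ n) (r 1) = if Even n then r 1 else r 3 := by
        intro n
        induction n with
        | zero => simp
        | succ n ih =>
          rw [pow_succ', MulAut.mul_apply, ih]
          by_cases hn : Even n
          · rw [if_pos hn, if_neg (by rw [Nat.even_add_one]; exact not_not.mpr hn), h]
          · rw [if_neg hn, if_pos (by rw [Nat.even_add_one]; exact hn), h3]
      have := hpow f
      rw [hα, if_neg (Nat.not_even_iff_odd.mpr hodd), MulAut.one_apply] at this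
      revert this
      decide
  -- step 2: `α (sr 0) = sr j`
  obtain ⟨j, hj⟩ : ∃ j : ZMod 4, α (sr 0) = sr j := by
    apply d8_not_comm
    intro h
    have h1 : (sr 0 * r 1 : DihedralGroup 4) = r 1 * sr 0 := by
      apply α.injective
      rw [map_mul, map_mul, hr1, h]
    revert h1
    decide
  have hsr : ∀ k : ZMod 4, α (sr k) = sr (j + k) := by
    intro k
    have h1 : (sr k : DihedralGroup 4) = sr 0 * r 1 ^ (k.val) := by
      rw [DihedralGroup.r_one_pow, DihedralGroup.sr_mul_r, zero_add, ZMod.natCast_zmod_val]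
    rw [h1, map_mul, map_pow, hr1, hj, DihedralGroup.r_one_pow, DihedralGroup.sr_mul_r,
      ZMod.natCast_zmod_val]
  have hpow : ∀ n : ℕ, (α ^ n) (sr 0) = sr ((n : ZMod 4) * j) := by
    intro n
    induction n with
    | zero => simp
    | succ n ih =>
      rw [pow_succ', MulAut.mul_apply, ih, hsr]
      congr 1
      push_cast
      ring
  have hfj : (f : ZMod 4) * j = 0 := by
    have := hpow f
    rw [hα, MulAut.one_apply] at this
    have h2 := DihedralGroup.sr.inj this
    exact h2.symm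
  have hf13 : (f : ZMod 4) = 1 ∨ (f : ZMod 4) = 3 := by
    obtain ⟨k, hk⟩ := hodd
    have h4 : ∀ a : ZMod 4, 2 * a + 1 = 1 ∨ 2 * a + 1 = 3 := by decide
    have := h4 (k : ZMod 4)
    rw [hk]
    push_cast
    exact this
  have hj0 : j = 0 := zmod4_odd_mul _ j hf13 hfj
  rw [hj0] at hj
  -- step 3: `α` is the identity
  ext d
  obtain ⟨i, k, hd⟩ := d8_gen d
  rw [MulAut.one_apply, hd, map_mul, map_pow, map_pow, hr1, hj]

theorem quot_dihedral_prod_of_cyclic_odd {G : Type*} [Group G] [Finite G] (I P : Subgroup G)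
    [I.Normal] [P.Normal] (hIP : I ≤ P) (φ : ↥P →* DihedralGroup 4)
    (hφs : Function.Surjective φ) (hφk : φ.ker = I.subgroupOf P) [IsCyclic (G ⧸ P)] {f : ℕ}
    (hidx : P.index = f) (hodd : Odd f) :
    Nonempty (G ⧸ I ≃* DihedralGroup 4 × Multiplicative (ZMod f)) := by
  classical
  set π : G →* G ⧸ I := QuotientGroup.mk' I with hπ
  have hπs : Function.Surjective π := QuotientGroup.mk'_surjective I
  have hπk : π.ker = I := QuotientGroup.ker_mk' I
  set Nb : Subgroup (G ⧸ I) := P.map π with hNb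
  have hNbn : Nb.Normal := Subgroup.Normal.map inferInstance π hπs
  -- `Nb ≃* D8`
  have hk2 : (π.subgroupMap P).ker = I.subgroupOf P := by
    rw [Subgroup.ker_subgroupMap, hπk]
  let e1 : ↥P ⧸ (π.subgroupMap P).ker ≃* ↥Nb :=
    QuotientGroup.quotientKerEquivOfSurjective (π.subgroupMap P) (π.subgroupMap_surjective P)
  let e2 : ↥P ⧸ φ.ker ≃* DihedralGroup 4 := QuotientGroup.quotientKerEquivOfSurjective φ hφs
  let e3 : ↥P ⧸ (π.subgroupMap P).ker ≃* ↥P ⧸ φ.ker :=
    QuotientGroup.quotientMulEquivOfEq (by rw [hk2, hφk])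
  let e : ↥Nb ≃* DihedralGroup 4 := e1.symm.trans (e3.trans e2)
  have hNbcard : Nat.card Nb = 8 := by
    rw [Nat.card_congr e.toEquiv, DihedralGroup.nat_card]
  have hNbidx : Nb.index = f := by
    rw [hNb, Subgroup.index_map_eq P hπs (by rw [hπk]; exact hIP), hidx]
  -- Schur–Zassenhaus
  have hcop : Nat.Coprime (Nat.card Nb) Nb.index := by
    rw [hNbcard, hNbidx]
    have : Nat.Coprime 2 f := Nat.Coprime.symm (Odd.coprime_two_right hodd)
    exact Nat.Coprime.pow_left 3 this
  obtain ⟨H, hH⟩ := Subgroup.exists_right_complement'_of_coprime hcop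
  have hHcard : Nat.card H = f := by
    have h1 := hH.card_mul_card
    have h2 := Nb.card_mul_index
    rw [hNbidx] at h2
    have h8 : 0 < Nat.card Nb := Nat.card_pos
    exact Nat.eq_of_mul_eq_mul_left h8 (h1.trans h2.symm)
  have hdisj : Disjoint Nb H := hH.disjoint
  -- `H` is cyclic
  have hHcyc : IsCyclic H := by
    -- `G ⧸ P → (G ⧸ I) ⧸ Nb` surjective, so the latter is cyclic; `H` embeds into it bijectively
    let q : G ⧸ P →* (G ⧸ I) ⧸ Nb :=
      QuotientGroup.map P Nb π (by
        intro x hx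
        exact Subgroup.mem_map_of_mem π hx)
    have hq : Function.Surjective q := by
      intro y
      obtain ⟨y', rfl⟩ := QuotientGroup.mk_surjective y
      obtain ⟨g, rfl⟩ := hπs y'
      exact ⟨QuotientGroup.mk g, rfl⟩
    have : IsCyclic ((G ⧸ I) ⧸ Nb) := isCyclic_of_surjective q hq
    let ρ : ↥H →* (G ⧸ I) ⧸ Nb := (QuotientGroup.mk' Nb).comp H.subtype
    have hρi : Function.Injective ρ := by
      rw [injective_iff_map_eq_one]
      intro h hh
      have h1 : (h : G ⧸ I) ∈ Nb := by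
        have : (QuotientGroup.mk' Nb) (h : G ⧸ I) = 1 := hh
        rwa [QuotientGroup.mk'_apply, QuotientGroup.eq_one_iff] at this
      have h2 : (h : G ⧸ I) ∈ Nb ⊓ H := ⟨h1, h.2⟩
      rw [hdisj.eq_bot, Subgroup.mem_bot] at h2
      exact Subtype.ext h2
    exact isCyclic_of_injective ρ hρi
  -- `H` centralises `Nb`
  have hcent : ∀ (n : ↥Nb) (h : ↥H), Commute ((n : G ⧸ I)) ((h : G ⧸ I)) := by
    intro n h
    let Ψ : (G ⧸ I) →* MulAut (DihedralGroup 4) :=
      (MulAut.congr e).toMonoidHom.comp (MulAut.conjNormal (H := Nb))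
    have hΨ : Ψ (h : G ⧸ I) ^ f = 1 := by
      rw [← map_pow]
      have : (h : G ⧸ I) ^ f = 1 := by
        have := pow_card_eq_one' (G := ↥H) (x := h)
        rw [hHcard] at this
        have h2 := congrArg (Subtype.val) this
        simpa using h2
      rw [this, map_one]
    have h1 := aut_d8_eq_one (Ψ (h : G ⧸ I)) hodd hΨ
    have h2 : Ψ (h : G ⧸ I) (e n) = e n := by rw [h1, MulAut.one_apply]
    have h3 : Ψ (h : G ⧸ I) (e n) = e (MulAut.conjNormal (H := Nb) (h : G ⧸ I) n) := by
      simp [Ψ, MulAut.congr]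
    rw [h3] at h2
    have h4 := e.injective h2
    have h5 := congrArg Subtype.val h4
    rw [MulAut.conjNormal_apply] at h5
    -- `h * n * h⁻¹ = n`
    exact (mul_inv_eq_iff_eq_mul.mp h5).symm
  -- the product decomposition
  let Φ : ↥Nb × ↥H →* G ⧸ I := MonoidHom.noncommCoprod Nb.subtype H.subtype hcent
  have hΦi : Function.Injective Φ := by
    rw [injective_iff_map_eq_one]
    rintro ⟨n, h⟩ hnh
    have h1 : (n : G ⧸ I) * (h : G ⧸ I) = 1 := hnh
    have h2 : (n : G ⧸ I) = ((h : G ⧸ I))⁻¹ := eq_inv_of_mul_eq_one_left h1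
    have h3 : (n : G ⧸ I) ∈ Nb ⊓ H := ⟨n.2, by rw [h2]; exact H.inv_mem h.2⟩
    rw [hdisj.eq_bot, Subgroup.mem_bot] at h3
    have h4 : (h : G ⧸ I) = 1 := by
      rw [h3, one_mul] at h1
      exact h1
    exact Prod.ext (Subtype.ext h3) (Subtype.ext h4)
  have hΦb : Function.Bijective Φ := by
    rw [Nat.bijective_iff_injective_and_card]
    refine ⟨hΦi, ?_⟩
    rw [Nat.card_prod]
    exact hH.card_mul_card
  let E : ↥Nb × ↥H ≃* G ⧸ I := MulEquiv.ofBijective Φ hΦb
  let eH : ↥H ≃* Multiplicative (ZMod f) :=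
    ((zmodCyclicMulEquiv hHcyc).symm).trans (by rw [hHcard])
  exact ⟨E.symm.trans (MulEquiv.prodCongr e eH)⟩

end Cfsg.Agent.Lib.Helper05.OutMinus
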