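import Mathlib
import Cfsg.Prelude.Def_Blocks
import Cfsg.Prelude.Def_CharExt
import Cfsg.Agent.Lib.Helper80.GaloisValues
import Cfsg.Agent.Lib.Helper84.DetGalois
import Cfsg.Agent.Lib.Helper80.DetCoprime

/-!
# `p`-rational characters (helper5)

`PR p ϑ` : the character `ϑ` is fixed by all Galois automorphisms fixing the `p'`-roots of unity,
expressed through power maps.

* `pr_of_adjoin` : values in `ℚ(ζ_m)`, `p ∤ m`, give `PR`.
* `mem_adjoin_of_pr` : `PR` gives values in `ℚ(ζ_n)` for `n` the `p'`-part of the group order.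
* `not_dvd_detOrder_of_pr` : for `p` odd, a `p`-rational character has determinantal order prime
  to `p`.
-/

set_option autoImplicit false
set_option linter.unusedSectionVars false
set_option linter.unusedVariables false
set_option linter.style.haveILetI false

namespace Cfsg.Agent.Lib.Helper05.PRat

open Cfsg

/-- `p`-rationality, through power maps -/
def PR (p : ℕ) {H : Type*} [Group H] (ϑ : H → ℂ) : Prop :=
  ∀ k : ℕ, k.Coprime (Nat.card H) → k ≡ 1 [MOD ordCompl[p] (Nat.card H)] →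
    ∀ h : H, ϑ (h ^ k) = ϑ h

theorem pow_eq_of_modEq {R : Type*} [CommRing R] [IsDomain R] {ζ : R} {n a b : ℕ}
    (hζ : IsPrimitiveRoot ζ n) (h : a ≡ b [MOD n]) : ζ ^ a = ζ ^ b := by
  rw [← pow_mod_orderOf ζ a, ← pow_mod_orderOf ζ b, ← hζ.eq_orderOf]
  unfold Nat.ModEq at h
  rw [h]

theorem modEq_of_pow_eq {R : Type*} [CommRing R] [IsDomain R] {ζ : R} {n a b : ℕ}
    (hζ : IsPrimitiveRoot ζ n) (hn : 0 < n) (h : ζ ^ a = ζ ^ b) : a ≡ b [MOD n] := by
  rw [← pow_mod_orderOf ζ a, ← pow_mod_orderOf ζ b, ← hζ.eq_orderOf] at h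
  exact hζ.pow_inj (Nat.mod_lt a hn) (Nat.mod_lt b hn) h

/-- a ring automorphism of `ℂ` fixing `α` fixes `ℚ(α)` -/
theorem fixes_adjoin (τ : ℂ ≃+* ℂ) (α : ℂ) (hα : τ α = α) (z : ℂ)
    (hz : z ∈ IntermediateField.adjoin ℚ ({α} : Set ℂ)) : τ z = z := by
  induction hz using IntermediateField.adjoin_induction with
  | mem x hx =>
    rw [Set.mem_singleton_iff] at hx
    rw [hx, hα]
  | algebraMap x =>
    rw [eq_ratCast (algebraMap ℚ ℂ) x, map_ratCast]
  | add x y _ _ hx hy => rw [map_add, hx, hy]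
  | inv x _ hx => rw [map_inv₀, hx]
  | mul x y _ _ hx hy => rw [map_mul, hx, hy]

theorem pr_of_adjoin {H : Type*} [Group H] [Finite H] (p : ℕ) [Fact p.Prime] {ϑ : H → ℂ}
    (hϑ : IsCharacter H ϑ) (m : ℕ) (hm : ¬ p ∣ m)
    (hrat : ∀ h : H, ϑ h ∈
      IntermediateField.adjoin ℚ ({Complex.exp (2 * Real.pi * Complex.I / m)} : Set ℂ)) :
    PR p ϑ := by
  have hp : p.Prime := Fact.out
  intro k hk hk1 h
  set n₀ := Nat.card H with hn₀
  have hn₀pos : 0 < n₀ := Nat.card_pos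
  have hm0 : m ≠ 0 := by
    rintro rfl
    exact hm (dvd_zero p)
  have hgcd : Nat.gcd n₀ m ∣ ordCompl[p] n₀ := by
    have h1 : Nat.gcd n₀ m ∣ p ^ n₀.factorization p * ordCompl[p] n₀ := by
      rw [Nat.ordProj_mul_ordCompl_eq_self]
      exact Nat.gcd_dvd_left _ _
    have h2 : Nat.Coprime (Nat.gcd n₀ m) (p ^ n₀.factorization p) := by
      apply Nat.Coprime.pow_right
      apply Nat.Coprime.coprime_dvd_left (Nat.gcd_dvd_right n₀ m)
      exact ((Nat.Prime.coprime_iff_not_dvd hp).mpr hm).symm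
    exact h2.dvd_of_dvd_mul_left h1
  have hk1' : k ≡ 1 [MOD Nat.gcd n₀ m] := hk1.of_dvd hgcd
  obtain ⟨K, hK0, hK1⟩ := Nat.chineseRemainder' hk1'
  have hKcop0 : K.Coprime n₀ := by
    have := hK0.gcd_eq
    unfold Nat.Coprime
    rw [this]
    exact hk
  have hKcop1 : K.Coprime m := by
    have := hK1.gcd_eq
    unfold Nat.Coprime
    rw [this]
    exact Nat.gcd_one_left m
  have hKcop : K.Coprime (n₀ * m) := Nat.Coprime.mul_right hKcop0 hKcop1
  obtain ⟨τ, hτ⟩ := Cfsg.Agent.Lib.Helper80.exists_ringEquiv_pow (n₀ * m)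
    (Nat.mul_pos hn₀pos (Nat.pos_of_ne_zero hm0)) K hKcop
  have hpow : h ^ k = h ^ K := by
    rw [pow_eq_pow_iff_modEq]
    exact (hK0.symm).of_dvd (orderOf_dvd_natCard h)
  rw [hpow]
  have h1 := Cfsg.Agent.Lib.Helper80.char_pow_eq_apply hϑ K τ.toRingHom (by
    intro ζ hζ
    apply hτ
    rw [pow_mul, hζ, one_pow]) h
  rw [h1]
  set ω := Complex.exp (2 * Real.pi * Complex.I / m) with hω
  have hωprim : IsPrimitiveRoot ω m := Complex.isPrimitiveRoot_exp m hm0
  have hτω : τ ω = ω := by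
    rw [hτ ω (by rw [mul_comm, pow_mul, hωprim.pow_eq_one, one_pow])]
    conv_rhs => rw [← pow_one ω]
    exact pow_eq_of_modEq hωprim hK1
  exact fixes_adjoin τ ω hτω _ (hrat h)

theorem mem_adjoin_aux (n n' : ℕ) (hn : 0 < n) (hdvd : n' ∣ n) {ι : Type*} [Fintype ι]
    (μ : ι → ℂ) (hμ : ∀ i, μ i ^ n = 1)
    (hinv : ∀ m : ℕ, m.Coprime n → m ≡ 1 [MOD n'] → ∑ i, μ i ^ m = ∑ i, μ i)
    (L : Type) [Field L] [Algebra ℚ L] [IsCyclotomicExtension {n} ℚ L] :
    ∑ i, μ i ∈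
      IntermediateField.adjoin ℚ ({Complex.exp (2 * Real.pi * Complex.I / n')} : Set ℂ) := by
  haveI : NeZero n := ⟨hn.ne'⟩
  have hζ : IsPrimitiveRoot (IsCyclotomicExtension.zeta n ℚ L) n :=
    IsCyclotomicExtension.zeta_spec n ℚ L
  generalize IsCyclotomicExtension.zeta n ℚ L = ζ at hζ
  haveI : FiniteDimensional ℚ L := IsCyclotomicExtension.finiteDimensional {n} ℚ L
  haveI : IsGalois ℚ L := IsCyclotomicExtension.isGalois {n} ℚ L
  let φ : L →ₐ[ℚ] ℂ := IsAlgClosed.lift (R := ℚ) (S := L) (M := ℂ)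
  have hφinj : Function.Injective φ := φ.toRingHom.injective
  have hφζ : IsPrimitiveRoot (φ ζ) n := hζ.map_of_injective hφinj
  obtain ⟨e, he⟩ := hdvd
  have he0 : e ≠ 0 := by
    rintro rfl
    rw [mul_zero] at he
    exact hn.ne' he
  have hn'0 : n' ≠ 0 := by
    rintro rfl
    rw [zero_mul] at he
    exact hn.ne' he
  set η : L := ζ ^ e with hη
  set F : IntermediateField ℚ L := IntermediateField.adjoin ℚ {η} with hF
  have hηF : η ∈ F := IntermediateField.subset_adjoin ℚ _ (Set.mem_singleton η)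
  have hex : ∀ i, ∃ a : ℕ, φ ζ ^ a = μ i := by
    intro i
    obtain ⟨a, -, ha⟩ := hφζ.eq_pow_of_pow_eq_one (hμ i)
    exact ⟨a, ha⟩
  choose a ha using hex
  let x : L := ∑ i, ζ ^ a i
  have hφx : φ x = ∑ i, μ i := by
    simp only [x, map_sum, map_pow, ha]
  have hfix : ∀ σ : L ≃ₐ[F] L, σ x = x := by
    intro σ
    have hσζ : IsPrimitiveRoot (σ ζ) n := hζ.map_of_injective σ.injective
    obtain ⟨m, -, hm⟩ := hζ.eq_pow_of_pow_eq_one hσζ.pow_eq_one
    have hcop : m.Coprime n := by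
      rw [← hm] at hσζ
      exact (hζ.pow_iff_coprime hn m).1 hσζ
    have hση : σ η = η := by
      have := σ.commutes ⟨η, hηF⟩
      exact this
    have hm1 : m ≡ 1 [MOD n'] := by
      have h1 : ζ ^ (m * e) = ζ ^ (1 * e) := by
        rw [one_mul, pow_mul, hm, ← map_pow, ← hη, hση]
      have h2 := modEq_of_pow_eq hζ hn h1
      rw [he] at h2
      exact Nat.ModEq.mul_right_cancel' he0 h2
    apply hφinj
    rw [hφx, ← hinv m hcop hm1]
    simp only [x, map_sum, map_pow, ← hm, ← ha]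
    apply Finset.sum_congr rfl
    intro i _
    rw [← pow_mul, ← pow_mul, mul_comm]
  obtain ⟨y, hy⟩ := (IsGalois.mem_range_algebraMap_iff_fixed (F := F) x).2 hfix
  have hxF : x ∈ F := by
    rw [← hy]
    exact y.2
  have h1 : φ x ∈ F.map φ := ⟨x, hxF, rfl⟩
  rw [hF, IntermediateField.adjoin_map, Set.image_singleton] at h1
  rw [← hφx]
  set ω := Complex.exp (2 * Real.pi * Complex.I / n') with hω
  have hωprim : IsPrimitiveRoot ω n' := Complex.isPrimitiveRoot_exp n' hn'0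
  have hφη : (φ η) ^ n' = 1 := by
    rw [hη, map_pow, ← pow_mul, mul_comm, ← he, hφζ.pow_eq_one]
  haveI : NeZero n' := ⟨hn'0⟩
  obtain ⟨j, -, hj⟩ := hωprim.eq_pow_of_pow_eq_one hφη
  have hle : IntermediateField.adjoin ℚ ({φ η} : Set ℂ) ≤ IntermediateField.adjoin ℚ {ω} := by
    rw [IntermediateField.adjoin_le_iff]
    intro z hz
    rw [Set.mem_singleton_iff] at hz
    rw [hz, ← hj]
    exact pow_mem (IntermediateField.subset_adjoin ℚ _ (Set.mem_singleton ω)) j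
  exact hle h1

theorem mem_adjoin_of_pow_invariant (n n' : ℕ) (hn : 0 < n) (hdvd : n' ∣ n) {ι : Type*}
    [Fintype ι] (μ : ι → ℂ) (hμ : ∀ i, μ i ^ n = 1)
    (hinv : ∀ m : ℕ, m.Coprime n → m ≡ 1 [MOD n'] → ∑ i, μ i ^ m = ∑ i, μ i) :
    ∑ i, μ i ∈
      IntermediateField.adjoin ℚ ({Complex.exp (2 * Real.pi * Complex.I / n')} : Set ℂ) :=
  haveI : NeZero n := ⟨hn.ne'⟩
  @mem_adjoin_aux n n' hn hdvd ι _ μ hμ hinv (CyclotomicField n ℚ) _
    (CyclotomicField.algebra n ℚ) _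

theorem mem_adjoin_of_pr {H : Type*} [Group H] [Finite H] (p : ℕ) {ϑ : H → ℂ}
    (hϑ : IsCharacter H ϑ) (hpr : PR p ϑ) (h : H) :
    ϑ h ∈ IntermediateField.adjoin ℚ
      ({Complex.exp (2 * Real.pi * Complex.I / (ordCompl[p] (Nat.card H) : ℕ))} : Set ℂ) := by
  obtain ⟨d, ρ, rfl⟩ := hϑ
  obtain ⟨b, μ, hμ, -, hk', -⟩ :=
    Cfsg.Agent.Lib.Helper05.exists_eigenvalues ρ h (isOfFinOrder_of_finite h)
  have h1 := hk' 1
  simp only [pow_one] at h1
  have hμn : ∀ i, μ i ^ Nat.card H = 1 := by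
    intro i
    obtain ⟨m, hm⟩ := orderOf_dvd_natCard h
    rw [hm, pow_mul, hμ, one_pow]
  rw [h1]
  apply mem_adjoin_of_pow_invariant (Nat.card H) _ Nat.card_pos
    (Nat.ordCompl_dvd (Nat.card H) p) μ hμn
  intro m hm hm1
  rw [← hk' m, ← h1]
  exact hpr m hm hm1 h

/-- for `p` odd, a `p`-rational character has determinantal order prime to `p` -/
theorem not_dvd_detOrder_of_pr {H : Type*} [Group H] [Finite H] (p : ℕ) [Fact p.Prime]
    (hp2 : p ≠ 2) {ϑ : H → ℂ} (hϑ : IsCharacter H ϑ) (hpr : PR p ϑ) : ¬ p ∣ detOrder ϑ := by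
  have hp : p.Prime := Fact.out
  set n₀ := Nat.card H with hn₀
  have hn₀pos : 0 < n₀ := Nat.card_pos
  set v := n₀.factorization p with hv
  set r := ordCompl[p] n₀ with hr
  have hfac : p ^ v * r = n₀ := Nat.ordProj_mul_ordCompl_eq_self n₀ p
  have hcop : Nat.Coprime (p ^ v) r := by
    apply Nat.Coprime.pow_left
    exact (Nat.coprime_ordCompl hp hn₀pos.ne')
  intro hdvd
  have hpn : p ∣ n₀ := hdvd.trans (Cfsg.Agent.Lib.Helper80.detOrder_dvd_card ϑ)
  have hv1 : 1 ≤ v := by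
    rw [hv]
    exact (hp.factorization_pos_of_dvd hn₀pos.ne' hpn)
  obtain ⟨k, hk2, hk1⟩ := Nat.chineseRemainder hcop 2 1
  -- `k` is coprime to `n₀`
  have hkp : k ≡ 2 [MOD p] := hk2.of_dvd (dvd_pow_self p (by omega))
  have hkcop : k.Coprime n₀ := by
    rw [← hfac]
    apply Nat.Coprime.mul_right
    · apply Nat.Coprime.pow_right
      rw [Nat.coprime_comm, Nat.Prime.coprime_iff_not_dvd hp]
      intro hpk
      have h2 : p ∣ 2 := (Nat.modEq_zero_iff_dvd.mp
        ((hkp.symm).trans (Nat.modEq_zero_iff_dvd.mpr hpk)))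
      have := (Nat.prime_dvd_prime_iff_eq hp Nat.prime_two).mp h2
      exact hp2 this
    · have := hk1.gcd_eq
      unfold Nat.Coprime
      rw [this]
      exact Nat.gcd_one_left r
  have hdet := Cfsg.Agent.Lib.Helper84.detChar_pow_coprime hϑ k hkcop
  have hfix : (fun g => ϑ (g ^ k)) = ϑ := funext (hpr k hkcop hk1)
  rw [hfix] at hdet
  -- `(det ϑ)^(k-1) = 1`
  have hk0 : 1 ≤ k := by
    rcases Nat.eq_zero_or_pos k with h0 | h0
    · exfalso
      rw [h0] at hkp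
      have h2 : p ∣ 2 := (Nat.modEq_zero_iff_dvd.mp hkp.symm)
      have := (Nat.prime_dvd_prime_iff_eq hp Nat.prime_two).mp h2
      exact hp2 this
    · exact h0
  have hpow : (detChar ϑ) ^ (k - 1) = 1 := by
    funext g
    have h1 := congrFun hdet g
    have h0 := Cfsg.Agent.Lib.Helper80.detChar_ne_zero ϑ g
    simp only [Pi.pow_apply, Pi.one_apply]
    have h2 : detChar ϑ g ^ (k - 1) * detChar ϑ g = detChar ϑ g := by
      rw [← pow_succ, Nat.sub_add_cancel hk0]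
      exact h1.symm
    have h3 : (detChar ϑ g ^ (k - 1) - 1) * detChar ϑ g = 0 := by
      rw [sub_mul, h2, one_mul, sub_self]
    rcases mul_eq_zero.mp h3 with h4 | h4
    · exact sub_eq_zero.mp h4
    · exact absurd h4 h0
  have hord : detOrder ϑ ∣ k - 1 := by
    unfold detOrder
    exact orderOf_dvd_of_pow_eq_one hpow
  have hpk1 : p ∣ k - 1 := hdvd.trans hord
  -- `k ≡ 2 mod p` and `p ∣ k - 1` give `p ∣ 1`
  have h3 : k ≡ 1 [MOD p] := by
    have : (k - 1) + 1 = k := Nat.sub_add_cancel hk0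
    have h4 : (k - 1) + 1 ≡ 0 + 1 [MOD p] :=
      Nat.ModEq.add_right 1 (Nat.modEq_zero_iff_dvd.mpr hpk1)
    rw [this, zero_add] at h4
    exact h4
  have h5 : 2 ≡ 1 [MOD p] := hkp.symm.trans h3
  have h6 : p ∣ 2 - 1 := (Nat.modEq_iff_dvd' (by norm_num)).mp h5.symm
  norm_num at h6
  exact hp.one_lt.ne' h6

/-- transport of `p`-rationality along an isomorphism -/
theorem pr_comp_mulEquiv {H K : Type*} [Group H] [Group K] (p : ℕ) (e : H ≃* K) {ϑ : K → ℂ}
    (hpr : PR p ϑ) : PR p (fun h => ϑ (e h)) := by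
  intro k hk hk1 h
  have hc : Nat.card H = Nat.card K := Nat.card_congr e.toEquiv
  rw [hc] at hk hk1
  show ϑ (e (h ^ k)) = ϑ (e h)
  rw [map_pow]
  exact hpr k hk hk1 (e h)

/-- `p`-rationality passes to subgroups: the relevant exponents for the big group are relevant for
the subgroup -/
theorem exp_sub {G : Type*} [Group G] [Finite G] (p : ℕ) [Fact p.Prime] (H : Subgroup G) {k : ℕ}
    (hk : k.Coprime (Nat.card G)) (hk1 : k ≡ 1 [MOD ordCompl[p] (Nat.card G)]) :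
    k.Coprime (Nat.card H) ∧ k ≡ 1 [MOD ordCompl[p] (Nat.card H)] := by
  have hdvd : Nat.card H ∣ Nat.card G := Subgroup.card_subgroup_dvd_card H
  refine ⟨Nat.Coprime.coprime_dvd_right hdvd hk, hk1.of_dvd ?_⟩
  exact Nat.ordCompl_dvd_ordCompl_of_dvd hdvd p

end Cfsg.Agent.Lib.Helper05.PRat
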