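import Mathlib
import Cfsg.Prelude.Def_Blocks
import Cfsg.Prelude.Def_CharExt
import Cfsg.Agent.Lib.Helper05.PrincExtGen
import Cfsg.Agent.Lib.Helper05.PRat
import Cfsg.Agent.Lib.Helper85.Gallagher
import Cfsg.Agent.Lib.Helper80.DetChar
import Cfsg.Agent.Lib.Helper22.DefectClass
import Cfsg.Agent.Lib.Helper22.BlockQuot
import Cfsg.Agent.Lib.Helper80.DetCoprime
import Cfsg.Agent.Lib.Helper84.DetGalois
import Cfsg.Agent.S0173

/-!
# The canonical extension in the principal block (helper5)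

`N ⊴ G`, `G = N C` with all elements of `C` having `N`-orbits of size prime to `p`, `θ ∈ Irr(N)` in
the principal block, of degree and determinantal order prime to `p`, extendible to `G`.
Then there is a unique extension `χ` of `θ` with determinantal order prime to `p` and with
`χ(x)/χ(1) ≡ 1` modulo the local ideal for all `x` with `N`-orbit of size prime to `p`; it lies in
the principal block, and it is invariant under all symmetries of the situation.
-/

set_option autoImplicit false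
set_option linter.unusedSectionVars false
set_option linter.unusedVariables false
set_option linter.style.haveILetI false

namespace Cfsg.Agent.Lib.Helper05.PRatCore

open Cfsg Cfsg.Agent.Lib.Helper82 Cfsg.Agent.Lib.Helper05.RelCent
open Cfsg.Agent.Lib.Helper05.PrincExt
open Cfsg.Agent.Lib.Helper21 (omega conv)

/-- a root of unity of order prime to `p` congruent to `1` modulo the local ideal is `1` -/
theorem eq_one_of_pow_eq_one {p : ℕ} [Fact p.Prime] {M : Ideal AlgInt} (hM : IsPModular p M)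
    {ε : ℂ} {n : ℕ} (hn : ¬ p ∣ n) (hε : ε ^ n = 1) (h1 : MemLocalIdeal M (ε - 1)) : ε = 1 := by
  have hMp : M.IsPrime := hM.2.1.isPrime
  have hn0 : n ≠ 0 := by
    rintro rfl
    exact hn (dvd_zero p)
  by_contra hne
  have hgeom : ∑ i ∈ Finset.range n, ε ^ i = 0 := by
    have h2 := geom_sum_mul ε n
    rw [hε, sub_self] at h2
    rcases mul_eq_zero.mp h2 with h3 | h3
    · exact h3
    · exact absurd (sub_eq_zero.mp h3) hne
  have hεint : IsIntegral ℤ ε := by
    refine IsIntegral.of_pow (Nat.pos_of_ne_zero hn0) ?_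
    rw [hε]; exact isIntegral_one
  have hi : ∀ i : ℕ, MemLocalIdeal M (ε ^ i - 1) := by
    intro i
    rw [← geom_sum_mul ε i]
    exact memLocalIdeal_mul_left hMp
      (memLocalRing_of_isIntegral hMp (IsIntegral.sum _ fun j _ => hεint.pow j)) h1
  have h2 := memLocalIdeal_sum hMp (Finset.range n) (fun i => ε ^ i - 1) (fun i _ => hi i)
  rw [Finset.sum_sub_distrib, hgeom, zero_sub] at h2
  simp only [Finset.sum_const, Finset.card_range, nsmul_eq_mul, mul_one] at h2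
  have h3 := memLocalIdeal_neg h2
  rw [neg_neg, memLocalIdeal_natCast_iff hM] at h3
  exact hn h3

variable {G : Type*} [Group G]

/-- values congruent to the degree on the elements with `N`-orbit of size prime to `p` -/
def SPr (p : ℕ) (M : Ideal AlgInt) (N : Subgroup G) (χ : G → ℂ) : Prop :=
  ∀ x : G, ¬ p ∣ orbCard N x → MemLocalIdeal M (χ x / χ 1 - 1)

/-- the good extensions of `θ` -/
def Good (p : ℕ) (M : Ideal AlgInt) (N : Subgroup G) (θ : N → ℂ) (χ : G → ℂ) : Prop :=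
  IsIrrCharacter G χ ∧ (∀ n : N, χ n = θ n) ∧ ¬ p ∣ detOrder χ ∧ SPr p M N χ

/-- twisting by a linear character with values congruent to `1` -/
theorem spr_twist {p : ℕ} {M : Ideal AlgInt} (hMp : M.IsPrime) (N : Subgroup G) {χ : G → ℂ}
    (h : SPr p M N χ) (μ : G →* ℂˣ) (hμI : ∀ g, IsIntegral ℤ ((μ g : ℂˣ) : ℂ))
    (hμ : ∀ g, MemLocalIdeal M (((μ g : ℂˣ) : ℂ) - 1)) :
    SPr p M N (fun g => ((μ g : ℂˣ) : ℂ) * χ g) := by
  intro x hx
  have h1 := h x hx
  show MemLocalIdeal M (((μ x : ℂˣ) : ℂ) * χ x / (((μ 1 : ℂˣ) : ℂ) * χ 1) - 1)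
  rw [map_one, Units.val_one, one_mul]
  have e : ((μ x : ℂˣ) : ℂ) * χ x / χ 1 - 1
      = ((μ x : ℂˣ) : ℂ) * (χ x / χ 1 - 1) + (((μ x : ℂˣ) : ℂ) - 1) := by ring
  rw [e]
  exact memLocalIdeal_add hMp
    (memLocalIdeal_mul_left hMp (memLocalRing_of_isIntegral hMp (hμI x)) h1) (hμ x)

/-- twisting a principal block character by a linear character with values congruent to `1` -/
theorem sameBlock_twist [Finite G] {M : Ideal AlgInt} (hMp : M.IsPrime) {χ : G → ℂ}
    (hχ : IsIrrCharacter G χ) (h : SameBlock M (fun _ : G => (1 : ℂ)) χ) (μ : G →* ℂˣ)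
    (hμ : ∀ g, MemLocalIdeal M (((μ g : ℂˣ) : ℂ) - 1)) :
    SameBlock M (fun _ : G => (1 : ℂ)) (fun g => ((μ g : ℂˣ) : ℂ) * χ g) := by
  intro g
  have h1 := h g
  have hcc : MemLocalRing M (centralChar χ g) :=
    memLocalRing_of_isIntegral hMp (IsIrrCharacter.isIntegral_centralChar hχ g)
  have e : centralChar (fun g => ((μ g : ℂˣ) : ℂ) * χ g) g
      = ((μ g : ℂˣ) : ℂ) * centralChar χ g := by
    unfold centralChar
    simp only [map_one, Units.val_one, one_mul]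
    ring
  rw [e]
  have e2 : centralChar (fun _ : G => (1 : ℂ)) g - ((μ g : ℂˣ) : ℂ) * centralChar χ g
      = (centralChar (fun _ : G => (1 : ℂ)) g - centralChar χ g)
        - (((μ g : ℂˣ) : ℂ) - 1) * centralChar χ g := by ring
  rw [e2]
  exact memLocalIdeal_sub hMp h1 (memLocalIdeal_mul_right hMp (hμ g) hcc)

/-- the restriction of the determinant -/
theorem detHom_restrict [Finite G] (N : Subgroup G) {χ : G → ℂ} (hχ : IsCharacter G χ)
    {θ : N → ℂ} (hres : ∀ n : N, χ n = θ n) (n : N) :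
    Cfsg.Agent.Lib.Helper80.detHom χ (n : G) = Cfsg.Agent.Lib.Helper80.detHom θ n := by
  apply Units.ext
  rw [Cfsg.Agent.Lib.Helper80.detHom_apply, Cfsg.Agent.Lib.Helper80.detHom_apply]
  have h1 : (fun n : N => χ n) = θ := funext hres
  rw [← h1, Cfsg.Agent.Lib.Helper80.detChar_restrict N hχ]

/-- **Uniqueness of the good extension.** -/
theorem good_unique [Fintype G] (p : ℕ) [Fact p.Prime] (M : Ideal AlgInt) (hM : IsPModular p M)
    (N : Subgroup G) [N.Normal] (C : Subgroup G) (hcov : N ⊔ C = ⊤)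
    (hCp : ∀ g ∈ C, ¬ p ∣ orbCard N g) (θ : N → ℂ) (hθ : IsIrrCharacter N θ) (d : ℕ)
    (hd : θ 1 = d) (hpd : ¬ p ∣ d) {χ₁ χ₂ : G → ℂ} (h₁ : Good p M N θ χ₁)
    (h₂ : Good p M N θ χ₂) : χ₂ = χ₁ := by
  classical
  haveI : Fintype N := Fintype.ofFinite N
  haveI : Fintype (G ⧸ N) := Fintype.ofFinite _
  have hMp : M.IsPrime := hM.2.1.isPrime
  obtain ⟨hχ₁, hres₁, hdet₁, hsp₁⟩ := h₁
  obtain ⟨hχ₂, hres₂, hdet₂, hsp₂⟩ := h₂
  have hχ₁c : IsCharacter G χ₁ := Cfsg.Agent.Lib.Helper82.IsIrrCharacter.isCharacter hχ₁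
  have hχ₂c : IsCharacter G χ₂ := Cfsg.Agent.Lib.Helper82.IsIrrCharacter.isCharacter hχ₂
  have hr₁ : (fun n : N => χ₁ n) = θ := funext hres₁
  have hr₂ : (fun n : N => χ₂ n) = θ := funext hres₂
  have hχ₁N : IsIrrCharacter N (fun n : N => χ₁ n) := by rw [hr₁]; exact hθ
  have hover : classInner (fun n : N => χ₂ n) (fun n : N => χ₁ n) ≠ 0 := by
    rw [hr₁, hr₂, Cfsg.Agent.Lib.Helper05.classInner_irr_self hθ]
    exact one_ne_zero
  obtain ⟨β, hβ⟩ := (Cfsg.Agent.Lib.Helper85.gallagher N hχ₁ hχ₁N).2 χ₂ hχ₂ hover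
  have hd0 : (d : ℂ) ≠ 0 := by
    rw [← hd]
    exact Cfsg.Agent.Lib.Helper82.IsIrrCharacter.apply_one_ne_zero hθ
  have h11 : χ₁ 1 = d := by
    have := hres₁ 1
    rw [hd] at this
    exact this
  have h21 : χ₂ 1 = d := by
    have := hres₂ 1
    rw [hd] at this
    exact this
  have hβ1 : (β : G ⧸ N → ℂ) 1 = 1 := by
    have h := congrFun hβ 1
    simp only [QuotientGroup.mk_one] at h
    rw [h11, h21] at h
    have : ((β : G ⧸ N → ℂ) 1 - 1) * (d : ℂ) = 0 := by
      rw [sub_mul, one_mul, ← h, sub_self]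
    rcases mul_eq_zero.mp this with h4 | h4
    · exact sub_eq_zero.mp h4
    · exact absurd h4 hd0
  obtain ⟨φ, hφ⟩ := Cfsg.Agent.Lib.Helper20.exists_hom_of_linear
    (Cfsg.Agent.Lib.Helper82.IsIrrCharacter.isCharacter β.2) hβ1
  set μ : G →* ℂˣ := φ.comp (QuotientGroup.mk' N) with hμ
  have hχ₂eq : χ₂ = fun g => ((μ g : ℂˣ) : ℂ) * χ₁ g := by
    rw [hβ]
    funext g
    rw [← hφ]
    rfl
  have hμN : ∀ n ∈ N, μ n = 1 := by
    intro n hn
    rw [hμ, MonoidHom.comp_apply, QuotientGroup.mk'_apply, (QuotientGroup.eq_one_iff n).mpr hn,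
      map_one]
  -- determinants
  have hμc := Cfsg.Agent.Lib.Helper20.isCharacter_homFun μ
  have hdeteq : detChar χ₂ = fun g => ((μ g : ℂˣ) : ℂ) ^ d * detChar χ₁ g := by
    rw [hχ₂eq]
    exact Cfsg.Agent.Lib.Helper80.detChar_linear_mul hμc.1 hμc.2 hχ₁c d h11
  set e₁ := detOrder χ₁ with he₁
  set e₂ := detOrder χ₂ with he₂
  have hpow₁ : ∀ g, detChar χ₁ g ^ e₁ = 1 := by
    intro g
    have h : (detChar χ₁) ^ e₁ = 1 := by
      rw [he₁]; unfold detOrder; exact pow_orderOf_eq_one _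
    exact congrFun h g
  have hpow₂ : ∀ g, detChar χ₂ g ^ e₂ = 1 := by
    intro g
    have h : (detChar χ₂) ^ e₂ = 1 := by
      rw [he₂]; unfold detOrder; exact pow_orderOf_eq_one _
    exact congrFun h g
  have hp : p.Prime := Fact.out
  have hne : ¬ p ∣ d * e₁ * e₂ := by
    intro h
    rcases (Nat.Prime.dvd_mul hp).mp h with h | h
    · rcases (Nat.Prime.dvd_mul hp).mp h with h | h
      · exact hpd h
      · exact hdet₁ h
    · exact hdet₂ h
  have hμpow : ∀ g, ((μ g : ℂˣ) : ℂ) ^ (d * e₁ * e₂) = 1 := by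
    intro g
    have h1 : (detChar χ₂ g) ^ (e₁ * e₂) = 1 := by rw [mul_comm, pow_mul, hpow₂, one_pow]
    have h2 : (detChar χ₁ g) ^ (e₁ * e₂) = 1 := by rw [pow_mul, hpow₁, one_pow]
    rw [congrFun hdeteq g, mul_pow, h2, mul_one, ← pow_mul, ← mul_assoc] at h1
    exact h1
  have hn0 : d * e₁ * e₂ ≠ 0 := by
    intro h
    rw [h] at hne
    exact hne (dvd_zero p)
  have hμC : ∀ x ∈ C, μ x = 1 := by
    intro x hx
    have hx' := hCp x hx
    have a1 := hsp₁ x hx'
    have a2 := hsp₂ x hx'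
    rw [hχ₂eq] at a2
    simp only [map_one, Units.val_one, one_mul] at a2
    have hμI : IsIntegral ℤ ((μ x : ℂˣ) : ℂ) := by
      refine IsIntegral.of_pow (Nat.pos_of_ne_zero hn0) ?_
      rw [hμpow x]; exact isIntegral_one
    have e : ((μ x : ℂˣ) : ℂ) - 1 = (((μ x : ℂˣ) : ℂ) * χ₁ x / χ₁ 1 - 1)
        - ((μ x : ℂˣ) : ℂ) * (χ₁ x / χ₁ 1 - 1) := by ring
    have h3 : MemLocalIdeal M (((μ x : ℂˣ) : ℂ) - 1) := by
      rw [e]
      exact memLocalIdeal_sub hMp a2
        (memLocalIdeal_mul_left hMp (memLocalRing_of_isIntegral hMp hμI) a1)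
    apply Units.ext
    exact eq_one_of_pow_eq_one hM hne (hμpow x) h3
  have hμtop : ∀ g, μ g = 1 := by
    have hle : N ⊔ C ≤ μ.ker :=
      sup_le (fun n hn => MonoidHom.mem_ker.mpr (hμN n hn))
        (fun c hc => MonoidHom.mem_ker.mpr (hμC c hc))
    intro g
    have : g ∈ μ.ker := hle (by rw [hcov]; trivial)
    exact MonoidHom.mem_ker.mp this
  rw [hχ₂eq]
  funext g
  rw [hμtop g]
  simp

/-- **Existence of the good extension**, inside the principal block. -/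
theorem exists_good [Finite G] (p : ℕ) [Fact p.Prime] (M : Ideal AlgInt) (hM : IsPModular p M)
    (N : Subgroup G) [N.Normal] (C : Subgroup G) (hcov : N ⊔ C = ⊤)
    (hCp : ∀ g ∈ C, ¬ p ∣ orbCard N g) (θ : N → ℂ) (hθ : IsIrrCharacter N θ)
    (hB : SameBlock M (fun _ : N => (1 : ℂ)) θ) (d : ℕ) (hd : θ 1 = d) (hpd : ¬ p ∣ d)
    (hdet : ¬ p ∣ detOrder θ)
    (hext : ∃ ψ : G → ℂ, IsIrrCharacter G ψ ∧ ∀ n : N, ψ n = θ n) :
    ∃ χ : G → ℂ, Good p M N θ χ ∧ SameBlock M (fun _ : G => (1 : ℂ)) χ := by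
  classical
  haveI : Fintype G := Fintype.ofFinite G
  have hMp : M.IsPrime := hM.2.1.isPrime
  have hp : p.Prime := Fact.out
  obtain ⟨ψ, hψ, hψN⟩ := hext
  have hψc : IsCharacter G ψ := Cfsg.Agent.Lib.Helper82.IsIrrCharacter.isCharacter hψ
  have hres : (fun n : N => ψ n) = θ := funext hψN
  have hψNirr : IsIrrCharacter N (fun n : N => ψ n) := by rw [hres]; exact hθ
  have hθ' : SameBlock M (fun _ : N => (1 : ℂ)) (fun n : N => ψ n) := by rw [hres]; exact hB
  obtain ⟨lam, hlamN, hcong⟩ :=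
    Cfsg.Agent.Lib.Helper05.PrincExtGen.exists_twist_gen p M hM N C hcov hCp ψ hψc hψNirr hθ'
  set ψ₁ : G → ℂ := fun g => ((lam g : ℂˣ) : ℂ) * ψ g with hψ₁
  have hlamirr := Cfsg.Agent.Lib.Helper05.isIrrCharacter_of_hom lam
  have hψ₁irr : IsIrrCharacter G ψ₁ :=
    Cfsg.Agent.Lib.Helper83.isIrrCharacter_mul_linear
      (Cfsg.Agent.Lib.Helper82.IsIrrCharacter.isCharacter hlamirr) (by simp) hψ
  have hψ₁c : IsCharacter G ψ₁ := Cfsg.Agent.Lib.Helper82.IsIrrCharacter.isCharacter hψ₁irr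
  have hψ₁cl : IsClassFunction G ψ₁ := Cfsg.Agent.Lib.Helper82.IsCharacter.isClassFunction hψ₁c
  have hψ₁N : ∀ x : N, ψ₁ x = θ x := by
    intro x
    show ((lam (x : G) : ℂˣ) : ℂ) * ψ x = θ x
    rw [hlamN x x.2, ← hψN x]
    simp
  have hψ₁1 : ψ₁ 1 = d := by
    have := hψ₁N 1
    rw [hd] at this
    exact this
  have hd0 : (d : ℂ) ≠ 0 := by
    rw [← hd]
    exact Cfsg.Agent.Lib.Helper82.IsIrrCharacter.apply_one_ne_zero hθ
  -- `ψ₁` lies in the principal block
  have hψ₁B : SameBlock M (fun _ : G => (1 : ℂ)) ψ₁ := by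
    intro g
    rw [centralChar_one_top, centralChar_top g hψ₁cl]
    have := hcong (orb ⊤ g) (orb_isInv_of_le le_top g) (orb_isIntegral ⊤ g)
    have h2 := memLocalIdeal_neg this
    rwa [neg_sub] at h2
  -- `ψ₁` has the congruence property
  have hψ₁sp : SPr p M N ψ₁ := by
    intro x hx
    have h1 := hcong (orb N x) (orb_isInv N x) (orb_isIntegral N x)
    rw [sum_orb, omega_orb N x hψ₁cl] at h1
    have hcI : ¬ MemLocalIdeal M ((orbCard N x : ℕ) : ℂ) := by
      rw [memLocalIdeal_natCast_iff hM]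
      exact hx
    have hc0 : ((orbCard N x : ℕ) : ℂ) ≠ 0 := by
      intro h0
      apply hcI
      rw [h0]; exact memLocalIdeal_zero hMp
    have hcinv : MemLocalRing M ((orbCard N x : ℂ))⁻¹ :=
      memLocalRing_inv (memLocalRing_natCast hMp _) hcI
    have h2 := memLocalIdeal_mul_left hMp hcinv h1
    have e : ((orbCard N x : ℂ))⁻¹ * ((orbCard N x : ℂ) * ψ₁ x / ψ₁ 1 - (orbCard N x : ℂ))
        = ψ₁ x / ψ₁ 1 - 1 := by
      field_simp
    rw [e] at h2
    exact h2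
  -- the determinant and its correction
  set δ := Cfsg.Agent.Lib.Helper80.detHom ψ₁ with hδ
  obtain ⟨A, R, hR, hAR⟩ := Nat.exists_eq_pow_mul_and_not_dvd (n := Nat.card G)
    Nat.card_pos.ne' p hp.ne_one
  have hcopR : Nat.Coprime (d * R) (p ^ A) := by
    apply Nat.Coprime.pow_right
    apply Nat.Coprime.mul_left
    · exact ((Nat.Prime.coprime_iff_not_dvd hp).mpr hpd).symm
    · exact ((Nat.Prime.coprime_iff_not_dvd hp).mpr hR).symm
  -- `j'` with `d R j' + 1 ≡ 0 mod p^A`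
  obtain ⟨j', hj'⟩ : ∃ j' : ℕ, p ^ A ∣ d * R * j' + 1 := by
    obtain ⟨k, hk0, hk1⟩ := Nat.chineseRemainder hcopR 0 (p ^ A - 1)
    have hdvd : d * R ∣ k := (Nat.modEq_zero_iff_dvd).mp hk0
    obtain ⟨j', rfl⟩ := hdvd
    refine ⟨j', ?_⟩
    have h1 : d * R * j' + 1 ≡ (p ^ A - 1) + 1 [MOD p ^ A] := Nat.ModEq.add_right 1 hk1
    rw [Nat.sub_add_cancel (Nat.one_le_pow _ _ hp.pos)] at h1
    exact (Nat.modEq_zero_iff_dvd).mp (h1.trans (by simp [Nat.ModEq]))
  have hδcard : ∀ g, δ g ^ Nat.card G = 1 := by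
    intro g
    rw [← map_pow, pow_card_eq_one', map_one]
  set μ : G →* ℂˣ := δ ^ (R * j') with hμ
  have hμapp : ∀ g, μ g = δ g ^ (R * j') := fun g => rfl
  have hμpow : ∀ g, μ g ^ (p ^ A) = 1 := by
    intro g
    rw [hμapp, ← pow_mul]
    have : R * j' * p ^ A = Nat.card G * j' := by rw [hAR]; ring
    rw [this, pow_mul, hδcard, one_pow]
  have hμpowC : ∀ g, ((μ g : ℂˣ) : ℂ) ^ (p ^ A) = 1 := by
    intro g
    rw [← Units.val_pow_eq_pow_val, hμpow g, Units.val_one]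
  have hμI : ∀ g, IsIntegral ℤ ((μ g : ℂˣ) : ℂ) := by
    intro g
    refine IsIntegral.of_pow (pow_pos hp.pos A) ?_
    rw [hμpowC g]; exact isIntegral_one
  have hμ1 : ∀ g, MemLocalIdeal M (((μ g : ℂˣ) : ℂ) - 1) := fun g =>
    Cfsg.Agent.Lib.Helper22.memLocalIdeal_sub_one_of_pow hM (hμI g) A (hμpowC g)
  -- `μ` is trivial on `N`
  have hoR : detOrder θ ∣ R := by
    have h1 : detOrder θ ∣ Nat.card G :=
      (Cfsg.Agent.Lib.Helper80.detOrder_dvd_card θ).trans (Subgroup.card_subgroup_dvd_card N)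
    rw [hAR] at h1
    have h2 : Nat.Coprime (detOrder θ) (p ^ A) := by
      apply Nat.Coprime.pow_right
      exact ((Nat.Prime.coprime_iff_not_dvd hp).mpr hdet).symm
    exact h2.dvd_of_dvd_mul_left h1
  have hμN : ∀ n ∈ N, μ n = 1 := by
    intro n hn
    rw [hμapp, hδ, detHom_restrict N hψ₁c hψ₁N ⟨n, hn⟩]
    obtain ⟨t, ht⟩ := hoR
    have h1 : (Cfsg.Agent.Lib.Helper80.detHom θ) ^ detOrder θ = 1 := by
      rw [Cfsg.Agent.Lib.Helper80.detOrder_eq]
      exact pow_orderOf_eq_one _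
    have h2 := congrArg (fun f : N →* ℂˣ => f ⟨n, hn⟩) h1
    simp only [MonoidHom.pow_apply, MonoidHom.one_apply] at h2
    rw [ht, mul_assoc, pow_mul, h2, one_pow]
  -- the corrected character
  set χ : G → ℂ := fun g => ((μ g : ℂˣ) : ℂ) * ψ₁ g with hχ
  have hμc := Cfsg.Agent.Lib.Helper20.isCharacter_homFun μ
  have hχirr : IsIrrCharacter G χ :=
    Cfsg.Agent.Lib.Helper83.isIrrCharacter_mul_linear hμc.1 hμc.2 hψ₁irr
  have hχN : ∀ n : N, χ n = θ n := by
    intro n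
    show ((μ (n : G) : ℂˣ) : ℂ) * ψ₁ n = θ n
    rw [hμN n n.2, hψ₁N n]
    simp
  have hχdet : detChar χ = fun g => ((μ g : ℂˣ) : ℂ) ^ d * detChar ψ₁ g :=
    Cfsg.Agent.Lib.Helper80.detChar_linear_mul hμc.1 hμc.2 hψ₁c d hψ₁1
  have hχord : detOrder χ ∣ R := by
    unfold detOrder
    apply orderOf_dvd_of_pow_eq_one
    funext g
    simp only [Pi.pow_apply, Pi.one_apply]
    rw [congrFun hχdet g]
    have e1 : detChar ψ₁ g = ((δ g : ℂˣ) : ℂ) := by
      rw [hδ, Cfsg.Agent.Lib.Helper80.detHom_apply]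
    rw [e1, hμapp]
    simp only [Units.val_pow_eq_pow_val]
    rw [← pow_mul, ← pow_succ, ← pow_mul]
    obtain ⟨t, ht⟩ := hj'
    have e2 : (R * j' * d + 1) * R = Nat.card G * t := by
      have : R * j' * d + 1 = p ^ A * t := by rw [← ht]; ring
      rw [this, hAR]; ring
    rw [e2, pow_mul, ← Units.val_pow_eq_pow_val, hδcard, Units.val_one, one_pow]
  refine ⟨χ, ⟨hχirr, hχN, fun h => hR (h.trans hχord), ?_⟩, ?_⟩
  · exact spr_twist hMp N hψ₁sp μ hμI hμ1
  · exact sameBlock_twist hMp hψ₁irr hψ₁B μ hμ1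

/-- Galois conjugates of good extensions are good -/
theorem good_pow [Fintype G] (p : ℕ) [Fact p.Prime] (M : Ideal AlgInt) (hM : IsPModular p M)
    (N : Subgroup G) (θ : N → ℂ) (d : ℕ) (hd : θ 1 = d) (hpd : ¬ p ∣ d) (k : ℕ)
    (hk : k.Coprime (Nat.card G)) (hk1 : k ≡ 1 [MOD ordCompl[p] (Nat.card G)])
    (hθk : ∀ n : N, θ (n ^ k) = θ n) {χ : G → ℂ} (h : Good p M N θ χ) :
    Good p M N θ (fun g => χ (g ^ k)) := by
  have hMp : M.IsPrime := hM.2.1.isPrime
  have hp : p.Prime := Fact.out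
  obtain ⟨hχ, hres, hdet, hsp⟩ := h
  have hχc : IsCharacter G χ := Cfsg.Agent.Lib.Helper82.IsIrrCharacter.isCharacter hχ
  refine ⟨Cfsg.Agent.Lib.Helper80.isIrrCharacter_pow_coprime hχ k hk, ?_, ?_, ?_⟩
  · intro n
    show χ ((n : G) ^ k) = θ n
    have : ((n : G) ^ k) = ((n ^ k : N) : G) := by simp
    rw [this, hres, hθk]
  · intro hdvd
    exact hdet (hdvd.trans (Cfsg.Agent.Lib.Helper84.detOrder_pow_coprime_dvd hχc k hk))
  · intro x hx
    show MemLocalIdeal M (χ (x ^ k) / χ ((1 : G) ^ k) - 1)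
    rw [one_pow]
    have h1 := hsp x hx
    have hχ1 : χ 1 = d := by
      have := hres 1
      rw [hd] at this
      exact this
    have hdI : ¬ MemLocalIdeal M ((d : ℕ) : ℂ) := by
      rw [memLocalIdeal_natCast_iff hM]
      exact hpd
    have hdinv : MemLocalRing M ((d : ℂ))⁻¹ := memLocalRing_inv (memLocalRing_natCast hMp _) hdI
    set v := (Nat.card G).factorization p with hv
    set R := ordCompl[p] (Nat.card G) with hR
    have hfac : p ^ v * R = Nat.card G := Nat.ordProj_mul_ordCompl_eq_self (Nat.card G) p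
    set u : G := x ^ ((k : ℤ) - 1) with hu
    have hux : u * x = x * u := by
      rw [hu, ← zpow_add_one, ← zpow_one_add]
      congr 1
      ring
    have hu' : u * x = x ^ k := by
      rw [hu, ← zpow_add_one, sub_add_cancel, zpow_natCast]
    have hupow : u ^ (p ^ v) = 1 := by
      rw [hu, ← zpow_natCast, ← zpow_mul, ← orderOf_dvd_iff_zpow_eq_one]
      have h2 : (R : ℤ) ∣ (k : ℤ) - 1 := by
        have := (Nat.modEq_iff_dvd.mp hk1.symm)
        simpa using this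
      have h3 : ((orderOf x : ℕ) : ℤ) ∣ ((Nat.card G : ℕ) : ℤ) :=
        Int.natCast_dvd_natCast.mpr (orderOf_dvd_natCard x)
      refine h3.trans ?_
      rw [← hfac]
      push_cast
      rw [mul_comm]
      exact mul_dvd_mul h2 (dvd_refl _)
    obtain ⟨j, -, hj⟩ := (Nat.dvd_prime_pow hp).mp (orderOf_dvd_of_pow_eq_one hupow)
    have h2 := Cfsg.Agent.Lib.Helper22.char_mul_sub_memLocalIdeal hM hχc u x hux j hj
    rw [hu'] at h2
    have e : χ (x ^ k) / χ 1 - 1 = (χ (x ^ k) - χ x) * ((d : ℂ))⁻¹ + (χ x / χ 1 - 1) := by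
      rw [hχ1]
      ring
    rw [e]
    exact memLocalIdeal_add hMp (memLocalIdeal_mul_right hMp h2 hdinv) h1

/-- the orbit sizes are preserved by symmetries -/
theorem orbCard_map (N : Subgroup G) (φ : G ≃* G) (hφN : ∀ g, φ g ∈ N ↔ g ∈ N) (x : G) :
    orbCard N (φ x) = orbCard N x := by
  unfold orbCard
  apply Nat.card_congr
  refine Equiv.subtypeEquiv φ.symm.toEquiv ?_
  intro y
  constructor
  · rintro ⟨n, hn, rfl⟩
    refine ⟨φ.symm n, ?_, ?_⟩
    · rw [← hφN, MulEquiv.apply_symm_apply]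
      exact hn
    · simp
  · rintro ⟨n, hn, h⟩
    refine ⟨φ n, (hφN n).mpr hn, ?_⟩
    have h2 := congrArg φ h
    simp only [MulEquiv.toEquiv_eq_coe, EquivLike.coe_coe, MulEquiv.apply_symm_apply] at h2
    rw [← h2]
    simp

/-- images of good extensions under symmetries are good -/
theorem good_comp [Finite G] (p : ℕ) (M : Ideal AlgInt) (N : Subgroup G) (θ : N → ℂ)
    (φ : G ≃* G) (hφN : ∀ g, φ g ∈ N ↔ g ∈ N)
    (hφθ : ∀ (n : N) (h : φ (n : G) ∈ N), θ ⟨φ (n : G), h⟩ = θ n)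
    {χ : G → ℂ} (h : Good p M N θ χ) : Good p M N θ (fun g => χ (φ g)) := by
  obtain ⟨hχ, hres, hdet, hsp⟩ := h
  have hχc : IsCharacter G χ := Cfsg.Agent.Lib.Helper82.IsIrrCharacter.isCharacter hχ
  refine ⟨Cfsg.Agent.S0173.isIrrCharacter_comp_mulEquiv φ hχ, ?_, ?_, ?_⟩
  · intro n
    have hn : φ (n : G) ∈ N := (hφN n).mpr n.2
    show χ (φ (n : G)) = θ n
    rw [← hφθ n hn, ← hres ⟨φ (n : G), hn⟩]
  · intro hdvd
    apply hdet
    refine hdvd.trans ?_
    have h1 : detChar (fun g => χ (φ g)) = fun g => detChar χ (φ g) :=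
      Cfsg.Agent.Lib.Helper80.detChar_comp_hom φ.toMonoidHom hχc
    unfold detOrder
    apply orderOf_dvd_of_pow_eq_one
    rw [h1]
    funext g
    have h2 : (detChar χ) ^ orderOf (detChar χ) = 1 := pow_orderOf_eq_one _
    have h3 := congrFun h2 (φ g)
    simpa using h3
  · intro x hx
    show MemLocalIdeal M (χ (φ x) / χ (φ 1) - 1)
    rw [map_one]
    exact hsp (φ x) (by rw [orbCard_map N φ hφN x]; exact hx)

end Cfsg.Agent.Lib.Helper05.PRatCore
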