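import Mathlib
import Cfsg.Prelude.Def_Blocks
import Cfsg.Prelude.Def_CharExt
import Cfsg.Agent.Lib.Helper05.ADTower
import Cfsg.Agent.Lib.Helper05.PRat
import Cfsg.Agent.Lib.Helper05.PRatCore
import Cfsg.Agent.Lib.Helper80.DetCanon
import Cfsg.Agent.S0888
import Cfsg.Agent.S0173

/-!
# Extending `p`-rational principal block characters (helper5)

`N ⊴ G`, `D ≤ N` with `p ∤ |N : D|`, `G = N C_G(D)`, `p` odd.  A `G`-invariant `p`-rational
irreducible character of degree prime to `p` in the principal block of `N` extends to `G`.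
-/

set_option autoImplicit false
set_option linter.unusedSectionVars false
set_option linter.unusedVariables false
set_option linter.style.haveILetI false

namespace Cfsg.Agent.Lib.Helper05.PRatExt

open Cfsg Cfsg.Agent.Lib.Helper82 Cfsg.Agent.Lib.Helper05.RelCent
open Cfsg.Agent.Lib.Helper05.ADTower Cfsg.Agent.Lib.Helper05.PRat

universe u

/-- the standing hypotheses: `D ≤ N`, `p ∤ |N : D|`, `G = N C_G(D)` -/
def Hyp' (p : ℕ) {G : Type*} [Group G] (N D : Subgroup G) : Prop :=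
  D ≤ N ∧ ¬ p ∣ D.relIndex N ∧ N ⊔ Subgroup.centralizer (D : Set G) = ⊤

section Basic

variable {G : Type*} [Group G] {p : ℕ}

/-- Dedekind: inside `H` with `N ≤ H ≤ N C_G(D)` one has `H = N C_H(D)` -/
theorem sup_centralizer_subgroupOf (N D H : Subgroup G) [N.Normal] (hNH : N ≤ H)
    (hH : H ≤ N ⊔ Subgroup.centralizer (D : Set G)) :
    N.subgroupOf H ⊔ Subgroup.centralizer ((D.subgroupOf H : Subgroup H) : Set H) = ⊤ := by
  rw [eq_top_iff]
  intro y _
  have hy : (y : G) ∈ N ⊔ Subgroup.centralizer (D : Set G) := hH y.2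
  rw [← SetLike.mem_coe, Subgroup.normal_mul] at hy
  obtain ⟨n, hn, c, hc, hnc⟩ := Set.mem_mul.mp hy
  have hcH : c ∈ H := by
    have : c = n⁻¹ * (y : G) := by rw [← hnc]; group
    rw [this]
    exact H.mul_mem (H.inv_mem (hNH hn)) y.2
  have e : y = (⟨n, hNH hn⟩ : H) * ⟨c, hcH⟩ := Subtype.ext hnc.symm
  rw [e]
  apply Subgroup.mul_mem_sup
  · exact Subgroup.mem_subgroupOf.mpr hn
  · rw [Subgroup.mem_centralizer_iff]
    intro d hd
    apply Subtype.ext
    exact Subgroup.mem_centralizer_iff.mp hc (d : G) (Subgroup.mem_subgroupOf.mp hd)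

/-- the hypotheses hold inside `N C_G(D)` as soon as `D ≤ N` and `p ∤ |N : D|` -/
theorem hyp'_subgroupOf (N D H : Subgroup G) [N.Normal] (hDN : D ≤ N)
    (hrel : ¬ p ∣ D.relIndex N) (hNH : N ≤ H)
    (hH : H ≤ N ⊔ Subgroup.centralizer (D : Set G)) :
    Hyp' p (N.subgroupOf H) (D.subgroupOf H) := by
  refine ⟨Subgroup.subgroupOf_mono H hDN, ?_, sup_centralizer_subgroupOf N D H hNH hH⟩
  rw [Subgroup.relIndex_subgroupOf hNH]
  exact hrel

theorem Hyp'.sub {N D : Subgroup G} [N.Normal] (h : Hyp' p N D) (H : Subgroup G) (hNH : N ≤ H) :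
    Hyp' p (N.subgroupOf H) (D.subgroupOf H) := by
  refine ⟨Subgroup.subgroupOf_mono H h.1, ?_, ?_⟩
  · rw [Subgroup.relIndex_subgroupOf hNH]
    exact h.2.1
  · rw [eq_top_iff]
    intro y _
    have hy : (y : G) ∈ N ⊔ Subgroup.centralizer (D : Set G) := by rw [h.2.2]; trivial
    rw [← SetLike.mem_coe, Subgroup.normal_mul] at hy
    obtain ⟨n, hn, c, hc, hnc⟩ := Set.mem_mul.mp hy
    have hcH : c ∈ H := by
      have : c = n⁻¹ * (y : G) := by rw [← hnc]; group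
      rw [this]
      exact H.mul_mem (H.inv_mem (hNH hn)) y.2
    have e : y = (⟨n, hNH hn⟩ : H) * ⟨c, hcH⟩ := Subtype.ext hnc.symm
    rw [e]
    apply Subgroup.mul_mem_sup
    · exact Subgroup.mem_subgroupOf.mpr hn
    · rw [Subgroup.mem_centralizer_iff]
      intro d hd
      apply Subtype.ext
      exact Subgroup.mem_centralizer_iff.mp hc (d : G) (Subgroup.mem_subgroupOf.mp hd)

theorem Hyp'.toHyp [Fact p.Prime] {N D : Subgroup G} (h : Hyp' p N D) (hidx : ¬ p ∣ N.index) :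
    Hyp p N D := by
  have hp : p.Prime := Fact.out
  refine ⟨h.1, ?_, h.2.2⟩
  rw [← Subgroup.relIndex_mul_index h.1]
  intro hdvd
  rcases (Nat.Prime.dvd_mul hp).mp hdvd with h1 | h1
  · exact h.2.1 h1
  · exact hidx h1

theorem Hyp'.not_dvd_orbCard {N D : Subgroup G} (h : Hyp' p N D) {g : G}
    (hg : g ∈ Subgroup.centralizer (D : Set G)) : ¬ p ∣ orbCard N g := by
  rw [orbCard_eq_relIndex]
  intro hdvd
  apply h.2.1
  have hle : D ≤ Subgroup.centralizer ({g} : Set G) := by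
    intro d hd
    rw [Subgroup.mem_centralizer_singleton_iff]
    exact Subgroup.mem_centralizer_iff.mp hg d hd
  exact hdvd.trans (Subgroup.relIndex_dvd_of_le_left N hle)

end Basic

/-- a `G`-invariant `p`-rational character of degree prime to `p` in the principal block of `N`
extends to `G` -/
theorem exists_extension {G : Type u} [Group G] [Finite G] (p : ℕ) [Fact p.Prime] (hp2 : p ≠ 2)
    (M : Ideal AlgInt) (hM : IsPModular p M) (N : Subgroup G) [hN : N.Normal] (D : Subgroup G)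
    (h : Hyp' p N D) (θ : IrrCharacter N) (hθ : θ ∈ principalBlock M N)
    (hinv : ∀ (g : G) (n : N),
      (θ : N → ℂ) ⟨g * n * g⁻¹, hN.conj_mem (n : G) n.2 g⟩ = (θ : N → ℂ) n)
    (d : ℕ) (hd : (θ : N → ℂ) 1 = d) (hpd : ¬ p ∣ d) (hpr : PR p (θ : N → ℂ)) :
    ∃ ψ : G → ℂ, IsIrrCharacter G ψ ∧ ∀ n : N, ψ n = (θ : N → ℂ) n := by
  have hp : p.Prime := Fact.out
  have hsyl : ∀ q : ℕ, q.Prime → ∃ (Q : Subgroup G) (hNQ : N ≤ Q) (η : Q → ℂ),
      Nat.Coprime Q.index q ∧ (∃ k : ℕ, N.relIndex Q = q ^ k) ∧ IsIrrCharacter Q η ∧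
        ∀ n : N, η ⟨(n : G), hNQ n.2⟩ = (θ : N → ℂ) n := by
    intro q hq
    haveI : Fact q.Prime := ⟨hq⟩
    obtain ⟨S⟩ : Nonempty (Sylow q (G ⧸ N)) := inferInstance
    set Q : Subgroup G := (S : Subgroup (G ⧸ N)).comap (QuotientGroup.mk' N) with hQ
    have hNQ : N ≤ Q := by
      intro n hn
      rw [hQ, Subgroup.mem_comap, QuotientGroup.mk'_apply, (QuotientGroup.eq_one_iff n).mpr hn]
      exact Subgroup.one_mem _
    have hQidx : Q.index = (S : Subgroup (G ⧸ N)).index :=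
      Subgroup.index_comap_of_surjective _ (QuotientGroup.mk'_surjective N)
    have hnd : ¬ q ∣ Q.index := by rw [hQidx]; exact S.not_dvd_index
    obtain ⟨k, hk⟩ := IsPGroup.iff_card.mp S.2
    have hrel : N.relIndex Q = q ^ k := by
      have h1 := Subgroup.relIndex_mul_index hNQ
      have h2 := (S : Subgroup (G ⧸ N)).card_mul_index
      have h3 : N.index = Nat.card (G ⧸ N) := rfl
      rw [hQidx, h3, ← h2, hk] at h1
      exact Nat.eq_of_mul_eq_mul_right (Nat.pos_of_ne_zero Subgroup.index_ne_zero_of_finite) h1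
    by_cases hqp : q = p
    · -- the `p`-part: the canonical extension
      set e : N.subgroupOf Q ≃* N := Subgroup.subgroupOfEquivOfLe hNQ with he
      set θ₁ : N.subgroupOf Q → ℂ := fun n₁ => (θ : N → ℂ) (e n₁) with hθ₁
      have hθ₁irr : IsIrrCharacter (N.subgroupOf Q) θ₁ :=
        Cfsg.Agent.S0173.isIrrCharacter_comp_mulEquiv e θ.2
      have hθ₁c : IsCharacter (N.subgroupOf Q) θ₁ :=
        Cfsg.Agent.Lib.Helper82.IsIrrCharacter.isCharacter hθ₁irr
      have hpr₁ : PR p θ₁ := pr_comp_mulEquiv p e hpr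
      have hdet₁ : ¬ p ∣ detOrder θ₁ := not_dvd_detOrder_of_pr p hp2 hθ₁c hpr₁
      have hd₁ : θ₁ 1 = d := by
        show (θ : N → ℂ) (e 1) = d
        rw [map_one, hd]
      have hinv₁ : ∀ (g : Q) (n : N.subgroupOf Q),
          θ₁ ⟨g * n * g⁻¹, (inferInstance : (N.subgroupOf Q).Normal).conj_mem (n : Q) n.2 g⟩
            = θ₁ n := by
        intro g n
        show (θ : N → ℂ) (e _) = (θ : N → ℂ) (e n)
        rw [← hinv (g : G) (e n)]
        congr 1
      have hcop : Nat.Coprime (N.subgroupOf Q).index (detOrder θ₁ * d) := by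
        have h1 : (N.subgroupOf Q).index = q ^ k := hrel
        rw [h1, hqp]
        apply Nat.Coprime.pow_left
        rw [Nat.Prime.coprime_iff_not_dvd hp]
        intro hdvd
        rcases (Nat.Prime.dvd_mul hp).mp hdvd with h2 | h2
        · exact hdet₁ h2
        · exact hpd h2
      obtain ⟨χ, ⟨hχ, hχres, -⟩, -⟩ := Cfsg.Agent.Lib.Helper80.exists_canonical_ext
        (N.subgroupOf Q) θ₁ hθ₁irr hinv₁ d hd₁ hcop
      refine ⟨Q, hNQ, χ, ((Nat.Prime.coprime_iff_not_dvd hq).mpr hnd).symm, ⟨k, hrel⟩, hχ, ?_⟩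
      intro n
      have h1 := hχres ⟨⟨n, hNQ n.2⟩, Subgroup.mem_subgroupOf.mpr n.2⟩
      rw [h1]
      show (θ : N → ℂ) (e _) = (θ : N → ℂ) n
      congr 1
    · -- the `p'`-part: the tower
      have hH' : Hyp' p (N.subgroupOf Q) (D.subgroupOf Q) := h.sub Q hNQ
      have hidxQ : ¬ p ∣ (N.subgroupOf Q).index := by
        have h1 : (N.subgroupOf Q).index = q ^ k := hrel
        rw [h1]
        intro hdvd
        have := (Nat.prime_dvd_prime_iff_eq hp hq).mp (hp.dvd_of_dvd_pow hdvd)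
        exact hqp this.symm
      have hE : ExtProp M (N.subgroupOf Q) :=
        tower p M hM q k ↥Q (N.subgroupOf Q) hrel (D.subgroupOf Q) (hH'.toHyp hidxQ)
      obtain ⟨χ, hχ, hχeq⟩ := extProp_sub hNQ hE θ hθ
      exact ⟨Q, hNQ, (χ : Q → ℂ), ((Nat.Prime.coprime_iff_not_dvd hq).mpr hnd).symm, ⟨k, hrel⟩,
        χ.2, hχeq⟩
  exact Cfsg.Agent.S0888.result N (θ : N → ℂ) θ.2 hinv hsyl

/-- **The canonical `p`-rational extension in the principal block**, when `G = N C_G(D)`. -/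
theorem middle {G : Type u} [Group G] [Finite G] (p : ℕ) [Fact p.Prime] (hp2 : p ≠ 2)
    (M : Ideal AlgInt) (hM : IsPModular p M) (N : Subgroup G) [hN : N.Normal] (D : Subgroup G)
    (h : Hyp' p N D) (θ : IrrCharacter N) (hθ : θ ∈ principalBlock M N)
    (hinv : ∀ (g : G) (n : N),
      (θ : N → ℂ) ⟨g * n * g⁻¹, hN.conj_mem (n : G) n.2 g⟩ = (θ : N → ℂ) n)
    (d : ℕ) (hd : (θ : N → ℂ) 1 = d) (hpd : ¬ p ∣ d) (hpr : PR p (θ : N → ℂ)) :
    ∃ χ₀ : G → ℂ, IsIrrCharacter G χ₀ ∧ (∀ n : N, χ₀ n = (θ : N → ℂ) n) ∧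
      SameBlock M (fun _ : G => (1 : ℂ)) χ₀ ∧ ¬ p ∣ detOrder χ₀ ∧ PR p χ₀ ∧
      ∀ φ : G ≃* G, (∀ g, φ g ∈ N ↔ g ∈ N) →
        (∀ (n : N) (hn : φ (n : G) ∈ N), (θ : N → ℂ) ⟨φ (n : G), hn⟩ = (θ : N → ℂ) n) →
        ∀ g, χ₀ (φ g) = χ₀ g := by
  classical
  haveI : Fintype G := Fintype.ofFinite G
  have hθc : IsCharacter N (θ : N → ℂ) := Cfsg.Agent.Lib.Helper82.IsIrrCharacter.isCharacter θ.2
  have hdet : ¬ p ∣ detOrder (θ : N → ℂ) := not_dvd_detOrder_of_pr p hp2 hθc hpr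
  have hext := exists_extension p hp2 M hM N D h θ hθ hinv d hd hpd hpr
  have hCp : ∀ g ∈ Subgroup.centralizer (D : Set G), ¬ p ∣ orbCard N g :=
    fun g hg => h.not_dvd_orbCard hg
  obtain ⟨χ₀, hgood, hB⟩ := Cfsg.Agent.Lib.Helper05.PRatCore.exists_good p M hM N
    (Subgroup.centralizer (D : Set G)) h.2.2 hCp (θ : N → ℂ) θ.2 hθ d hd hpd hdet hext
  refine ⟨χ₀, hgood.1, hgood.2.1, hB, hgood.2.2.1, ?_, ?_⟩
  · intro k hk hk1 g
    obtain ⟨hk', hk1'⟩ := exp_sub p N hk hk1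
    have h1 := Cfsg.Agent.Lib.Helper05.PRatCore.good_pow p M hM N (θ : N → ℂ) d hd hpd k hk hk1
      (hpr k hk' hk1') hgood
    have h2 := Cfsg.Agent.Lib.Helper05.PRatCore.good_unique p M hM N
      (Subgroup.centralizer (D : Set G)) h.2.2 hCp (θ : N → ℂ) θ.2 d hd hpd hgood h1
    exact congrFun h2 g
  · intro φ hφN hφθ g
    have h1 := Cfsg.Agent.Lib.Helper05.PRatCore.good_comp p M N (θ : N → ℂ) φ hφN hφθ hgood
    have h2 := Cfsg.Agent.Lib.Helper05.PRatCore.good_unique p M hM N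
      (Subgroup.centralizer (D : Set G)) h.2.2 hCp (θ : N → ℂ) θ.2 d hd hpd hgood h1
    exact congrFun h2 g

end Cfsg.Agent.Lib.Helper05.PRatExt
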