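import Mathlib
import Cfsg.Prelude.Def_Characters
import Cfsg.Prelude.Def_Blocks
import Cfsg.Agent.Lib.Helper05.BrauerInduction
import Cfsg.Agent.Lib.Helper01.Hall
import Cfsg.Agent.Lib.Helper14.NilpHall
import Cfsg.Agent.Lib.Helper83.Completeness
import Cfsg.Agent.Lib.Helper34.Induction
import Cfsg.Agent.Lib.Helper34.LinChar

/-!
# The indicator of a `π'`-section is an `AlgInt`-combination of irreducible characters (helper5)

For `|G| = m * n` with `m`, `n` coprime, pick `t` with `m ∣ t` and `t ≡ 1 [MOD n]`; then `x ^ t`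
is the `π(n)`-part of `x`.  The class function `x ↦ n · [x ^ t ∼ g]` has algebraic-integer
inner products with all irreducible characters (Brauer induction + Hall decomposition of
nilpotent subgroups).
-/

set_option autoImplicit false

namespace Cfsg.Agent.Lib.Helper05

open Cfsg
open scoped ComplexConjugate

universe u

/-- CRT exponent. -/
theorem exists_crt_exp {m n : ℕ} (h : m.Coprime n) : ∃ t : ℕ, m ∣ t ∧ t ≡ 1 [MOD n] := by
  obtain ⟨k, hk0, hk1⟩ := Nat.chineseRemainder h 0 1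
  exact ⟨k, (Nat.modEq_zero_iff_dvd).mp hk0, hk1⟩

section Part

variable {G : Type u} [Group G]

/-- The `t`-th power picks out the `n`-part of a commuting coprime decomposition. -/
theorem pow_crt_eq_of_decomp {m n t : ℕ} (hmn : Nat.card G = m * n)
    (ht0 : m ∣ t) (ht1 : t ≡ 1 [MOD n]) {u v : G} (huv : Commute u v)
    (hu : (orderOf u).Coprime n) (hv : (orderOf v).Coprime m) : (u * v) ^ t = v := by
  have hu1 : orderOf u ∣ m := by
    have h1 : orderOf u ∣ m * n := hmn ▸ orderOf_dvd_natCard u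
    exact hu.dvd_of_dvd_mul_right h1
  have hv1 : orderOf v ∣ n := by
    have h1 : orderOf v ∣ m * n := hmn ▸ orderOf_dvd_natCard v
    exact hv.dvd_of_dvd_mul_left h1
  have h2 : u ^ t = 1 := orderOf_dvd_iff_pow_eq_one.mp (hu1.trans ht0)
  have h3 : v ^ t = v ^ 1 := pow_eq_pow_iff_modEq.mpr (ht1.of_dvd hv1)
  rw [huv.mul_pow, h2, h3, one_mul, pow_one]

/-- Every element has a decomposition, with `π(n)`-part `x ^ t`. -/
theorem exists_decomp_pow_crt {m n t : ℕ} (hmn : Nat.card G = m * n)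
    (ht0 : m ∣ t) (ht1 : t ≡ 1 [MOD n]) (hcop : m.Coprime n) (x : G) :
    ∃ u : G, x = u * x ^ t ∧ Commute u (x ^ t) ∧ (orderOf u).Coprime n ∧
      (orderOf (x ^ t)).Coprime m := by
  refine ⟨x * (x ^ t)⁻¹, by group, ?_, ?_, ?_⟩
  · have h1 : Commute x (x ^ t) := (Commute.refl x).pow_right t
    exact h1.mul_left (Commute.refl (x ^ t)).inv_left
  · have hcomm : Commute x ((x ^ t)⁻¹) := ((Commute.refl x).pow_right t).inv_right
    have h1 : (x * (x ^ t)⁻¹) ^ m = 1 := by
      rw [hcomm.mul_pow, inv_pow, ← pow_mul, mul_inv_eq_one]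
      apply pow_eq_pow_iff_modEq.mpr
      have h2 : m * 1 ≡ m * t [MOD m * n] := (ht1.symm.mul_left' m)
      have h3 : orderOf x ∣ m * n := hmn ▸ orderOf_dvd_natCard x
      have h4 := h2.of_dvd h3
      rw [mul_one, mul_comm m t] at h4
      exact h4
    exact Nat.Coprime.coprime_dvd_left (orderOf_dvd_of_pow_eq_one h1) hcop
  · have h1 : (x ^ t) ^ n = 1 := by
      rw [← pow_mul]
      apply orderOf_dvd_iff_pow_eq_one.mp
      have h3 : orderOf x ∣ m * n := hmn ▸ orderOf_dvd_natCard x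
      exact h3.trans (Nat.mul_dvd_mul_right ht0 n)
    exact Nat.Coprime.coprime_dvd_left (orderOf_dvd_of_pow_eq_one h1) hcop.symm

/-- The statement's description of the section indicator, in closed form. -/
theorem piSection_iff {m n t : ℕ} (hmn : Nat.card G = m * n) (hcop : m.Coprime n)
    (ht0 : m ∣ t) (ht1 : t ≡ 1 [MOD n]) (g x : G) :
    (∃ v : G, IsConj v g ∧ (∃ u : G, x = u * v ∧ Commute u v ∧ Nat.Coprime (orderOf u) n ∧
      Nat.Coprime (orderOf v) m)) ↔ IsConj (x ^ t) g := by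
  constructor
  · rintro ⟨v, hvg, u, rfl, huv, hu, hv⟩
    rw [pow_crt_eq_of_decomp hmn ht0 ht1 huv hu hv]
    exact hvg
  · intro h
    obtain ⟨u, h1, h2, h3, h4⟩ := exists_decomp_pow_crt hmn ht0 ht1 hcop x
    exact ⟨x ^ t, h, u, h1, h2, h3, h4⟩

end Part


section Nilp

/-- Hall decomposition of a finite nilpotent group relative to coprime `m`, `n`. -/
theorem exists_hall_pair {E : Type u} [Group E] [Finite E] [Group.IsNilpotent E] {m n : ℕ}
    (hcop : m.Coprime n) (hE : Nat.card E ∣ m * n) :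
    ∃ A B : Subgroup E, Nat.card A ∣ m ∧ Nat.card B ∣ n ∧
      Nat.card A * Nat.card B = Nat.card E ∧ (∀ u ∈ A, ∀ v ∈ B, Commute u v) ∧
      Function.Bijective (fun p : A × B => (p.1 : E) * (p.2 : E)) := by
  have hab : Nat.card E = Nat.gcd (Nat.card E) m * Nat.gcd (Nat.card E) n := by
    rw [← Nat.Coprime.gcd_mul _ hcop, Nat.gcd_eq_left hE]
  have hcopab : (Nat.gcd (Nat.card E) m).Coprime (Nat.gcd (Nat.card E) n) :=
    Nat.Coprime.coprime_dvd_left (Nat.gcd_dvd_right _ _)
      (Nat.Coprime.coprime_dvd_right (Nat.gcd_dvd_right _ _) hcop)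
  obtain ⟨⟨A, hA⟩, -, -⟩ := Cfsg.Agent.Lib.Helper01.hallProp (G := E) _ _ hab hcopab
  obtain ⟨⟨B, hB⟩, -, -⟩ := Cfsg.Agent.Lib.Helper01.hallProp (G := E) _ _
    (by rw [mul_comm]; exact hab) hcopab.symm
  have hcopAB : (Nat.card A).Coprime (Nat.card B) := by rw [hA, hB]; exact hcopab
  refine ⟨A, B, hA ▸ Nat.gcd_dvd_right _ _, hB ▸ Nat.gcd_dvd_right _ _, ?_, ?_, ?_⟩
  · rw [hA, hB, ← hab]
  · intro u hu v hv
    apply Cfsg.Agent.Lib.Helper14.commute_of_coprime_orderOf E u v
    exact Nat.Coprime.coprime_dvd_left (Subgroup.orderOf_dvd_natCard A hu)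
      (Nat.Coprime.coprime_dvd_right (Subgroup.orderOf_dvd_natCard B hv) hcopAB)
  · apply Function.Injective.bijective_of_nat_card_le
    · rintro ⟨u, v⟩ ⟨u', v'⟩ h
      simp only at h
      have h1 : (u' : E)⁻¹ * u = v' * (v : E)⁻¹ := by
        have : (u : E) = u' * v' * (v : E)⁻¹ := by rw [← h]; group
        rw [this]; group
      have h2 : (u' : E)⁻¹ * u ∈ A ⊓ B := by
        refine ⟨A.mul_mem (A.inv_mem u'.2) u.2, ?_⟩
        rw [h1]
        exact B.mul_mem v'.2 (B.inv_mem v.2)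
      rw [(Subgroup.disjoint_of_coprime_natCard hcopAB).eq_bot, Subgroup.mem_bot] at h2
      have h3 : (u : E) = u' := by
        have := inv_mul_eq_one.mp h2
        exact this.symm
      have h4 : (v : E) = v' := by
        rw [h3] at h
        exact mul_left_cancel h
      exact Prod.ext (Subtype.ext h3) (Subtype.ext h4)
    · rw [Nat.card_prod, hA, hB, ← hab]

variable {G : Type u} [Group G] [Fintype G]

theorem classInner_piSection_mem_algInt {m n t : ℕ} (hmn : Nat.card G = m * n)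
    (hcop : m.Coprime n) (ht0 : m ∣ t) (ht1 : t ≡ 1 [MOD n]) (g : G) (E : Subgroup G)
    [Fintype E] (hE : Group.IsNilpotent E) (lam : E →* ℂˣ) (f : G → ℂ)
    (hf1 : ∀ x, IsConj (x ^ t) g → f x = n) (hf0 : ∀ x, ¬ IsConj (x ^ t) g → f x = 0) :
    Cfsg.classInner (fun e : E => f e) (fun e => (lam e : ℂ)) ∈ Cfsg.AlgInt := by
  classical
  have hf : ∀ x, f x = if IsConj (x ^ t) g then (n : ℂ) else 0 := by
    intro x
    split_ifs with h
    · exact hf1 x h
    · exact hf0 x h
  obtain ⟨A, B, hA, hB, hAB, hcomm, hbij⟩ := exists_hall_pair (E := E) hcop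
    (hmn ▸ Subgroup.card_subgroup_dvd_card E)
  haveI : Fintype A := Fintype.ofFinite A
  haveI : Fintype B := Fintype.ofFinite B
  obtain ⟨μ, hμ⟩ : ∃ μ : E →* ℂˣ, μ = lam⁻¹ := ⟨_, rfl⟩
  have hconj : ∀ e : E, conj (lam e : ℂ) = (μ e : ℂ) := fun e => by
    rw [hμ]; exact Cfsg.Agent.Lib.Helper34.conj_linChar lam e
  have hval : ∀ (u : A) (v : B), (((u : E) * (v : E) : E) : G) ^ t = ((v : E) : G) := by
    intro u v
    rw [Subgroup.coe_mul]
    apply pow_crt_eq_of_decomp hmn ht0 ht1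
    · exact congrArg Subtype.val (hcomm u u.2 v v.2).eq
    · rw [Subgroup.orderOf_coe, Subgroup.orderOf_coe]
      exact Nat.Coprime.coprime_dvd_left ((orderOf_dvd_natCard u).trans hA) hcop
    · rw [Subgroup.orderOf_coe, Subgroup.orderOf_coe]
      exact Nat.Coprime.coprime_dvd_left ((orderOf_dvd_natCard v).trans hB) hcop.symm
  have hsum : ∑ e : E, f e * conj (lam e : ℂ)
      = (n : ℂ) * (∑ u : A, (μ u : ℂ)) *
        ∑ v : B, if IsConj (((v : E) : G)) g then (μ v : ℂ) else 0 := by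
    rw [← Equiv.sum_comp (Equiv.ofBijective _ hbij), Fintype.sum_prod_type]
    simp only [hf, Equiv.ofBijective_apply, hval, hconj, map_mul, Units.val_mul]
    calc ∑ u : A, ∑ v : B, (if IsConj (((v : E) : G)) g then (n : ℂ) else 0) *
            ((μ u : ℂ) * (μ v : ℂ))
        = ∑ u : A, ∑ v : B, ((n : ℂ) * (μ u : ℂ)) *
            (if IsConj (((v : E) : G)) g then (μ v : ℂ) else 0) := by
          refine Finset.sum_congr rfl fun u _ => Finset.sum_congr rfl fun v _ => ?_
          split_ifs <;> ring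
      _ = ∑ u : A, ((n : ℂ) * (μ u : ℂ)) *
            ∑ v : B, (if IsConj (((v : E) : G)) g then (μ v : ℂ) else 0) := by
          simp_rw [Finset.mul_sum]
      _ = _ := by rw [← Finset.sum_mul, ← Finset.mul_sum]
  have hS : (∑ v : B, if IsConj (((v : E) : G)) g then (μ v : ℂ) else 0) ∈ Cfsg.AlgInt := by
    apply Subalgebra.sum_mem
    intro v _
    split_ifs
    · have h1 : ((μ v : ℂˣ) : ℂ) ^ Nat.card E = 1 := by
        rw [← Units.val_pow_eq_pow_val, ← map_pow, pow_card_eq_one', map_one, Units.val_one]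
      have h2 : IsIntegral ℤ (((μ v : ℂˣ) : ℂ) ^ Nat.card E) := by rw [h1]; exact isIntegral_one
      exact IsIntegral.of_pow Nat.card_pos h2
    · exact Subalgebra.zero_mem _
  have hAsum : ∑ u : A, (μ u : ℂ) = if μ.comp A.subtype = 1 then (Nat.card A : ℂ) else 0 :=
    Cfsg.Agent.Lib.Helper34.sum_linChar (μ.comp A.subtype)
  obtain ⟨k, hk⟩ := hB
  have hA0 : (Nat.card A : ℂ) ≠ 0 := by exact_mod_cast Nat.card_pos.ne'
  have hB0 : (Nat.card B : ℂ) ≠ 0 := by exact_mod_cast Nat.card_pos.ne'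
  have hEc : (Nat.card E : ℂ) = (Nat.card A : ℂ) * (Nat.card B : ℂ) := by
    rw [← hAB]; push_cast; rfl
  rw [Cfsg.classInner, hsum, hAsum, hEc, hk]
  push_cast
  split_ifs
  · have : ((Nat.card A : ℂ) * (Nat.card B : ℂ))⁻¹ * ((Nat.card B : ℂ) * (k : ℂ) * (Nat.card A : ℂ) *
        ∑ v : B, if IsConj (((v : E) : G)) g then (μ v : ℂ) else 0)
        = (k : ℂ) * ∑ v : B, if IsConj (((v : E) : G)) g then (μ v : ℂ) else 0 := by
      field_simp
    rw [this]
    exact Subalgebra.mul_mem _ (natCast_mem _ k) hS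
  · simp

theorem isClassFunction_piSection {t : ℕ} (g : G) (f : G → ℂ) {c : ℂ}
    (hf1 : ∀ x, IsConj (x ^ t) g → f x = c) (hf0 : ∀ x, ¬ IsConj (x ^ t) g → f x = 0) :
    Cfsg.IsClassFunction G f := by
  intro x h
  have h1 : IsConj ((h * x * h⁻¹) ^ t) g ↔ IsConj (x ^ t) g := by
    rw [conj_pow]
    constructor
    · intro h2
      exact (isConj_iff.mpr ⟨h, rfl⟩ : IsConj (x ^ t) (h * x ^ t * h⁻¹)).trans h2
    · intro h2
      exact (isConj_iff.mpr ⟨h, rfl⟩ : IsConj (x ^ t) (h * x ^ t * h⁻¹)).symm.trans h2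
  by_cases h2 : IsConj (x ^ t) g
  · rw [hf1 x h2, hf1 _ (h1.mpr h2)]
  · rw [hf0 x h2, hf0 _ (fun h3 => h2 (h1.mp h3))]

/-- The inner product of the section indicator with any character is an algebraic integer. -/
theorem classInner_piSection_char_mem_algInt {m n t : ℕ} (hmn : Nat.card G = m * n)
    (hcop : m.Coprime n) (ht0 : m ∣ t) (ht1 : t ≡ 1 [MOD n]) (g : G) (f : G → ℂ)
    (hf1 : ∀ x, IsConj (x ^ t) g → f x = n) (hf0 : ∀ x, ¬ IsConj (x ^ t) g → f x = 0)
    {χ : G → ℂ} (hχ : Cfsg.IsCharacter G χ) :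
    Cfsg.classInner f χ ∈ Cfsg.AlgInt := by
  classical
  haveI : Fintype (Subgroup G) := Fintype.ofFinite _
  have hcf := isClassFunction_piSection g f hf1 hf0
  obtain ⟨l, hl, rfl⟩ := linSpan_of_isCharacter hχ
  clear hχ
  induction l with
  | nil =>
    simp only [List.map_nil, List.sum_nil, classInner_zero_right]
    exact Subalgebra.zero_mem _
  | cons a l ih =>
    rw [List.map_cons, List.sum_cons, classInner_add_right]
    refine Subalgebra.add_mem _ ?_ (ih fun t ht => hl t (List.mem_cons_of_mem a ht))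
    obtain ⟨p, hp, hE⟩ := hl a List.mem_cons_self
    haveI : Fintype a.1 := Fintype.ofFinite _
    rw [classInner_smul_right, Cfsg.Agent.Lib.Helper34.classInner_indFun_right _ _ _ hcf]
    refine Subalgebra.mul_mem _ ?_ ?_
    · rw [map_intCast]
      exact intCast_mem _ _
    · exact classInner_piSection_mem_algInt hmn hcop ht0 ht1 g a.1
        (isNilpotent_of_isElementary hp hE) a.2.1 f hf1 hf0

/-- The section indicator is an `AlgInt`-combination of the irreducible characters. -/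
theorem piSection_eq_sum_irr {m n t : ℕ} (hmn : Nat.card G = m * n)
    (hcop : m.Coprime n) (ht0 : m ∣ t) (ht1 : t ≡ 1 [MOD n]) (g : G) (f : G → ℂ)
    (hf1 : ∀ x, IsConj (x ^ t) g → f x = n) (hf0 : ∀ x, ¬ IsConj (x ^ t) g → f x = 0)
    [Fintype (Cfsg.IrrCharacter G)] :
    (∀ χ : Cfsg.IrrCharacter G, Cfsg.classInner f (χ : G → ℂ) ∈ Cfsg.AlgInt) ∧
      f = ∑ χ : Cfsg.IrrCharacter G, Cfsg.classInner f (χ : G → ℂ) • (χ : G → ℂ) :=
  ⟨fun χ => classInner_piSection_char_mem_algInt hmn hcop ht0 ht1 g f hf1 hf0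
      (IsIrrCharacter.isCharacter χ.2),
    Cfsg.Agent.Lib.Helper83.classFunction_eq_sum_irr (isClassFunction_piSection g f hf1 hf0)⟩

end Nilp

end Cfsg.Agent.Lib.Helper05
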