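import Mathlib

/-!
# K-PrnA-NS (222210): if no nontrivial odd-order element normalises the Sylow 2-subgroup `P`
then `N(P) = P`.
-/

set_option autoImplicit false

namespace Cfsg.Agent.Lib.Helper05.PrnA

theorem normalizer_sylow_two_of_odd {G : Type*} [Group G] [Finite G] (P : Sylow 2 G)
    (hmain : ∀ g ∈ Subgroup.normalizer ((P : Subgroup G) : Set G), Odd (orderOf g) → g = 1) :
    Subgroup.normalizer ((P : Subgroup G) : Set G) = P := by
  apply P.is_maximal' _ Subgroup.le_normalizer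
  intro g
  obtain ⟨g, hg⟩ := g
  have hpos : orderOf g ≠ 0 := (orderOf_pos g).ne'
  obtain ⟨k, m, hm, hkm⟩ := Nat.exists_eq_two_pow_mul_odd hpos
  refine ⟨k, ?_⟩
  apply Subtype.ext
  show g ^ 2 ^ k = 1
  apply hmain _ (Subgroup.pow_mem _ hg _)
  have hdvd : 2 ^ k ∣ orderOf g := ⟨m, hkm⟩
  rw [orderOf_pow_of_dvd (pow_ne_zero _ (by norm_num)) hdvd, hkm,
    Nat.mul_div_cancel_left _ (pow_pos (by norm_num) _)]
  exact hm

end Cfsg.Agent.Lib.Helper05.PrnA
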