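import Mathlib
import Cfsg.Agent.Lib.Helper73.RUDefs
import Cfsg.Agent.Lib.Helper73.RUHub

set_option autoImplicit false

/-!
# S2279, general `q`: the vectors `c_k = a^k e_last` and the `g_j`-step (hypothesis `h4` of `sk_eq_top`)

`cvec m F k = aMat ^ k *ᵥ e_last` has entries `C(k, last - i)`; `brow m F r` is the row `e_0 a^{-r}`
(entries `(-1)^i C(r+i-1, i)`), introduced without inverses: `brow (r+k) ᵥ* aMat^k = brow r`, `brow 0 = e_0`.
If `G ∋ a` and `G ∋ 1 + l e_last e_0ᵀ` then `G ∋ g_j = 1 + l c_j (brow j)`, which fixes `e_0ᵀ` for `j ≤ last - 1`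
and maps `c_i` to `c_i + l (brow j ⬝ c_i) c_j`, `brow j ⬝ c_i = ± C(n + (j-i) - 2, n - 1)`.
-/

namespace Cfsg.Agent.Lib.Helper05.RU5

open Matrix Cfsg.Agent.Lib.Helper73.RU Cfsg.Agent.Lib.Helper73.RUSpec

section defs
variable (m : ℕ) (F : Type*) [Field F]

/-- `c_k = a^k e_last` -/
def cvec (k : ℕ) : Fin (m + 3) → F := (aMat m F ^ k) *ᵥ (Pi.single (Fin.last (m + 2)) 1)

/-- the row `e_0 a^{-r}` -/
def brow (r : ℕ) : Fin (m + 3) → F :=
  fun i => (-1) ^ i.val * ((Nat.choose (r + i.val - 1) i.val : ℕ) : F)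

end defs

variable {m : ℕ} {F : Type*} [Field F]

theorem g5_aMat_mulVec_apply (v : Fin (m + 3) → F) (i : Fin (m + 3)) :
    (aMat m F *ᵥ v) i = v i + (if h : i.val + 1 < m + 3 then v ⟨i.val + 1, h⟩ else 0) := by
  unfold aMat
  simp only [mulVec, dotProduct, of_apply]
  have h1 : ∀ j : Fin (m + 3), (if i = j ∨ i.val + 1 = j.val then (1 : F) else 0) * v j =
      (if i = j then v j else 0) + (if i.val + 1 = j.val then v j else 0) := by
    intro j
    by_cases h : i = j
    · subst h
      simp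
    · by_cases h' : i.val + 1 = j.val
      · simp [h, h']
      · simp [h, h']
  rw [Finset.sum_congr rfl (fun j _ => h1 j), Finset.sum_add_distrib, Finset.sum_ite_eq]
  simp only [Finset.mem_univ, if_true]
  congr 1
  by_cases h : i.val + 1 < m + 3
  · rw [dif_pos h]
    rw [Finset.sum_eq_single (⟨i.val + 1, h⟩ : Fin (m + 3))]
    · simp
    · intro b _ hb
      rw [if_neg]
      intro h'
      apply hb
      ext
      simp [← h']
    · intro h'
      exact absurd (Finset.mem_univ _) h'
  · rw [dif_neg h]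
    apply Finset.sum_eq_zero
    intro j _
    rw [if_neg]
    intro h'
    have := j.2
    omega

theorem g5_vecMul_aMat_apply (v : Fin (m + 3) → F) (j : Fin (m + 3)) :
    (v ᵥ* aMat m F) j = v j + (if h : 0 < j.val then v ⟨j.val - 1, by omega⟩ else 0) := by
  unfold aMat
  simp only [vecMul, dotProduct, of_apply]
  have h1 : ∀ i : Fin (m + 3), v i * (if i = j ∨ i.val + 1 = j.val then (1 : F) else 0) =
      (if j = i then v i else 0) + (if i.val + 1 = j.val then v i else 0) := by
    intro i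
    by_cases h : i = j
    · subst h
      simp
    · have h2 : ¬ j = i := fun h3 => h h3.symm
      by_cases h' : i.val + 1 = j.val
      · simp [h, h2, h']
      · simp [h, h2, h']
  rw [Finset.sum_congr rfl (fun i _ => h1 i), Finset.sum_add_distrib, Finset.sum_ite_eq]
  simp only [Finset.mem_univ, if_true]
  congr 1
  by_cases h : 0 < j.val
  · rw [dif_pos h]
    rw [Finset.sum_eq_single (⟨j.val - 1, by omega⟩ : Fin (m + 3))]
    · rw [if_pos]
      simp only
      omega
    · intro b _ hb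
      rw [if_neg]
      intro h'
      apply hb
      ext
      simp only
      omega
    · intro h'
      exact absurd (Finset.mem_univ _) h'
  · rw [dif_neg h]
    apply Finset.sum_eq_zero
    intro i _
    rw [if_neg]
    omega


theorem cvec_zero : cvec m F 0 = Pi.single (Fin.last (m + 2)) 1 := by
  unfold cvec
  rw [pow_zero, one_mulVec]

theorem cvec_succ (k : ℕ) : cvec m F (k + 1) = aMat m F *ᵥ cvec m F k := by
  unfold cvec
  rw [pow_succ', mulVec_mulVec]

/-- the entries of `c_k` are binomial coefficients -/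
theorem cvec_apply (k : ℕ) (i : Fin (m + 3)) :
    cvec m F k i = ((Nat.choose k (m + 2 - i.val) : ℕ) : F) := by
  induction k generalizing i with
  | zero =>
    rw [cvec_zero]
    by_cases h : i = Fin.last (m + 2)
    · subst h
      simp
    · have h2 : i.val ≠ m + 2 := by
        intro h3
        apply h
        ext
        simpa using h3
      have h3 : m + 2 - i.val = (m + 1 - i.val) + 1 := by
        have := i.2
        omega
      rw [Pi.single_eq_of_ne h, h3, Nat.choose_zero_succ, Nat.cast_zero]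
  | succ k ih =>
    rw [cvec_succ, g5_aMat_mulVec_apply]
    by_cases h : i.val + 1 < m + 3
    · rw [dif_pos h, ih, ih]
      have h3 : m + 2 - i.val = (m + 1 - i.val) + 1 := by omega
      have h4 : m + 2 - (i.val + 1) = m + 1 - i.val := by omega
      simp only
      rw [h3, h4, Nat.choose_succ_succ, Nat.cast_add, add_comm]
    · rw [dif_neg h, ih, add_zero]
      have h3 : m + 2 - i.val = 0 := by omega
      rw [h3, Nat.choose_zero_right, Nat.choose_zero_right]

theorem cvec_apply_zero {k : ℕ} (hk : k ≤ m + 1) : cvec m F k 0 = 0 := by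
  rw [cvec_apply]
  have : k.choose (m + 2 - (0 : Fin (m + 3)).val) = 0 := by
    apply Nat.choose_eq_zero_of_lt
    simp
    omega
  rw [this, Nat.cast_zero]

theorem cvec_apply_one {k : ℕ} (hk : k ≤ m) : cvec m F k 1 = 0 := by
  rw [cvec_apply]
  have h1 : (1 : Fin (m + 3)).val = 1 := by simp
  have : k.choose (m + 2 - (1 : Fin (m + 3)).val) = 0 := by
    apply Nat.choose_eq_zero_of_lt
    rw [h1]
    omega
  rw [this, Nat.cast_zero]

theorem cvec_apply_one_top : cvec m F (m + 1) 1 = 1 := by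
  rw [cvec_apply]
  have h1 : (1 : Fin (m + 3)).val = 1 := by simp
  have : m + 2 - (1 : Fin (m + 3)).val = m + 1 := by
    rw [h1]
    omega
  rw [this, Nat.choose_self, Nat.cast_one]

theorem brow_zero : brow m F 0 = Pi.single 0 1 := by
  ext i
  unfold brow
  by_cases h : i = 0
  · subst h
    simp
  · have h2 : i.val ≠ 0 := by
      intro h3
      apply h
      ext
      simpa using h3
    have h3 : (0 + i.val - 1).choose i.val = 0 := by
      apply Nat.choose_eq_zero_of_lt
      omega
    rw [h3, Nat.cast_zero, mul_zero, Pi.single_eq_of_ne h]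

/-- Pascal: `e_0 a^{-(r+1)} a = e_0 a^{-r}` -/
theorem brow_succ_vecMul (r : ℕ) : brow m F (r + 1) ᵥ* aMat m F = brow m F r := by
  ext j
  rw [g5_vecMul_aMat_apply]
  unfold brow
  by_cases h : 0 < j.val
  · rw [dif_pos h]
    obtain ⟨t, ht⟩ : ∃ t, j.val = t + 1 := ⟨j.val - 1, by omega⟩
    simp only [ht]
    have h1 : r + 1 + (t + 1) - 1 = (r + t) + 1 := by omega
    have h2 : r + 1 + (t + 1 - 1) - 1 = r + t := by omega
    have h3 : r + (t + 1) - 1 = r + t := by omega
    have h4 : t + 1 - 1 = t := by omega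
    rw [h1, h2, h3, h4, Nat.choose_succ_succ, Nat.cast_add, pow_succ]
    ring
  · rw [dif_neg h, add_zero]
    have h0 : j.val = 0 := by omega
    rw [h0]
    simp

theorem brow_vecMul_pow (r k : ℕ) : brow m F (r + k) ᵥ* (aMat m F ^ k) = brow m F r := by
  induction k with
  | zero => rw [pow_zero, vecMul_one, add_zero]
  | succ k ih =>
    rw [pow_succ', ← vecMul_vecMul, ← add_assoc, brow_succ_vecMul, ih]

/-- the pairing `e_0 a^{-j} a^i e_last = (-1)^(n-1) C(n + (j-i) - 2, n - 1)` for `i ≤ j` -/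
theorem brow_dot_cvec {i j : ℕ} (hij : i ≤ j) :
    brow m F j ⬝ᵥ cvec m F i =
      (-1) ^ (m + 2) * ((Nat.choose (m + 3 + (j - i) - 2) (m + 2) : ℕ) : F) := by
  unfold cvec
  rw [dotProduct_mulVec]
  have h1 : j = (j - i) + i := by omega
  rw [h1, brow_vecMul_pow, dotProduct_single, mul_one]
  unfold brow
  have h2 : (Fin.last (m + 2)).val = m + 2 := rfl
  rw [h2]
  have h3 : j - i + (m + 2) - 1 = m + 3 + (j - i + i - i) - 2 := by omega
  rw [h3]

theorem inG_pow {G : Subgroup (SpecialLinearGroup (Fin (m + 3)) F)}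
    {A : Matrix (Fin (m + 3)) (Fin (m + 3)) F} (hA : InG G A) (k : ℕ) : InG G (A ^ k) := by
  induction k with
  | zero => rw [pow_zero]; exact inG_one
  | succ k ih => rw [pow_succ]; exact inG_mul ih hA

/-- `g_j = a^j (1 + l e_last e_0ᵀ) a^{-j} = 1 + l c_j (e_0 a^{-j})` -/
theorem inG_gj {G : Subgroup (SpecialLinearGroup (Fin (m + 3)) F)} (l : F)
    (ha : InG G (aMat m F))
    (hg : InG G (tvm (l • (Pi.single (Fin.last (m + 2)) 1 : Fin (m + 3) → F)) (Pi.single 0 1)))
    (j : ℕ) : InG G (tvm (l • cvec m F j) (brow m F j)) := by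
  have h1 := mul_tvm (aMat m F ^ j) (l • (Pi.single (Fin.last (m + 2)) 1 : Fin (m + 3) → F))
    (brow m F j)
  have h2 : brow m F j ᵥ* (aMat m F ^ j) = Pi.single 0 1 := by
    have := brow_vecMul_pow (m := m) (F := F) 0 j
    rw [zero_add] at this
    rw [this, brow_zero]
  rw [h2, mulVec_smul] at h1
  have h3 : InG G (tvm (l • cvec m F j) (brow m F j) * aMat m F ^ j) := by
    unfold cvec
    rw [← h1]
    exact inG_mul (inG_pow ha j) hg
  exact inG_of_mul_right (inG_pow ha j) h3

/-- the `g_j`-step: hypothesis `h4` of `sk_eq_top` with `n = m + 3`, `S k = {s | 1 + s c_k e_0ᵀ ∈ G}` -/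
theorem gj_step {G : Subgroup (SpecialLinearGroup (Fin (m + 3)) F)} (l : F)
    (ha : InG G (aMat m F))
    (hg : InG G (tvm (l • (Pi.single (Fin.last (m + 2)) 1 : Fin (m + 3) → F)) (Pi.single 0 1)))
    (i j : ℕ) (hij : i < j) (hj : j + 2 ≤ m + 3) (s : F)
    (hs : InG G (tvm (s • cvec m F i) (Pi.single 0 1))) :
    InG G (tvm ((((Nat.choose (m + 3 + (j - i) - 2) (m + 2) : ℕ) : F) * l * s) • cvec m F j)
      (Pi.single 0 1)) := by
  set e : Fin (m + 3) → F := Pi.single 0 1 with he
  have hedot : ∀ v : Fin (m + 3) → F, e ⬝ᵥ v = v 0 := by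
    intro v
    rw [he, single_dotProduct, one_mul]
  have hcj0 : cvec m F j 0 = 0 := cvec_apply_zero (by omega)
  have hci0 : cvec m F i 0 = 0 := cvec_apply_zero (by omega)
  have hgj := inG_gj l ha hg j
  have hfix : e ᵥ* tvm (l • cvec m F j) (brow m F j) = e := by
    unfold tvm
    rw [vecMul_add, vecMul_one, vecMul_vecMulVec, hedot, Pi.smul_apply, hcj0, smul_zero, zero_smul,
      add_zero]
  have h1 := mset_mulVec e hgj hfix (s • cvec m F i) hs
  set κ : F := ((Nat.choose (m + 3 + (j - i) - 2) (m + 2) : ℕ) : F) with hκ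
  have h2 : tvm (l • cvec m F j) (brow m F j) *ᵥ (s • cvec m F i) =
      s • cvec m F i + ((-1) ^ (m + 2) * (κ * l * s)) • cvec m F j := by
    unfold tvm
    rw [add_mulVec, one_mulVec, vecMulVec_mulVec, dotProduct_smul, brow_dot_cvec hij.le]
    ext t
    simp only [Pi.add_apply, Pi.smul_apply, smul_eq_mul, MulOpposite.smul_eq_mul_unop,
      MulOpposite.unop_op]
    ring
  rw [h2] at h1
  have h3 : e ⬝ᵥ (s • cvec m F i + ((-1) ^ (m + 2) * (κ * l * s)) • cvec m F j) = 0 := by
    rw [hedot, Pi.add_apply, Pi.smul_apply, Pi.smul_apply, hci0, hcj0, smul_zero, smul_zero, add_zero]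
  have h4 : e ⬝ᵥ (s • cvec m F i) = 0 := by
    rw [hedot, Pi.smul_apply, hci0, smul_zero]
  have h5 := inG_mul (inG_tvm_neg h4 hs) h1
  rw [tvm_mul_tvm _ _ _ h3, neg_add_cancel_left] at h5
  rcases neg_one_pow_eq_or F (m + 2) with h | h
  · rw [h, one_mul] at h5
    exact h5
  · rw [h, neg_one_mul, neg_smul] at h5
    have h6 : e ⬝ᵥ (-((κ * l * s) • cvec m F j)) = 0 := by
      rw [hedot, Pi.neg_apply, Pi.smul_apply, hcj0, smul_zero, neg_zero]
    have := inG_tvm_neg h6 h5
    rwa [neg_neg] at this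

end Cfsg.Agent.Lib.Helper05.RU5
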