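import Mathlib
import Cfsg.Agent.Lib.Helper73.RUDefs
import Cfsg.Agent.Lib.Helper73.RUHub
import Cfsg.Agent.Lib.Helper52.RU3Field
import Cfsg.Agent.Lib.Helper27.RU4G
import Cfsg.Agent.Lib.Helper05.RU5G

set_option autoImplicit false

/-!
# S2279, all finite fields: the glue on top of the matrix leaves (K-RU4 B, C, D) and the field step `sk_eq_top`

`eq_top_of_gen_aux`: `G ∋ a` (upper Jordan block), `l` a generator of `Fˣ`, and the three facts delivered by
K-RU4 leaves B (`tv_mem`), C (`up_step`), D (`down_step`) as hypotheses `hB`, `hC`, `hD` ⟹ `G = ⊤`.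
-/

namespace Cfsg.Agent.Lib.Helper05.RU5

open Matrix Cfsg.Agent.Lib.Helper73.RU Cfsg.Agent.Lib.Helper73.RUSpec

variable {m : ℕ} {F : Type*} [Field F]

/-- `c_1 = e_last + e_(last-1)` -/
theorem cvec_one : cvec m F 1 =
    Pi.single (Fin.last (m + 2)) 1 + Pi.single (⟨m + 1, by omega⟩ : Fin (m + 3)) 1 := by
  ext i
  rw [cvec_apply, Pi.add_apply]
  by_cases h1 : i = Fin.last (m + 2)
  · subst h1
    have h2 : (Fin.last (m + 2) : Fin (m + 3)) ≠ ⟨m + 1, by omega⟩ := by
      intro h; have := congrArg Fin.val h; simp at this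
    rw [Pi.single_eq_same, Pi.single_eq_of_ne h2]
    simp
  · by_cases h2 : i = ⟨m + 1, by omega⟩
    · subst h2
      rw [Pi.single_eq_of_ne h1, Pi.single_eq_same]
      simp
    · rw [Pi.single_eq_of_ne h1, Pi.single_eq_of_ne h2]
      have h3 : i.val ≠ m + 2 := by
        intro h; apply h1; ext; simpa using h
      have h4 : i.val ≠ m + 1 := by
        intro h; apply h2; ext; simpa using h
      have h5 : Nat.choose 1 (m + 2 - i.val) = 0 := by
        apply Nat.choose_eq_zero_of_lt
        have := i.2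
        omega
      rw [h5]
      simp

/-- the vectors `c_0, …, c_(m+1)` span `{v | v 0 = 0}` (triangular) -/
theorem mem_of_cvec_mem (M : Set (Fin (m + 3) → F))
    (hadd : ∀ v w, v ∈ M → w ∈ M → v + w ∈ M) (h0M : (0 : Fin (m + 3) → F) ∈ M)
    (hc : ∀ k, k ≤ m + 1 → ∀ s : F, s • cvec m F k ∈ M) :
    ∀ v : Fin (m + 3) → F, v 0 = 0 → v ∈ M := by
  have key : ∀ (d : ℕ) (t : ℕ), t + d = m + 3 → 1 ≤ t →
      ∀ v : Fin (m + 3) → F, (∀ i : Fin (m + 3), i.val < t → v i = 0) → v ∈ M := by
    intro d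
    induction d with
    | zero =>
      intro t ht _ v hv
      have : v = 0 := by
        ext i
        exact hv i (by have := i.2; omega)
      rw [this]
      exact h0M
    | succ d ih =>
      intro t ht ht1 v hv
      have htlt : t < m + 3 := by omega
      set k := m + 2 - t with hk
      set s := v ⟨t, htlt⟩ with hs
      have hw : v - s • cvec m F k ∈ M := by
        apply ih (t + 1) (by omega) (by omega)
        intro i hi
        rw [Pi.sub_apply, Pi.smul_apply, cvec_apply]
        by_cases hit : i.val = t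
        · have hi' : i = ⟨t, htlt⟩ := by ext; exact hit
          rw [hi']
          have h1 : m + 2 - (⟨t, htlt⟩ : Fin (m + 3)).val = k := by simp [hk]
          rw [h1, Nat.choose_self, Nat.cast_one, smul_eq_mul, mul_one, sub_self]
        · have h1 : i.val < t := by omega
          have h2 : Nat.choose k (m + 2 - i.val) = 0 := by
            apply Nat.choose_eq_zero_of_lt
            omega
          rw [hv i h1, h2, Nat.cast_zero, smul_zero, sub_zero]
      have := hadd _ _ hw (hc k (by omega) s)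
      rwa [sub_add_cancel] at this
  intro v hv0
  apply key (m + 2) 1 (by omega) le_rfl
  intro i hi
  have h1 : i.val = 0 := by omega
  have : i = 0 := Fin.ext (by simpa using h1)
  rw [this, hv0]

/-- the general glue: `hB`, `hC`, `hD` are the conclusions of the K-RU4 leaves B, C, D for this `G`, `l` -/
theorem eq_top_of_gen_aux [Fintype F] (hm : 1 ≤ m) (l : F) (hl0 : l ≠ 0)
    (hl : ∀ x : F, x ≠ 0 → ∃ k : ℕ, x = l ^ (k + 1))
    (G : Subgroup (SpecialLinearGroup (Fin (m + 3)) F))
    (ha : InG G (aMat m F))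
    (hB : InG G (tvm (l ^ 3 • ((Pi.single (Fin.last (m + 2)) 1 : Fin (m + 3) → F) +
      Pi.single (⟨m + 1, by omega⟩ : Fin (m + 3)) 1)) (Pi.single 0 1 + Pi.single 1 1)))
    (hC : ∀ x : Fin (m + 3) → F, x 0 = 0 → x 1 = 0 → InG G (tvm x (Pi.single 0 1)) →
      InG G (tvm ((l * (-1) ^ (m + 1)) • (aMat m F *ᵥ x)) (Pi.single 0 1)))
    (hD : ∀ y : Fin (m + 3) → F, y 0 = 0 → InG G (tvm y (Pi.single 0 1)) →
      ∀ x : Fin (m + 3) → F, x 0 = 0 → x 1 = 0 → InG G (tvm (aMat m F *ᵥ x) (Pi.single 0 1)) →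
      InG G (tvm ((-(y 1)) • x) (Pi.single 0 1))) : G = ⊤ := by
  classical
  set e : Fin (m + 3) → F := Pi.single 0 1 with he
  have hedot : ∀ v : Fin (m + 3) → F, e ⬝ᵥ v = v 0 := by
    intro v
    rw [he, single_dotProduct, one_mul]
  -- the characteristic
  obtain ⟨p, hpc⟩ := CharP.exists F
  have : CharP F p := hpc
  have : Fact p.Prime := ⟨CharP.char_is_prime F p⟩
  -- the additive subgroups `S k`
  let M : Set (Fin (m + 3) → F) := {v | v 0 = 0 ∧ InG G (tvm v e)}
  have hadd : ∀ v w, v ∈ M → w ∈ M → v + w ∈ M := fun v w hv hw =>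
    ⟨by rw [Pi.add_apply, hv.1, hw.1, add_zero], by
      rw [← tvm_mul_tvm v w e (by rw [hedot]; exact hw.1)]; exact inG_mul hv.2 hw.2⟩
  have hneg : ∀ v, v ∈ M → -v ∈ M := fun v hv =>
    ⟨by rw [Pi.neg_apply, hv.1, neg_zero], inG_tvm_neg (by rw [hedot]; exact hv.1) hv.2⟩
  have h0M : (0 : Fin (m + 3) → F) ∈ M := ⟨rfl, by rw [tvm_zero]; exact inG_one⟩
  have hpm : ∀ (k : ℕ) v, ((-1 : F) ^ k) • v ∈ M → v ∈ M := by
    intro k v hv
    rcases neg_one_pow_eq_or F k with h | h
    · rwa [h, one_smul] at hv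
    · rw [h, neg_one_smul] at hv
      simpa using hneg _ hv
  let S : ℕ → AddSubgroup F := fun k =>
    if hk : k ≤ m + 1 then
      { carrier := {s | s • cvec m F k ∈ M}
        zero_mem' := by
          show (0 : F) • cvec m F k ∈ M
          rw [zero_smul]; exact h0M
        add_mem' := by
          intro a b hA hB'
          show (a + b) • cvec m F k ∈ M
          rw [add_smul]; exact hadd _ _ hA hB'
        neg_mem' := by
          intro a hA
          show (-a) • cvec m F k ∈ M
          rw [neg_smul]; exact hneg _ hA }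
    else ⊤
  have hS : ∀ k (hk : k ≤ m + 1) (s : F), s ∈ S k ↔ s • cvec m F k ∈ M := by
    intro k hk s
    simp only [S, dif_pos hk]
    rfl
  have hcv0 : ∀ k, k ≤ m + 1 → ∀ s : F, (s • cvec m F k) 0 = 0 := by
    intro k hk s
    rw [Pi.smul_apply, cvec_apply_zero hk, smul_zero]
  have hcv1 : ∀ k, k ≤ m → ∀ s : F, (s • cvec m F k) 1 = 0 := by
    intro k hk s
    rw [Pi.smul_apply, cvec_apply_one hk, smul_zero]
  -- h1
  have h1 : l ^ 3 ∈ S 2 := by
    rw [hS 2 (by omega)]
    refine ⟨hcv0 2 (by omega) _, ?_⟩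
    have hf : e ᵥ* aMat m F = Pi.single 0 1 + Pi.single 1 1 := by
      ext j
      rw [g5_vecMul_aMat_apply, Pi.add_apply]
      by_cases hj0 : j = 0
      · subst hj0
        simp [he]
      · have hj : 0 < j.val := by
          rcases Nat.eq_zero_or_pos j.val with h | h
          · exact absurd (Fin.ext (by simpa using h)) hj0
          · exact h
        rw [dif_pos hj]
        by_cases hj1 : j = 1
        · subst hj1
          simp [he]
        · have h2 : (⟨j.val - 1, by omega⟩ : Fin (m + 3)) ≠ 0 := by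
            intro h
            apply hj1
            have := congrArg Fin.val h
            ext
            simp at this ⊢
            omega
          rw [he, Pi.single_eq_of_ne hj0, Pi.single_eq_of_ne h2, Pi.single_eq_of_ne hj1]
    have h7 : InG G (tvm (aMat m F *ᵥ (l ^ 3 • cvec m F 1)) e * aMat m F) := by
      rw [← mul_tvm, hf, cvec_one]
      exact inG_mul ha hB
    have h8 := inG_of_mul_right ha h7
    rwa [mulVec_smul, ← cvec_succ] at h8
  -- h2 (UP)
  have h2 : ∀ k, k + 3 ≤ m + 3 → ∀ s ∈ S k, l * s ∈ S (k + 1) := by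
    intro k hk s hs
    rw [hS k (by omega)] at hs
    rw [hS (k + 1) (by omega)]
    have h := hC (s • cvec m F k) (hcv0 k (by omega) s) (hcv1 k (by omega) s) hs.2
    rw [mulVec_smul, ← cvec_succ, smul_smul, mul_comm l, mul_assoc, ← smul_smul] at h
    exact hpm (m + 1) _ ⟨by rw [Pi.smul_apply, hcv0 (k + 1) (by omega), smul_zero], h⟩
  -- h3 (DOWN)
  have h3 : ∀ k, 1 ≤ k → k + 2 ≤ m + 3 → ∀ s' ∈ S (m + 3 - 2), ∀ s ∈ S k, s' * s ∈ S (k - 1) := by
    intro k hk1 hk2 s' hs' s hs
    have hm2 : m + 3 - 2 = m + 1 := by omega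
    rw [hm2, hS (m + 1) le_rfl] at hs'
    rw [hS k (by omega)] at hs
    rw [hS (k - 1) (by omega)]
    obtain ⟨k', rfl⟩ : ∃ k', k = k' + 1 := ⟨k - 1, by omega⟩
    have hx : InG G (tvm (aMat m F *ᵥ (s • cvec m F k')) e) := by
      rw [mulVec_smul, ← cvec_succ]
      exact hs.2
    have h := hD (s' • cvec m F (m + 1)) hs'.1 hs'.2 (s • cvec m F k') (hcv0 k' (by omega) s)
      (hcv1 k' (by omega) s) hx
    rw [Pi.smul_apply, cvec_apply_one_top, smul_eq_mul, mul_one, smul_smul] at h
    have h' : (-(s' * s)) • cvec m F k' ∈ M := by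
      refine ⟨by rw [hcv0 k' (by omega)], ?_⟩
      rw [← neg_mul]
      exact h
    have := hneg _ h'
    rw [neg_smul, neg_neg] at this
    simpa using this
  -- h4 (g_j-step)
  have h4 : l ∈ S 0 → ∀ i j, i < j → j + 2 ≤ m + 3 → ∀ s ∈ S i,
      ((Nat.choose (m + 3 + (j - i) - 2) (m + 3 - 1) : ℕ) : F) * l * s ∈ S j := by
    intro hl0S i j hij hj s hs
    rw [hS 0 (by omega), cvec_zero] at hl0S
    rw [hS i (by omega)] at hs
    rw [hS j (by omega)]
    have hm1 : m + 3 - 1 = m + 2 := by omega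
    rw [hm1]
    exact ⟨hcv0 j (by omega) _, gj_step l ha hl0S.2 i j hij hj s hs.2⟩
  have hall := Cfsg.Agent.Lib.Helper52.RU3.sk_eq_top p (m + 3) (by omega) l hl0 hl S h1 h2 h3 h4
  have hc : ∀ k, k ≤ m + 1 → ∀ s : F, s • cvec m F k ∈ M := by
    intro k hk s
    rw [← hS k hk, hall k (by omega)]
    exact AddSubgroup.mem_top s
  have hM := mem_of_cvec_mem M hadd h0M hc
  have hAx0 : e ∈ Ax G := by
    intro v hv
    rw [hedot] at hv
    exact (hM v hv).2
  exact eq_top_of_single_mem_Ax G (Cfsg.Agent.Lib.Helper27.RU4x.single_mem_Ax_up ha hAx0)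

end Cfsg.Agent.Lib.Helper05.RU5
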