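import Mathlib
import Cfsg.Prelude.Def_Classical

/-!
# K-S2717-V4b (keystone 271715): the special similarity of the minus-type form
-/

set_option autoImplicit false
set_option linter.unusedSimpArgs false

namespace Cfsg.Agent.Lib.Helper05.S2717K

open Matrix

universe u

variable {F : Type u} [Field F] [Fintype F] (k : ℕ)

/-- the special similarity of the binary-split form: dilation by `ζ` on the hyperbolic part,
multiplication by `c₁ - c₂ ρ` on the binary part. -/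
def specMat (a b ζ c₁ c₂ : F) :
    Matrix ((Fin k ⊕ Fin k) ⊕ Fin 2) ((Fin k ⊕ Fin k) ⊕ Fin 2) F :=
  Matrix.fromBlocks (Matrix.fromBlocks (ζ • (1 : Matrix (Fin k) (Fin k) F)) 0 0 1) 0 0
    !![c₁, -(b * c₂); c₂, c₁ + a * c₂]

omit [Fintype F] in
theorem specMat_mulVec_inl_inl (a b ζ c₁ c₂ : F) (v : (Fin k ⊕ Fin k) ⊕ Fin 2 → F) (i : Fin k) :
    (specMat k a b ζ c₁ c₂ *ᵥ v) (Sum.inl (Sum.inl i)) = ζ * v (Sum.inl (Sum.inl i)) := by
  unfold specMat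
  rw [Matrix.fromBlocks_mulVec]
  simp only [Sum.elim_inl, Pi.add_apply, Matrix.zero_mulVec, Pi.zero_apply, add_zero]
  rw [Matrix.fromBlocks_mulVec]
  simp only [Sum.elim_inl, Pi.add_apply, Matrix.zero_mulVec, Pi.zero_apply, add_zero,
    Matrix.smul_mulVec, Matrix.one_mulVec, Pi.smul_apply, smul_eq_mul, Function.comp_apply]

omit [Fintype F] in
theorem specMat_mulVec_inl_inr (a b ζ c₁ c₂ : F) (v : (Fin k ⊕ Fin k) ⊕ Fin 2 → F) (i : Fin k) :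
    (specMat k a b ζ c₁ c₂ *ᵥ v) (Sum.inl (Sum.inr i)) = v (Sum.inl (Sum.inr i)) := by
  unfold specMat
  rw [Matrix.fromBlocks_mulVec]
  simp only [Sum.elim_inl, Pi.add_apply, Matrix.zero_mulVec, Pi.zero_apply, add_zero]
  rw [Matrix.fromBlocks_mulVec]
  simp only [Sum.elim_inr, Pi.add_apply, Matrix.zero_mulVec, Pi.zero_apply, zero_add,
    Matrix.one_mulVec, Function.comp_apply]

omit [Fintype F] in
theorem specMat_mulVec_inr_zero (a b ζ c₁ c₂ : F) (v : (Fin k ⊕ Fin k) ⊕ Fin 2 → F) :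
    (specMat k a b ζ c₁ c₂ *ᵥ v) (Sum.inr 0) = c₁ * v (Sum.inr 0) - b * c₂ * v (Sum.inr 1) := by
  unfold specMat
  rw [Matrix.fromBlocks_mulVec]
  simp only [Sum.elim_inr, Pi.add_apply, Matrix.zero_mulVec, Pi.zero_apply, zero_add]
  simp [Matrix.mulVec, dotProduct, Fin.sum_univ_two]
  ring

omit [Fintype F] in
theorem specMat_mulVec_inr_one (a b ζ c₁ c₂ : F) (v : (Fin k ⊕ Fin k) ⊕ Fin 2 → F) :
    (specMat k a b ζ c₁ c₂ *ᵥ v) (Sum.inr 1) = c₂ * v (Sum.inr 0) + (c₁ + a * c₂) * v (Sum.inr 1) := by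
  unfold specMat
  rw [Matrix.fromBlocks_mulVec]
  simp only [Sum.elim_inr, Pi.add_apply, Matrix.zero_mulVec, Pi.zero_apply, zero_add]
  simp [Matrix.mulVec, dotProduct, Fin.sum_univ_two]

omit [Fintype F] in
/-- K-S2717-V4b: the special matrix is a similarity of the minus-type form with multiplier `ζ`,
its determinant is `ζ ^ (k+1)`, and it is compatible with base change. -/
theorem specMat_props (a b ζ c₁ c₂ : F) (hc : c₁ ^ 2 + a * c₁ * c₂ + b * c₂ ^ 2 = ζ) :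
    (∀ v, Cfsg.quadFormMinus k F a b (specMat k a b ζ c₁ c₂ *ᵥ v) =
      ζ * Cfsg.quadFormMinus k F a b v) ∧
    (specMat k a b ζ c₁ c₂).det = ζ ^ (k + 1) ∧
    (ζ ≠ 0 → specMat k a b ζ c₁ c₂ * specMat k a b ζ⁻¹ (ζ⁻¹ * (c₁ + a * c₂)) (-(ζ⁻¹ * c₂)) = 1) := by
  refine ⟨?_, ?_, ?_⟩
  · intro v
    unfold Cfsg.quadFormMinus
    simp only [specMat_mulVec_inl_inl, specMat_mulVec_inl_inr, specMat_mulVec_inr_zero,
      specMat_mulVec_inr_one]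
    have h1 : ∑ i : Fin k, ζ * v (Sum.inl (Sum.inl i)) * v (Sum.inl (Sum.inr i)) =
        ζ * ∑ i : Fin k, v (Sum.inl (Sum.inl i)) * v (Sum.inl (Sum.inr i)) := by
      rw [Finset.mul_sum]
      exact Finset.sum_congr rfl (fun i _ => by ring)
    rw [h1, ← hc]
    ring
  · unfold specMat
    rw [Matrix.det_fromBlocks_zero₂₁, Matrix.det_fromBlocks_zero₂₁, Matrix.det_smul, Matrix.det_one,
      Matrix.det_fin_two_of, Fintype.card_fin, pow_succ, ← hc]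
    ring
  · intro hζ
    unfold specMat
    rw [Matrix.fromBlocks_multiply]
    simp only [Matrix.mul_zero, Matrix.zero_mul, add_zero, zero_add]
    rw [Matrix.fromBlocks_multiply]
    simp only [Matrix.mul_zero, Matrix.zero_mul, add_zero, zero_add, Matrix.mul_one]
    have h1 : (ζ • (1 : Matrix (Fin k) (Fin k) F)) * (ζ⁻¹ • (1 : Matrix (Fin k) (Fin k) F)) = 1 := by
      rw [Matrix.smul_mul, Matrix.one_mul, smul_smul, mul_inv_cancel₀ hζ, one_smul]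
    have h3 : (!![c₁, -(b * c₂); c₂, c₁ + a * c₂] : Matrix (Fin 2) (Fin 2) F) *
        !![ζ⁻¹ * (c₁ + a * c₂), -(b * -(ζ⁻¹ * c₂)); -(ζ⁻¹ * c₂), ζ⁻¹ * (c₁ + a * c₂) + a * -(ζ⁻¹ * c₂)] = 1 := by
      rw [Matrix.mul_fin_two, Matrix.one_fin_two]
      have e1 : c₁ * (ζ⁻¹ * (c₁ + a * c₂)) + -(b * c₂) * -(ζ⁻¹ * c₂) = 1 := by
        have : c₁ * (ζ⁻¹ * (c₁ + a * c₂)) + -(b * c₂) * -(ζ⁻¹ * c₂) =
            ζ⁻¹ * (c₁ ^ 2 + a * c₁ * c₂ + b * c₂ ^ 2) := by ring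
        rw [this, hc, inv_mul_cancel₀ hζ]
      have e2 : c₁ * -(b * -(ζ⁻¹ * c₂)) + -(b * c₂) * (ζ⁻¹ * (c₁ + a * c₂) + a * -(ζ⁻¹ * c₂)) = 0 := by ring
      have e3 : c₂ * (ζ⁻¹ * (c₁ + a * c₂)) + (c₁ + a * c₂) * -(ζ⁻¹ * c₂) = 0 := by ring
      have e4 : c₂ * -(b * -(ζ⁻¹ * c₂)) + (c₁ + a * c₂) * (ζ⁻¹ * (c₁ + a * c₂) + a * -(ζ⁻¹ * c₂)) = 1 := by
        have : c₂ * -(b * -(ζ⁻¹ * c₂)) + (c₁ + a * c₂) * (ζ⁻¹ * (c₁ + a * c₂) + a * -(ζ⁻¹ * c₂)) =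
            ζ⁻¹ * (c₁ ^ 2 + a * c₁ * c₂ + b * c₂ ^ 2) := by ring
        rw [this, hc, inv_mul_cancel₀ hζ]
      rw [e1, e2, e3, e4]
    rw [h1, h3, Matrix.fromBlocks_one, Matrix.fromBlocks_one]

end Cfsg.Agent.Lib.Helper05.S2717K
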