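import Cfsg.Agent.Lib.Helper07.OrthRc
import Cfsg.Agent.Lib.Helper05.S2717V4b

/-!
# K-S2717-V4 (keystone 271714): the special similarity in split coordinates
-/

set_option autoImplicit false
set_option linter.unusedSimpArgs false
set_option linter.unusedVariables false
set_option linter.unusedSectionVars false

namespace Cfsg.Agent.Lib.Helper05.S2717K

open Module Matrix Cfsg.Agent.Lib.Helper07.OG

universe u

variable {F : Type u} [Field F] [Fintype F] (k : ℕ)

/-- the diagonal of `Pp * specMat * Pm`. -/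
def specDiag (ξ η η' : F) : Fin (k + 1) ⊕ Fin (k + 1) → F :=
  Sum.elim (Fin.lastCases η (fun _ => ξ ^ 2)) (Fin.lastCases η' (fun _ => 1))

theorem Pp_mul_specMat (ρ ρ' ξ c₁ c₂ : F) :
    Pp k ρ ρ' * specMat k (-(ρ + ρ')) (ρ * ρ') (ξ ^ 2) c₁ c₂ =
      Matrix.diagonal (specDiag k ξ (c₁ - c₂ * ρ) (c₁ - c₂ * ρ')) * Pp k ρ ρ' := by
  rw [Matrix.ext_iff_mulVec]
  intro u
  rw [← Matrix.mulVec_mulVec, ← Matrix.mulVec_mulVec, Pp_mulVec, Pp_mulVec, blkM_mulVec, blkM_mulVec]
  funext r
  rw [Matrix.mulVec_diagonal]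
  rcases r with i | i
  · induction i using Fin.lastCases with
    | last =>
      have e0 := specMat_mulVec_inr_zero k (-(ρ + ρ')) (ρ * ρ') (ξ ^ 2) c₁ c₂ u
      have e1 := specMat_mulVec_inr_one k (-(ρ + ρ')) (ρ * ρ') (ξ ^ 2) c₁ c₂ u
      generalize specMat k (-(ρ + ρ')) (ρ * ρ') (ξ ^ 2) c₁ c₂ *ᵥ u = w at e0 e1 ⊢
      simp only [Function.comp_apply, eIdx_inl_last, Sum.elim_inr, specDiag, Sum.elim_inl, Fin.lastCases_last]
      simp only [Bp, Matrix.mulVec, dotProduct, Fin.sum_univ_two, Function.comp_apply]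
      simp only [Matrix.of_apply, Matrix.cons_val', Matrix.cons_val_zero, Matrix.cons_val_one,
        Matrix.cons_val_fin_one]
      rw [e0, e1]
      ring
    | cast i =>
      simp only [Function.comp_apply, eIdx_inl_castSucc, Sum.elim_inl, specDiag, Fin.lastCases_castSucc,
        specMat_mulVec_inl_inl]
  · induction i using Fin.lastCases with
    | last =>
      have e0 := specMat_mulVec_inr_zero k (-(ρ + ρ')) (ρ * ρ') (ξ ^ 2) c₁ c₂ u
      have e1 := specMat_mulVec_inr_one k (-(ρ + ρ')) (ρ * ρ') (ξ ^ 2) c₁ c₂ u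
      generalize specMat k (-(ρ + ρ')) (ρ * ρ') (ξ ^ 2) c₁ c₂ *ᵥ u = w at e0 e1 ⊢
      simp only [Function.comp_apply, eIdx_inr_last, Sum.elim_inr, specDiag, Fin.lastCases_last]
      simp only [Bp, Matrix.mulVec, dotProduct, Fin.sum_univ_two, Function.comp_apply]
      simp only [Matrix.of_apply, Matrix.cons_val', Matrix.cons_val_zero, Matrix.cons_val_one,
        Matrix.cons_val_fin_one]
      rw [e0, e1]
      ring
    | cast i =>
      simp only [Function.comp_apply, eIdx_inr_castSucc, Sum.elim_inl, Sum.elim_inr, specDiag,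
        Fin.lastCases_castSucc, specMat_mulVec_inl_inr, one_mul]

/-- K-S2717-V4 (matrix identity): in the split coordinates the special similarity is `ξ` times
`diag(A, A⁻ᵀ)` with `A = diag(ξ, …, ξ, η/ξ)`, `η = c₁ - c₂ ρ`. -/
theorem spec_conj (ρ ρ' ξ c₁ c₂ : F) (h : ρ ≠ ρ') (hξ : ξ ≠ 0)
    (hη : (c₁ - c₂ * ρ) * (c₁ - c₂ * ρ') = ξ ^ 2) :
    ∃ A : GL (Fin (k + 1)) F,
      (A : Matrix (Fin (k + 1)) (Fin (k + 1)) F).det = ξ ^ k * ((c₁ - c₂ * ρ) / ξ) ∧
      Pp k ρ ρ' * specMat k (-(ρ + ρ')) (ρ * ρ') (ξ ^ 2) c₁ c₂ * Pm k ρ ρ' =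
        ξ • Matrix.fromBlocks (A : Matrix (Fin (k + 1)) (Fin (k + 1)) F) 0 0
          ((A⁻¹ : GL (Fin (k + 1)) F) : Matrix (Fin (k + 1)) (Fin (k + 1)) F)ᵀ := by
  classical
  set η : F := c₁ - c₂ * ρ with hηdef
  set η' : F := c₁ - c₂ * ρ' with hη'def
  have hξ2 : ξ ^ 2 ≠ 0 := pow_ne_zero _ hξ
  have hη0 : η ≠ 0 := fun h0 => hξ2 (by rw [← hη, h0, zero_mul])
  let dA : Fin (k + 1) → F := Fin.lastCases (η / ξ) (fun _ => ξ)
  let dAi : Fin (k + 1) → F := Fin.lastCases (ξ / η) (fun _ => ξ⁻¹)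
  have hd : ∀ i, dA i * dAi i = 1 := by
    intro i
    induction i using Fin.lastCases with
    | last =>
      simp only [dA, dAi, Fin.lastCases_last]
      field_simp
    | cast i =>
      simp only [dA, dAi, Fin.lastCases_castSucc]
      exact mul_inv_cancel₀ hξ
  have h1 : Matrix.diagonal dA * Matrix.diagonal dAi = 1 := by
    rw [Matrix.diagonal_mul_diagonal, ← Matrix.diagonal_one]
    congr 1
    funext i
    exact hd i
  have h2 : Matrix.diagonal dAi * Matrix.diagonal dA = 1 := by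
    rw [Matrix.diagonal_mul_diagonal, ← Matrix.diagonal_one]
    congr 1
    funext i
    rw [mul_comm]
    exact hd i
  refine ⟨⟨Matrix.diagonal dA, Matrix.diagonal dAi, h1, h2⟩, ?_, ?_⟩
  · show (Matrix.diagonal dA).det = _
    rw [Matrix.det_diagonal, Fin.prod_univ_castSucc]
    simp only [dA, Fin.lastCases_castSucc, Fin.lastCases_last, Finset.prod_const, Finset.card_univ,
      Fintype.card_fin]
  · show _ = ξ • Matrix.fromBlocks (Matrix.diagonal dA) 0 0 (Matrix.diagonal dAi)ᵀ
    rw [Pp_mul_specMat, Matrix.mul_assoc, (rpair_Pm_Pp k h).h2, Matrix.mul_one,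
      Matrix.diagonal_transpose, Matrix.fromBlocks_diagonal, ← Matrix.diagonal_smul]
    congr 1
    funext r
    rcases r with i | i
    · induction i using Fin.lastCases with
      | last =>
        simp only [specDiag, Sum.elim_inl, Fin.lastCases_last, Pi.smul_apply, smul_eq_mul, dA]
        rw [← hηdef]
        field_simp
      | cast i =>
        simp only [specDiag, Sum.elim_inl, Fin.lastCases_castSucc, Pi.smul_apply, smul_eq_mul, dA]
        ring
    · induction i using Fin.lastCases with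
      | last =>
        simp only [specDiag, Sum.elim_inr, Fin.lastCases_last, Pi.smul_apply, smul_eq_mul, dAi]
        rw [← hη'def]
        have : ξ * (ξ / η) = ξ ^ 2 / η := by ring
        rw [this, ← hη]
        field_simp
      | cast i =>
        simp only [specDiag, Sum.elim_inr, Fin.lastCases_castSucc, Pi.smul_apply, smul_eq_mul, dAi]
        rw [mul_inv_cancel₀ hξ]

end Cfsg.Agent.Lib.Helper05.S2717K
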