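import Mathlib

/-!
# Pack K-SN (S4073): definitions

`SN G`: every non-abelian subgroup of `G` is self-normalizing.
`CA G`: centralizers of non-identity elements are abelian.
`NN M`: every non-abelian normal subgroup of `M` is `M` itself.
`QuotHyp G`: conclusion of the quotient lemma (leaf L1), used as a hypothesis by the other leaves.
-/

set_option autoImplicit false

namespace Cfsg.Agent.Lib.Helper05.SNPack

/-- every non-abelian subgroup is self-normalizing -/
def SN (G : Type*) [Group G] : Prop :=
  ∀ H : Subgroup G, ¬ IsMulCommutative H → Subgroup.normalizer (H : Set G) = H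

/-- centralizers of non-identity elements are abelian -/
def CA (G : Type*) [Group G] : Prop :=
  ∀ x : G, x ≠ 1 → IsMulCommutative (Subgroup.centralizer ({x} : Set G))

/-- every non-abelian normal subgroup is the whole group -/
def NN (M : Type*) [Group M] : Prop :=
  ∀ H : Subgroup M, H.Normal → ¬ IsMulCommutative H → H = ⊤

/-- the quotient lemma, as a hypothesis: for an abelian subgroup `U`, either `N(U) = C(U)`, or `C(U)` is
abelian and `|N(U) : C(U)|` is prime -/
def QuotHyp (G : Type*) [Group G] : Prop :=
  ∀ U : Subgroup G, IsMulCommutative U →
    Subgroup.normalizer (U : Set G) ≤ Subgroup.centralizer (U : Set G) ∨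
      (IsMulCommutative (Subgroup.centralizer (U : Set G)) ∧
        ((Subgroup.centralizer (U : Set G)).relIndex (Subgroup.normalizer (U : Set G))).Prime)

end Cfsg.Agent.Lib.Helper05.SNPack
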