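import Mathlib
import Cfsg.Prelude.Def_JordanBlocks
import Cfsg.Agent.Lib.Helper73.UCDefs
import Cfsg.Agent.Lib.Helper73.SPCDefs
import Cfsg.Agent.Lib.Helper29.SPCC5
import Cfsg.Agent.Lib.Helper62.SPCC6
import Cfsg.Agent.Lib.Helper10.SPCC4

/-!
# K-SPC-C7 (267616): congruent signed Hankel forms have congruent top blocks.
-/

set_option autoImplicit false

namespace Cfsg.Agent.Lib.Helper05.SPC

open Matrix Cfsg.Agent.Lib.Helper73.UC Cfsg.Agent.Lib.Helper73.SPC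

variable {F : Type*} [Field F]

/-- hypothesis form of C7: `H5` is the statement of C5 (`topBlock_mul`), `H6` of C6 (`tau_mul`). -/
theorem congRel_topBlock_of {t : ℕ} (d : Fin t → ℕ) (hd : ∀ k, 1 ≤ d k)
    (H5 : ∀ (c c' : CIdx d → F) (x y : Matrix (JI d) (JI d) F), x * nilM d F = nilM d F * x →
      y * nilM d F = nilM d F * y → xᵀ * shankel d c * y = shankel d c' → ∀ i : ℕ,
      topBlock d hd c' i =
        (Matrix.of fun l k : {k : Fin t // d k = i} => x ⟨l.1, ⟨0, hd l.1⟩⟩ ⟨k.1, ⟨0, hd k.1⟩⟩)ᵀ *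
          topBlock d hd c i *
        (Matrix.of fun l k : {k : Fin t // d k = i} => y ⟨l.1, ⟨0, hd l.1⟩⟩ ⟨k.1, ⟨0, hd k.1⟩⟩))
    (H6 : ∀ (x y : Matrix (JI d) (JI d) F), x * nilM d F = nilM d F * x →
      y * nilM d F = nilM d F * y → ∀ i : ℕ,
      (Matrix.of fun l k : {k : Fin t // d k = i} =>
          (x * y) ⟨l.1, ⟨0, hd l.1⟩⟩ ⟨k.1, ⟨0, hd k.1⟩⟩) =
        (Matrix.of fun l k : {k : Fin t // d k = i} => x ⟨l.1, ⟨0, hd l.1⟩⟩ ⟨k.1, ⟨0, hd k.1⟩⟩) *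
        (Matrix.of fun l k : {k : Fin t // d k = i} => y ⟨l.1, ⟨0, hd l.1⟩⟩ ⟨k.1, ⟨0, hd k.1⟩⟩))
    (c c' : CIdx d → F)
    (h : CongRel (nilM d F) (shankel d c) (shankel d c')) (i : ℕ) :
    CongRel (1 : Matrix {k : Fin t // d k = i} {k : Fin t // d k = i} F)
      (topBlock d hd c i) (topBlock d hd c' i) := by
  obtain ⟨x, hx, hxN, hxB⟩ := h
  have h1 : x * x⁻¹ = 1 := Matrix.mul_nonsing_inv x hx
  have h2 : x⁻¹ * x = 1 := Matrix.nonsing_inv_mul x hx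
  have hxiN : x⁻¹ * nilM d F = nilM d F * x⁻¹ := by
    calc x⁻¹ * nilM d F = x⁻¹ * nilM d F * (x * x⁻¹) := by rw [h1, mul_one]
      _ = x⁻¹ * (nilM d F * x) * x⁻¹ := by simp only [mul_assoc]
      _ = x⁻¹ * (x * nilM d F) * x⁻¹ := by rw [hxN]
      _ = (x⁻¹ * x) * nilM d F * x⁻¹ := by simp only [mul_assoc]
      _ = nilM d F * x⁻¹ := by rw [h2, one_mul]
  have hmul := H6 x x⁻¹ hxN hxiN i
  rw [h1] at hmul
  have hone : (Matrix.of fun l k : {k : Fin t // d k = i} =>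
      (1 : Matrix (JI d) (JI d) F) ⟨l.1, ⟨0, hd l.1⟩⟩ ⟨k.1, ⟨0, hd k.1⟩⟩) = 1 := by
    ext l k
    simp only [Matrix.of_apply, Matrix.one_apply]
    by_cases hlk : l = k
    · subst hlk; simp
    · rw [if_neg hlk, if_neg]
      intro heq
      apply hlk
      apply Subtype.ext
      exact congrArg Sigma.fst heq
  rw [hone] at hmul
  refine ⟨Matrix.of fun l k : {k : Fin t // d k = i} => x ⟨l.1, ⟨0, hd l.1⟩⟩ ⟨k.1, ⟨0, hd k.1⟩⟩,
    ?_, ?_, ?_⟩
  · exact Matrix.isUnit_det_of_right_inverse hmul.symm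
  · rw [mul_one, one_mul]
  · exact (H5 c c' x x hxN hxN hxB i).symm

/-- LEAF C7 (invariance). -/
theorem congRel_topBlock {t : ℕ} (d : Fin t → ℕ) (hd : ∀ k, 1 ≤ d k) (c c' : CIdx d → F)
    (h : CongRel (nilM d F) (shankel d c) (shankel d c')) (i : ℕ) :
    CongRel (1 : Matrix {k : Fin t // d k = i} {k : Fin t // d k = i} F)
      (topBlock d hd c i) (topBlock d hd c' i) :=
  congRel_topBlock_of d hd
    (fun c c' x y hx hy h i => Cfsg.Agent.Lib.Helper29.SPC.topBlock_mul_of d hd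
      (fun x hx l k b a => Cfsg.Agent.Lib.Helper10.SPC.commute_nilM_entries d x hx l k b a)
      c c' x y hx hy h i)
    (fun x y hx hy i => Cfsg.Agent.Lib.Helper62.SPC.tau_mul d hd x y hx hy i) c c' h i

end Cfsg.Agent.Lib.Helper05.SPC
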