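import Mathlib
import Cfsg.Prelude.Def_GeometricClasses
import Cfsg.Agent.Lib.Helper61.AschDefs
import Cfsg.Agent.Lib.Helper43.SpAschDefs
import Cfsg.Agent.Lib.Helper43.SpAschDefs2
import Cfsg.Agent.Lib.Helper36.SLMaxD2

/-!
# K-SpAsch-S2b: a paired transitive decomposition gives a nondegenerate decomposition or a totally singular pair
-/

set_option autoImplicit false

namespace Cfsg.Agent.Lib.Helper05.SpAsch

open Cfsg Cfsg.Geo Cfsg.Agent.Lib.Helper61.Asch Cfsg.Agent.Lib.Helper43.SpAsch
open scoped Matrix Kronecker MatrixGroups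

variable {F : Type*} [Field F] {n : ℕ}

local notation "V" => (Fin n → F)
local notation "Mat" => Matrix (Fin n) (Fin n) F

theorem s2b_zero_left {f : V → V → F} (hf : IsBilinearForm f) (w : V) : f 0 w = 0 := by
  have := hf.smul_left 0 0 w
  simpa using this

theorem s2b_zero_right {f : V → V → F} (hf : IsBilinearForm f) (w : V) : f w 0 = 0 := by
  have := hf.smul_right 0 w 0
  simpa using this

/-- if `f · w` vanishes on a spanning family it vanishes -/
theorem s2b_left_vanish {f : V → V → F} (hf : IsBilinearForm f) {t : ℕ} (D : Fin t → Submodule F V)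
    (hsup : iSup D = ⊤) (w : V) (h : ∀ j, ∀ x ∈ D j, f x w = 0) : ∀ x, f x w = 0 := by
  let N : Submodule F V :=
    { carrier := {x | f x w = 0}
      add_mem' := fun {a b} ha hb => by
        show f (a + b) w = 0
        rw [hf.add_left, ha, hb, add_zero]
      zero_mem' := s2b_zero_left hf w
      smul_mem' := fun c a ha => by
        show f (c • a) w = 0
        rw [hf.smul_left, ha, mul_zero] }
  have hle : iSup D ≤ N := iSup_le fun j x hx => h j x hx
  intro x
  exact hle (hsup ▸ Submodule.mem_top)

theorem s2b_right_vanish {f : V → V → F} (hf : IsBilinearForm f) {t : ℕ} (D : Fin t → Submodule F V)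
    (hsup : iSup D = ⊤) (w : V) (h : ∀ j, ∀ x ∈ D j, f w x = 0) : ∀ x, f w x = 0 := by
  let N : Submodule F V :=
    { carrier := {x | f w x = 0}
      add_mem' := fun {a b} ha hb => by
        show f w (a + b) = 0
        rw [hf.add_right, ha, hb, add_zero]
      zero_mem' := s2b_zero_right hf w
      smul_mem' := fun c a ha => by
        show f w (c • a) = 0
        rw [hf.smul_right, ha, mul_zero] }
  have hle : iSup D ≤ N := iSup_le fun j x hx => h j x hx
  intro x
  exact hle (hsup ▸ Submodule.mem_top)

theorem s2b_orth_symm {f : V → V → F} (hf : IsSymplecticForm f) (W W' : Submodule F V)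
    (h : AreOrthogonalFor f W W') : AreOrthogonalFor f W' W := by
  intro u hu v hv
  rw [hf.skew, h v hv u hu, neg_zero]

theorem s2b_orth_sup_left {f : V → V → F} (hf : IsBilinearForm f) (W₁ W₂ W : Submodule F V)
    (h₁ : AreOrthogonalFor f W₁ W) (h₂ : AreOrthogonalFor f W₂ W) : AreOrthogonalFor f (W₁ ⊔ W₂) W := by
  intro u hu v hv
  obtain ⟨u₁, hu₁, u₂, hu₂, rfl⟩ := Submodule.mem_sup.mp hu
  rw [hf.add_left, h₁ u₁ hu₁ v hv, h₂ u₂ hu₂ v hv, add_zero]

theorem s2b_orth_sup_right {f : V → V → F} (hf : IsBilinearForm f) (W W₁ W₂ : Submodule F V)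
    (h₁ : AreOrthogonalFor f W W₁) (h₂ : AreOrthogonalFor f W W₂) : AreOrthogonalFor f W (W₁ ⊔ W₂) := by
  intro u hu v hv
  obtain ⟨v₁, hv₁, v₂, hv₂, rfl⟩ := Submodule.mem_sup.mp hv
  rw [hf.add_right, h₁ u hu v₁ hv₁, h₂ u hu v₂ hv₂, add_zero]

/-- similarities preserve orthogonality -/
theorem s2b_orth_map {f : V → V → F} (g : GL (Fin n) F) (hg : g ∈ similarityGroup f)
    (W W' : Submodule F V)
    (h : AreOrthogonalFor f (W.map (Matrix.toLin' (g : Mat))) (W'.map (Matrix.toLin' (g : Mat)))) :
    AreOrthogonalFor f W W' := by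
  obtain ⟨c, hc⟩ := hg
  intro u hu v hv
  have h1 := h _ (Submodule.mem_map_of_mem hu) _ (Submodule.mem_map_of_mem hv)
  rw [Matrix.toLin'_apply, Matrix.toLin'_apply, hc] at h1
  rcases mul_eq_zero.mp h1 with h2 | h2
  · exact absurd h2 c.ne_zero
  · exact h2

/-- representatives of the orbits of a fixed-point-free involution of `Fin t` -/
theorem s2b_reps {t : ℕ} (σ : Fin t → Fin t) (hinv : ∀ i, σ (σ i) = i) (hne : ∀ i, σ i ≠ i) :
    ∃ (s : ℕ) (rep : Fin s → Fin t), Function.Injective rep ∧ (∀ a b, rep a ≠ σ (rep b)) ∧
      (∀ i, ∃ a, i = rep a ∨ i = σ (rep a)) ∧ t ≤ 2 * s := by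
  classical
  let O := {i : Fin t // i < σ i}
  let eo : O ≃ Fin (Fintype.card O) := Fintype.equivFin O
  let rep : Fin (Fintype.card O) → Fin t := fun a => (eo.symm a).1
  have hrep_lt : ∀ a, rep a < σ (rep a) := fun a => (eo.symm a).2
  have hinj : Function.Injective rep := Subtype.val_injective.comp eo.symm.injective
  have hR2 : ∀ a b, rep a ≠ σ (rep b) := by
    intro a b h
    have h1 := hrep_lt a
    have h2 := hrep_lt b
    rw [h, hinv] at h1
    exact lt_asymm h1 h2
  have hR3 : ∀ i, ∃ a, i = rep a ∨ i = σ (rep a) := by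
    intro i
    by_cases h : i < σ i
    · refine ⟨eo ⟨i, h⟩, Or.inl ?_⟩
      show i = (eo.symm (eo ⟨i, h⟩)).1
      rw [Equiv.symm_apply_apply]
    · have h' : σ i < σ (σ i) := by
        rw [hinv]
        exact lt_of_le_of_ne (not_lt.mp h) (hne i)
      refine ⟨eo ⟨σ i, h'⟩, Or.inr ?_⟩
      show i = σ (eo.symm (eo ⟨σ i, h'⟩)).1
      rw [Equiv.symm_apply_apply, hinv]
  refine ⟨Fintype.card O, rep, hinj, hR2, hR3, ?_⟩
  choose cls hcls using hR3
  let φ : Fin t → Fin (Fintype.card O) × Bool := fun i => (cls i, decide (i = rep (cls i)))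
  have hφ : Function.Injective φ := by
    intro i j hij
    have h1 : cls i = cls j := congrArg Prod.fst hij
    have h2 : decide (i = rep (cls i)) = decide (j = rep (cls j)) := congrArg Prod.snd hij
    by_cases hi : i = rep (cls i)
    · have hj : j = rep (cls j) := by
        have : decide (j = rep (cls j)) = true := by rw [← h2]; exact decide_eq_true hi
        exact of_decide_eq_true this
      rw [hi, hj, h1]
    · have hj : ¬ j = rep (cls j) := by
        intro hj
        have : decide (i = rep (cls i)) = true := by rw [h2]; exact decide_eq_true hj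
        exact hi (of_decide_eq_true this)
      have hi' := (hcls i).resolve_left hi
      have hj' := (hcls j).resolve_left hj
      rw [hi', hj', h1]
  have := Fintype.card_le_of_injective φ hφ
  simpa [Fintype.card_prod, mul_comm] using this

/-- **K-SpAsch-S2b**. -/
theorem sgeom_or_tsPair_of_paired_decomposition [Fintype F] {f : V → V → F} (hf : IsSymplecticForm f)
    (K : Subgroup (GL (Fin n) F)) (hKΔ : K ≤ similarityGroup f) {t m : ℕ} (D : Fin t → Submodule F V)
    (hD : IsMDecomposition m D) (hKD : K ≤ decompositionStabilizer D)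
    (htrans : ∀ i j, ∃ k ∈ K, (D i).map (Matrix.toLin' (k : Mat)) = D j)
    (hpair : ∀ i, ∃ j, ∀ l, l ≠ j → AreOrthogonalFor f (D i) (D l)) :
    SGeom f K ∨ ∃ (k : ℕ) (D' : Fin 2 → Submodule F V), 2 * k = n ∧ IsMDecomposition k D' ∧
      (∀ i, IsTotallySingularFor f (D' i)) ∧ K ≤ decompositionStabilizer D' := by
  classical
  have hbil := hf.bilinear
  have hne : ∀ i, D i ≠ ⊥ := by
    intro i h
    have h1 := hD.finrank_eq i
    rw [h, finrank_bot] at h1
    have := hD.pos
    omega
  have hinj : Function.Injective D := hD.indep.injective hne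
  have hex : ∀ i, ∃ j, ¬ AreOrthogonalFor f (D i) (D j) := by
    intro i
    by_contra hcon
    push Not at hcon
    obtain ⟨w, hwD, hw0⟩ := (Submodule.ne_bot_iff _).mp (hne i)
    obtain ⟨x, hx⟩ := (hf.nondegenerate w hw0).2
    exact hx (s2b_right_vanish hbil D hD.iSup_eq_top w (fun j y hy => hcon j w hwD y hy) x)
  choose σ hσ using hpair
  have hNO : ∀ i, ¬ AreOrthogonalFor f (D i) (D (σ i)) := by
    intro i
    obtain ⟨j, hj⟩ := hex i
    by_cases h : j = σ i
    · rwa [h] at hj
    · exact absurd (hσ i j h) hj
  have huniq : ∀ i j, ¬ AreOrthogonalFor f (D i) (D j) → j = σ i := by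
    intro i j h
    by_contra hne'
    exact h (hσ i j hne')
  have hinvol : ∀ i, σ (σ i) = i := by
    intro i
    have : ¬ AreOrthogonalFor f (D (σ i)) (D i) := fun h => hNO i (s2b_orth_symm hf _ _ h)
    exact (huniq (σ i) i this).symm
  have hequiv : ∀ g ∈ K, ∀ π : Equiv.Perm (Fin t),
      (∀ i, (D i).map (Matrix.toLin' (g : Mat)) = D (π i)) → ∀ i, σ (π i) = π (σ i) := by
    intro g hg π hπ i
    symm
    apply huniq
    intro h
    rw [← hπ i, ← hπ (σ i)] at h
    exact hNO i (s2b_orth_map g (hKΔ hg) _ _ h)
  by_cases hfix : ∃ i, σ i = i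
  · obtain ⟨i0, hi0⟩ := hfix
    have hall : ∀ j, σ j = j := by
      intro j
      obtain ⟨g, hg, hgij⟩ := htrans i0 j
      obtain ⟨π, hπ⟩ := hKD hg
      have hπi : π i0 = j := hinj (by rw [← hπ i0, hgij])
      rw [← hπi, hequiv g hg π hπ i0, hi0]
    left
    refine SGeom.dec m D ⟨hD, ?_, ?_⟩ hKD
    · intro i w hw hw0
      constructor
      · by_contra hcon
        push Not at hcon
        obtain ⟨x, hx⟩ := (hf.nondegenerate w hw0).1
        apply hx
        apply s2b_left_vanish hbil D hD.iSup_eq_top w
        intro j y hy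
        by_cases hji : j = i
        · subst hji
          exact hcon y hy
        · exact hσ j i (by rw [hall j]; exact fun h => hji h.symm) y hy w hw
      · by_contra hcon
        push Not at hcon
        obtain ⟨x, hx⟩ := (hf.nondegenerate w hw0).2
        apply hx
        apply s2b_right_vanish hbil D hD.iSup_eq_top w
        intro j y hy
        by_cases hji : j = i
        · subst hji
          exact hcon y hy
        · exact hσ i j (by rw [hall i]; exact hji) w hw y hy
    · intro i j hij
      exact hσ i j (by rw [hall i]; exact fun h => hij h.symm)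
  · push Not at hfix
    have hts : ∀ i, IsTotallySingularFor f (D i) := fun i => hσ i i (fun h => hfix i h.symm)
    by_cases ht2 : t = 2
    · subst ht2
      refine Or.inr ⟨m, D, ?_, hD, hts, hKD⟩
      exact Cfsg.Agent.Lib.Helper36.SLMax.mul_eq_of_isMDecomposition D hD
    · left
      have ht3 : 3 ≤ t := by
        have := hD.two_le
        omega
      obtain ⟨s, rep, hR1, hR2, hR3, hts2⟩ := s2b_reps σ hinvol hfix
      have hs2 : 2 ≤ s := by omega
      have hσinj : Function.Injective σ := fun a b h => by rw [← hinvol a, h, hinvol]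
      let E : Fin t → Submodule F V := fun i => D i ⊔ D (σ i)
      have hEσ : ∀ i, E (σ i) = E i := by
        intro i
        show D (σ i) ⊔ D (σ (σ i)) = D i ⊔ D (σ i)
        rw [hinvol, sup_comm]
      choose cls hcls using hR3
      have hEcls : ∀ i, E (rep (cls i)) = E i := by
        intro i
        rcases hcls i with h | h
        · rw [← h]
        · rw [← hEσ (rep (cls i)), ← h]
      have horth : ∀ i j, j ≠ σ i → AreOrthogonalFor f (D i) (D j) := fun i j h => hσ i j h
      have hED : ∀ i j, j ≠ i → j ≠ σ i → AreOrthogonalFor f (E i) (D j) := by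
        intro i j h1 h2
        apply s2b_orth_sup_left hbil
        · exact horth i j h2
        · exact horth (σ i) j (by rw [hinvol]; exact h1)
      have hDE : ∀ i j, j ≠ i → j ≠ σ i → AreOrthogonalFor f (D j) (E i) :=
        fun i j h1 h2 => s2b_orth_symm hf _ _ (hED i j h1 h2)
      let D2 : Fin s → Submodule F V := fun a => E (rep a)
      have hmd : IsMDecomposition (2 * m) D2 := by
        refine ⟨hs2, by have := hD.pos; omega, ?_, ?_, ?_⟩
        · intro a
          have hdisj : Disjoint (D (rep a)) (D (σ (rep a))) :=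
            hD.indep.pairwiseDisjoint (fun h => hfix _ h.symm)
          have h1 := Submodule.finrank_sup_add_finrank_inf_eq (D (rep a)) (D (σ (rep a)))
          rw [hdisj.eq_bot, finrank_bot, hD.finrank_eq, hD.finrank_eq] at h1
          show Module.finrank F ↥(D (rep a) ⊔ D (σ (rep a))) = 2 * m
          omega
        · rw [iSupIndep_def]
          intro a
          have h1 : D2 a ≤ ⨆ i ∈ ({rep a, σ (rep a)} : Set (Fin t)), D i := by
            apply sup_le
            · exact le_biSup D (Set.mem_insert _ _)
            · exact le_biSup D (Set.mem_insert_of_mem _ rfl)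
          have h2 : (⨆ (b) (_ : b ≠ a), D2 b) ≤
              ⨆ i ∈ ({i | i ≠ rep a ∧ i ≠ σ (rep a)} : Set (Fin t)), D i := by
            apply iSup₂_le
            intro b hb
            apply sup_le
            · exact le_biSup D (show rep b ∈ {i | i ≠ rep a ∧ i ≠ σ (rep a)} from
                ⟨fun h => hb (hR1 h), hR2 b a⟩)
            · exact le_biSup D (show σ (rep b) ∈ {i | i ≠ rep a ∧ i ≠ σ (rep a)} from
                ⟨fun h => hR2 a b h.symm, fun h => hb (hR1 (hσinj h))⟩)
          refine Disjoint.mono h1 h2 (hD.indep.disjoint_biSup_biSup' ?_ (Set.toFinite _))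
          rw [Set.disjoint_left]
          rintro i hi ⟨h1, h2⟩
          rcases hi with rfl | hi
          · exact h1 rfl
          · exact h2 hi
        · rw [eq_top_iff, ← hD.iSup_eq_top]
          apply iSup_le
          intro i
          have h1 : D i ≤ E i := le_sup_left
          rw [← hEcls i] at h1
          exact h1.trans (le_iSup D2 (cls i))
      refine SGeom.dec (2 * m) D2 ⟨hmd, ?_, ?_⟩ ?_
      · intro a w hw hw0
        constructor
        · by_contra hcon
          push Not at hcon
          obtain ⟨x, hx⟩ := (hf.nondegenerate w hw0).1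
          apply hx
          apply s2b_left_vanish hbil D hD.iSup_eq_top w
          intro j y hy
          by_cases hj1 : j = rep a
          · exact hcon y (by subst hj1; exact Submodule.mem_sup_left hy)
          by_cases hj2 : j = σ (rep a)
          · exact hcon y (by subst hj2; exact Submodule.mem_sup_right hy)
          exact hDE (rep a) j hj1 hj2 y hy w hw
        · by_contra hcon
          push Not at hcon
          obtain ⟨x, hx⟩ := (hf.nondegenerate w hw0).2
          apply hx
          apply s2b_right_vanish hbil D hD.iSup_eq_top w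
          intro j y hy
          by_cases hj1 : j = rep a
          · exact hcon y (by subst hj1; exact Submodule.mem_sup_left hy)
          by_cases hj2 : j = σ (rep a)
          · exact hcon y (by subst hj2; exact Submodule.mem_sup_right hy)
          exact hED (rep a) j hj1 hj2 w hw y hy
      · intro a b hab
        apply s2b_orth_sup_right hbil
        · exact hED (rep a) (rep b) (fun h => hab (hR1 h).symm) (hR2 b a)
        · exact hED (rep a) (σ (rep b)) (fun h => hR2 a b h.symm)
            (fun h => hab (hR1 (hσinj h)).symm)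
      · intro g hg
        obtain ⟨π, hπ⟩ := hKD hg
        have hcomm := hequiv g hg π hπ
        have hmapE : ∀ i, (E i).map (Matrix.toLin' (g : Mat)) = E (π i) := by
          intro i
          show (D i ⊔ D (σ i)).map _ = D (π i) ⊔ D (σ (π i))
          rw [Submodule.map_sup, hπ, hπ, hcomm]
        let τ : Fin s → Fin s := fun a => cls (π (rep a))
        have hτinj : Function.Injective τ := by
          intro a a' h
          have h1 := hcls (π (rep a))
          have h2 := hcls (π (rep a'))
          rw [show cls (π (rep a')) = cls (π (rep a)) from h.symm] at h2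
          have key : π (rep a) = π (rep a') ∨ π (rep a) = σ (π (rep a')) := by
            rcases h1 with h1 | h1 <;> rcases h2 with h2 | h2
            · left; exact h1.trans h2.symm
            · right; rw [h2, hinvol]; exact h1
            · right; rw [h2]; exact h1
            · left; exact h1.trans h2.symm
          rcases key with key | key
          · exact hR1 (π.injective key)
          · rw [hcomm] at key
            exact absurd (π.injective key) (hR2 a a')
        have hτbij : Function.Bijective τ := Finite.injective_iff_bijective.mp hτinj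
        show ∃ ρ : Equiv.Perm (Fin s), ∀ a, (D2 a).map (Matrix.toLin' (g : Mat)) = D2 (ρ a)
        refine ⟨Equiv.ofBijective τ hτbij, fun a => ?_⟩
        show (E (rep a)).map _ = E (rep (cls (π (rep a))))
        rw [hmapE, hEcls]

end Cfsg.Agent.Lib.Helper05.SpAsch
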