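import Mathlib
import Cfsg.Prelude.Def_GeometricClasses
import Cfsg.Agent.Lib.Helper11.SpMax

/-!
# K-SpMax-N3: `Sp_{2m}` (m ≥ 2) does not normalise a field subalgebra of degree ≥ 2
-/

set_option autoImplicit false

namespace Cfsg.Agent.Lib.Helper05.SpMax

open Cfsg Cfsg.Geo Cfsg.Agent.Lib.Helper18 Cfsg.Agent.Lib.Helper11.SpMax
open scoped Matrix MatrixGroups

variable {F : Type*} [Field F]

/-- a matrix for which every vector is an eigenvector is scalar (general finite index type). -/
theorem n3_scalar_of_forall_mem_span {ι : Type} [Fintype ι] [DecidableEq ι] (k : Matrix ι ι F)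
    (h : ∀ v : ι → F, k *ᵥ v ∈ Submodule.span F {v}) : ∃ c : F, k = c • (1 : Matrix ι ι F) := by
  classical
  rcases isEmpty_or_nonempty ι with hn | hn
  · exact ⟨0, by ext i; exact (IsEmpty.false i).elim⟩
  obtain ⟨i0⟩ := hn
  have hc : ∀ v : ι → F, ∃ c : F, k *ᵥ v = c • v := by
    intro v
    obtain ⟨c, hc⟩ := Submodule.mem_span_singleton.mp (h v)
    exact ⟨c, hc.symm⟩
  choose c hcv using hc
  have hcol : ∀ i a : ι, k a i = c (Pi.single i 1) * (if a = i then 1 else 0) := by
    intro i a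
    have := congrFun (hcv (Pi.single i 1)) a
    simpa [Matrix.mulVec_single_one, Pi.single_apply] using this
  have hoff : ∀ i a : ι, a ≠ i → k a i = 0 := by
    intro i a hai
    rw [hcol i a, if_neg hai, mul_zero]
  have heq : ∀ i j : ι, k i i = k j j := by
    intro i j
    by_cases hij : i = j
    · rw [hij]
    have h1 := hcv (Pi.single i 1 + Pi.single j 1)
    have hi := congrFun h1 i
    have hj := congrFun h1 j
    rw [Matrix.mulVec_add] at hi hj
    simp only [Matrix.mulVec_single_one, Pi.add_apply, Pi.smul_apply, Pi.single_apply, smul_eq_mul,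
      Matrix.col_apply] at hi hj
    rw [hoff j i hij] at hi
    rw [hoff i j (Ne.symm hij)] at hj
    simp [hij] at hi
    simp [Ne.symm hij] at hj
    rw [hi, hj]
  refine ⟨k i0 i0, ?_⟩
  ext a i
  by_cases hai : a = i
  · subst hai
    simp [heq a i0]
  · rw [hoff i a hai]
    simp [Matrix.one_apply_ne hai]

/-- a subalgebra all of whose elements are scalar has finrank at most one. -/
theorem n3_exists_not_scalar {ι : Type} [Fintype ι] [DecidableEq ι] {r : ℕ} (hr : 2 ≤ r)
    (K : Subalgebra F (Matrix ι ι F)) (hK : Module.finrank F K = r) :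
    ∃ k ∈ K, ¬ ∃ c : F, k = c • (1 : Matrix ι ι F) := by
  by_contra hcon
  push Not at hcon
  have hle : Subalgebra.toSubmodule K ≤ Submodule.span F {(1 : Matrix ι ι F)} := by
    intro x hx
    obtain ⟨c, hc⟩ := hcon x hx
    rw [hc]
    exact Submodule.smul_mem _ _ (Submodule.mem_span_singleton_self _)
  have h1 : Module.finrank F (Subalgebra.toSubmodule K) ≤ 1 :=
    (Submodule.finrank_mono hle).trans ((finrank_span_le_card ({(1 : Matrix ι ι F)} : Set _)).trans (by simp))
  have h2 : Module.finrank F (Subalgebra.toSubmodule K) = r := hK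
  omega

theorem sp_not_le_subalgebraNormalizer {m : ℕ} (hm : 2 ≤ m) {r : ℕ} (hr : 2 ≤ r)
    (K : Subalgebra F (Matrix (Fin m ⊕ Fin m) (Fin m ⊕ Fin m) F)) (hK : IsFieldSubalgebra r K) :
    ¬ spGL m F ≤ subalgebraNormalizer K := by
  classical
  intro hSp
  obtain ⟨k, hkK, hks⟩ := n3_exists_not_scalar hr K hK.finrank_eq
  -- a vector that is not an eigenvector
  obtain ⟨u, hu⟩ : ∃ u : Fin m ⊕ Fin m → F, k *ᵥ u ∉ Submodule.span F {u} := by
    by_contra hcon
    push Not at hcon
    exact hks (n3_scalar_of_forall_mem_span k hcon)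
  have hu0 : u ≠ 0 := by
    rintro rfl
    apply hu
    rw [Matrix.mulVec_zero]
    exact Submodule.zero_mem _
  -- the transvection normalises `K`
  have htN := hSp (tg_mem m u (1 : F))
  have hmem : ((tg m u (1 : F) : GL (Fin m ⊕ Fin m) F) : Matrix _ _ F) * k *
      (((tg m u (1 : F))⁻¹ : GL (Fin m ⊕ Fin m) F) : Matrix _ _ F) ∈ K := (htN k).mp hkK
  set D : Matrix (Fin m ⊕ Fin m) (Fin m ⊕ Fin m) F :=
    ((tg m u (1 : F) : GL (Fin m ⊕ Fin m) F) : Matrix _ _ F) * k *
      (((tg m u (1 : F))⁻¹ : GL (Fin m ⊕ Fin m) F) : Matrix _ _ F) - k with hD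
  have hDK : D ∈ K := K.sub_mem hmem hkK
  -- the action of `D`
  have hDx : ∀ x : Fin m ⊕ Fin m → F, D *ᵥ x =
      (-(sympForm m F x u)) • (k *ᵥ u) +
        (sympForm m F (k *ᵥ x) u - sympForm m F x u * sympForm m F (k *ᵥ u) u) • u := by
    intro x
    have h1 : (((tg m u (1 : F))⁻¹ : GL (Fin m ⊕ Fin m) F) : Matrix _ _ F) *ᵥ x =
        x + (-(sympForm m F x u)) • u := by
      rw [tg_inv]
      have := tg_act m u (-1 : F) x
      rw [this]
      congr 2
      ring
    rw [hD, Matrix.sub_mulVec, ← Matrix.mulVec_mulVec, ← Matrix.mulVec_mulVec, h1,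
      Matrix.mulVec_add, Matrix.mulVec_smul]
    have h2 := tg_act m u (1 : F) (k *ᵥ x + (-(sympForm m F x u)) • k *ᵥ u)
    rw [h2, sf_add_left, sf_smul_left]
    simp only [one_mul, neg_mul, neg_smul, add_smul, sub_smul]
    abel
  -- `D ≠ 0`
  obtain ⟨y0, hy0⟩ := sf_nondeg_top m u hu0
  have hy0' : sympForm m F y0 u ≠ 0 := by
    rw [sf_swap]
    exact neg_ne_zero.mpr hy0
  have hD0 : D ≠ 0 := by
    intro h0
    have h1 := hDx y0
    rw [h0, Matrix.zero_mulVec] at h1
    apply hu
    -- solve for `k u`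
    have h2 : (sympForm m F y0 u) • (k *ᵥ u) =
        (sympForm m F (k *ᵥ y0) u - sympForm m F y0 u * sympForm m F (k *ᵥ u) u) • u := by
      have := h1
      rw [neg_smul] at this
      have h3 := eq_neg_of_add_eq_zero_left this.symm
      exact neg_injective h3
    have h4 : k *ᵥ u = (sympForm m F y0 u)⁻¹ •
        ((sympForm m F (k *ᵥ y0) u - sympForm m F y0 u * sympForm m F (k *ᵥ u) u) • u) := by
      rw [← h2, smul_smul, inv_mul_cancel₀ hy0', one_smul]
    rw [h4]
    exact Submodule.smul_mem _ _ (Submodule.smul_mem _ _ (Submodule.mem_span_singleton_self u))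
  obtain ⟨y, -, hy⟩ := hK.inv D hDK hD0
  -- every vector lies in the span of `u` and `k u`
  have htop : (⊤ : Submodule F (Fin m ⊕ Fin m → F)) ≤ Submodule.span F {u, k *ᵥ u} := by
    intro x _
    have hx : x = D *ᵥ (y *ᵥ x) := by
      rw [Matrix.mulVec_mulVec, hy, Matrix.one_mulVec]
    rw [hx, hDx]
    refine Submodule.add_mem _ (Submodule.smul_mem _ _ (Submodule.subset_span ?_))
      (Submodule.smul_mem _ _ (Submodule.subset_span ?_))
    · exact Set.mem_insert_of_mem _ rfl
    · exact Set.mem_insert _ _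
  have h1 : Module.finrank F (⊤ : Submodule F (Fin m ⊕ Fin m → F)) ≤
      Module.finrank F (Submodule.span F ({u, k *ᵥ u} : Set (Fin m ⊕ Fin m → F))) :=
    Submodule.finrank_mono htop
  have h2 : Module.finrank F (Submodule.span F ({u, k *ᵥ u} : Set (Fin m ⊕ Fin m → F))) ≤ 2 := by
    have := finrank_span_finset_le_card (R := F) ({u, k *ᵥ u} : Finset (Fin m ⊕ Fin m → F))
    have hc : ({u, k *ᵥ u} : Finset (Fin m ⊕ Fin m → F)).card ≤ 2 := Finset.card_le_two
    have hcoe : ((({u, k *ᵥ u} : Finset (Fin m ⊕ Fin m → F)) : Set (Fin m ⊕ Fin m → F))) =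
        {u, k *ᵥ u} := by
      simp
    rw [hcoe] at this
    unfold Set.finrank at this
    omega
  rw [finrank_top, Module.finrank_fintype_fun_eq_card] at h1
  simp only [Fintype.card_sum, Fintype.card_fin] at h1
  omega

end Cfsg.Agent.Lib.Helper05.SpMax
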